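import Cfsg.Agent.Lib.Fusion.System.Meet.ProductAut

/-!
# Lifting the automorphisms in the product to the local subgroup

For `E` normal in `F` and `R ≤ T` fully normalized and self-centralizing in `T`, the local subgroup
induces `Aut_E(R)` on `R` and, on every `P` with `P ∩ T = R`, all the automorphisms of order prime
to `p` in `aSub`. An automorphism in `aSub` of order prime to `p` commutes with `delta` modulo
conjugations by `Z(P ∩ T)`.
-/

set_option autoImplicit false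
set_option maxHeartbeats 1000000
set_option linter.style.haveILetI false
set_option linter.unusedSectionVars false

open Subgroup
open scoped Classical Pointwise

namespace CfsgLib.Fusion.Product

open Cfsg (FusionSystem autInducedBy)
open Cfsg.FusionSystem (normalizerIn centralizerIn preimageAlong)
open CfsgLib.Fusion CfsgLib.Fusion.CentLift CfsgLib.Fusion.Meet

universe u

variable {Ω : Type u} [Group Ω] {S T : Subgroup Ω} {F : FusionSystem S} {p : ℕ}
  {E : FusionSystem T} {P Q R X : Subgroup Ω} {f g : Ω → Ω} [Finite S] [Fact p.Prime]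
  (h : Setup F p E E T) (hE : E.IsNormalIn F p)
include h hE

/-- The local subgroup induces all of `Aut_E(R)`. -/
theorem autGroup_le_mGroup (M : LModel F p R) (hR : F.IsFullyNormalized R) (hRs : SelfC F T R) :
    E.autGroup R ≤ M.mGroup h hRs.le := by
  have hRT := hRs.le
  have hTp := h.pgroup.to_le h.hTS
  haveI := finite_of_le h.hTS
  have hRc := IsSaturated.isFullyCentralized h.pgroup h.sat hR
  have hRE := isFullyNormalized_of_stronglyClosed h.pgroup h.sat h.closed h.side₁.sub hRT hR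
  have key : ∀ γ ∈ E.autGroup R, (orderOf γ).Coprime p → γ ∈ M.mGroup h hRT := by
    intro γ hγ hco
    obtain ⟨a, ha, had, hae⟩ := dlift h hE hRs hRc hγ
    haveI := M.fin
    obtain ⟨g, hg⟩ := M.exists_act_eq ha
    obtain ⟨k, hk⟩ := Components.exists_coprime_pow (p := p) g
    obtain ⟨m, hm⟩ := Components.exists_pow_pow_eq hco k
    set n := p ^ k * m
    have hres : ∀ x ∈ R, autFun (M.act (g ^ n)) x = autFun γ x := fun x hx => by
      rw [M.act_pow, hg, autFun_pow_eq le_sup_left hae n x hx, pow_mul, hm]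
    refine ⟨g ^ n, Subgroup.subset_closure (Or.inl ⟨?_, ?_⟩),
      autFun_ext fun x hx => (M.autFun_res _ hx).trans (hres x hx)⟩
    · rw [M.mem_kSub]
      refine ⟨M.act_stab _, fun y hy => ?_, ?_, ?_⟩
      · rw [M.act_pow, hg]
        have had' : a ∈ dispU F T R (hRT.trans h.hTS) h.closed := ⟨ha, had⟩
        exact (pow_mem had' n).2 y hy
      all_goals
        refine (((mem_autGroup_iff hRT).1 hγ).mono (sup_le le_rfl (hRs.cent h.hTS))).congr
          fun x hx => hres x (sup_le le_rfl (hRs.cent h.hTS) hx)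
    · rw [pow_mul]; exact Nat.Coprime.coprime_dvd_left (orderOf_pow_dvd m) hk
  intro γ hγ
  obtain ⟨t, ht, β, hβ, he⟩ := exists_conj_mul_residual
    (IsSaturated.automized_receptive hTp h.side₁.sat hRE).1 ⟨γ, hγ⟩
  have hβm : (β : MulAut R) ∈ M.mGroup h hRT := by
    have hle : Cfsg.pResidual p (E.autGroup R) ≤
        (M.mGroup h hRT).comap (E.autGroup R).subtype := (Subgroup.closure_le _).2 fun b hb => by
      refine key b b.2 ?_
      have h1 : Nat.Coprime (orderOf b) p := hb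
      rwa [← Subgroup.orderOf_coe] at h1
    exact hle hβ
  rw [show γ = conjAut t ht.2 * (β : MulAut R) from autFun_ext fun x hx => by
    rw [show autFun γ x = _ from he x hx, autFun_mul _ _ hx,
      autFun_conjAut ht.2 (autFun_mem _ hx)]]
  exact mul_mem (M.autInducedBy_le_mGroup h hRT (conjAut_mem ht.1 ht.2)) hβm

/-- An element of the local subgroup of order prime to `p` with the action on `R` of an element
of `aSub` normalizes the image of `P`. -/
theorem exists_lift (M : LModel F p R) (hR : F.IsFullyNormalized R) (hRs : SelfC F T R)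
    (hP : P ≤ normalizerIn S R) (hPR : P ⊓ T = R) {a : MulAut P} (ha : a ∈ aSub h P)
    (hco : (orderOf a).Coprime p) :
    ∃ g ∈ M.hSub h hRs.le, (orderOf g).Coprime p ∧
      (∀ x ∈ P, g * M.e x * g⁻¹ ∈ imgι M.ι P) ∧
        ∀ q ∈ R, g * M.e q * g⁻¹ = M.e (autFun a q) := by
  have hPS : P ≤ S := hP.trans inf_le_left
  have hRT := hRs.le
  have hRP : R ≤ P := hPR ▸ inf_le_left
  have hRN : R ≤ normalizerIn S R := le_normalizerIn hR.1
  haveI := M.fin
  haveI := M.hSub_normal h hR hRT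
  set H := M.hSub h hRT with hH
  have haT : ∀ q ∈ R, autFun a q ∈ R := fun q hq => by
    rw [← hPR] at hq ⊢
    exact aSub_stab ha hq
  have ham : IsMap E R (autFun a) := hPR ▸ ha.2.2
  have hai : img R (autFun a) = R := by
    haveI := finite_of_le h.hTS
    exact img_eq_of_map_le (S := T) hRT ham le_rfl haT
  set a1 := autOf ham hai with ha1
  have ha1e : ∀ q ∈ R, autFun a1 q = autFun a q := fun q hq => autFun_autOf ham hai hq
  have ha1co : (orderOf a1).Coprime p := Nat.Coprime.coprime_dvd_left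
    (orderOf_dvd_of_agree hRP fun q hq => (ha1e q hq).symm) hco
  obtain ⟨g0, hg0, hg0r⟩ := autGroup_le_mGroup h hE M hR hRs (autOf_mem ham hai)
  have hg0e : ∀ q ∈ R, g0 * M.e q * g0⁻¹ = M.e (autFun a q) := fun q hq => by
    rw [← M.e_res g0 hq, hg0r, ha1e q hq]
  set PI := imgι M.ι P with hPI
  set C1 := M.res.ker ⊓ H with hC1
  haveI : C1.Normal := Subgroup.normal_inf_normal _ _
  have hK : conjBy g0 PI ≤ C1 ⊔ PI := conjBy_le_iff.2 fun z hz => by
    obtain ⟨x, hx, rfl⟩ := (mem_imgι hP).1 hz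
    have hax := autFun_mem a hx
    have hd : x * (autFun a x)⁻¹ ∈ normalizerIn T R := by
      refine ⟨?_, Subgroup.mul_mem _ (hP hx).2 (Subgroup.inv_mem _ (hP hax).2)⟩
      have h1 := (Subgroup.mem_normalizer_iff.1 (h.normal (hPS hx)) _).1 (inv_mem (ha.2.1 x hx))
      rwa [show x * (x⁻¹ * autFun a x)⁻¹ * x⁻¹ = x * (autFun a x)⁻¹ by group] at h1
    set u := g0 * M.e x * g0⁻¹ * (M.e (autFun a x))⁻¹ with hu
    have huC : u ∈ C1 := by
      refine Subgroup.mem_inf.2 ⟨?_, ?_⟩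
      · have e1 : M.res (g0 * M.e x * g0⁻¹) = M.res (M.e (autFun a x)) := by
          refine autFun_ext fun q hq => ?_
          refine M.inj (hRN (autFun_mem _ hq)) (hRN (autFun_mem _ hq)) ?_
          rw [M.e_res _ hq, M.e_res _ hq]
          obtain ⟨q', hq', rfl⟩ : ∃ q' ∈ R, autFun a q' = q :=
            ⟨autFun a1⁻¹ q, autFun_mem _ hq,
              by rw [← ha1e _ (autFun_mem _ hq), PPrime.autFun_symm' hq]⟩
          have hxq : x * q' * x⁻¹ ∈ R := (Subgroup.mem_normalizer_iff.1 (hP hx).2 q').1 hq'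
          have e2 := ext1_conj M.ι (hP hx) (hRN hq')
          have e3 := ext1_conj M.ι (hP hax) (hRN hq)
          rw [show g0 * M.e x * g0⁻¹ * M.e (autFun a q') * (g0 * M.e x * g0⁻¹)⁻¹ =
            g0 * (M.e x * (g0⁻¹ * M.e (autFun a q') * g0) * (M.e x)⁻¹) * g0⁻¹ by group,
            ← hg0e q' hq', show g0⁻¹ * (g0 * M.e q' * g0⁻¹) * g0 = M.e q' by group,
            ← e2, hg0e _ hxq, hg0e q' hq', ← e3]
          have hm := (mem_autGroup_iff hPS).1 ha.1
          rw [hm.map_conj hx (hRP hq')]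
        rw [MonoidHom.mem_ker, hu, map_mul, map_inv, e1, mul_inv_cancel]
      · rw [hu, show g0 * M.e x * g0⁻¹ * (M.e (autFun a x))⁻¹ =
          g0 * (M.e x * g0⁻¹ * (M.e x)⁻¹) * (M.e x * (M.e (autFun a x))⁻¹) by group]
        refine mul_mem (mul_mem hg0 ((M.hSub_normal h hR hRT).conj_mem _ (inv_mem hg0) _)) ?_
        rw [← M.e_inv (hP hax), ← M.mul (hP hx) (inv_mem (hP hax))]
        exact M.mem_hSub_of_T h hRT hd
    have h1 := mul_mem (Subgroup.mem_sup_left (T := PI) huC)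
      (Subgroup.mem_sup_right (S := C1) (ext1_mem_imgι (ι := M.ι) hP hax))
    rwa [hu, inv_mul_cancel_right] at h1
  have hPIp : IsPGroup p PI :=
    ((h.pgroup.to_le inf_le_left : IsPGroup p (normalizerIn S R)).to_subgroup _).map _
  have hi : ¬ p ∣ PI.relIndex (C1 ⊔ PI) := by
    rw [relIndex_sup_of_normal]
    obtain ⟨Y, hY⟩ := M.sylow
    intro hd
    refine not_dvd_relIndex_inf_of_normal Y C1 (hd.trans ?_)
    refine Subgroup.relIndex_dvd_of_le_left C1 fun z hz => ?_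
    obtain ⟨⟨x, hx⟩, hxz⟩ := hY.le hz.1
    have he : M.e x = z := (ext1_apply M.ι hx).trans hxz
    subst he
    obtain ⟨hker, hzH⟩ := Subgroup.mem_inf.1 hz.2
    have hxT := M.mem_of_mem_hSub h hR hRT hx hzH
    refine ext1_mem_imgι (ι := M.ι) hP (hRP (hRs.cent h.hTS ⟨hxT.1,
      Subgroup.mem_centralizer_iff.2 fun q hq => ?_⟩))
    have h2 := M.autFun_res (M.e x) hq
    rw [MonoidHom.mem_ker.1 hker, autFun_one hq, M.act_e hx,
      autFun_conjAut _ (Subgroup.mem_sup_left hq)] at h2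
    calc q * x = x * q * x⁻¹ * x := by rw [← h2]
      _ = x * q := by group
  obtain ⟨l, hl, hlP⟩ := exists_conj_le_of_not_dvd_relIndex hPIp le_sup_right hi
    (isPGroup_conjBy g0 hPIp) hK
  rw [← SetLike.mem_coe, sup_comm, Subgroup.mul_normal PI C1] at hl
  obtain ⟨v, hv, c, hc, rfl⟩ := Set.mem_mul.1 hl
  obtain ⟨hcker, hcH⟩ := Subgroup.mem_inf.1 hc
  set g1 := c * g0 with hg1
  have hg1P : ∀ z ∈ PI, g1 * z * g1⁻¹ ∈ PI := fun z hz => by
    have h1 := hlP (conj_mem_conjBy (g := v * c) (conj_mem_conjBy (g := g0) hz))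
    have h2 := mul_mem (mul_mem (inv_mem hv) h1) hv
    rwa [show v⁻¹ * (v * c * (g0 * z * g0⁻¹) * (v * c)⁻¹) * v = g1 * z * g1⁻¹ by
      rw [hg1]; group] at h2
  have hg1pow : ∀ (j : ℕ), ∀ z ∈ PI, g1 ^ j * z * (g1 ^ j)⁻¹ ∈ PI := by
    intro j
    induction j with
    | zero => intro z hz; simpa using hz
    | succ j ih =>
      intro z hz
      rw [show g1 ^ (j + 1) * z * (g1 ^ (j + 1))⁻¹ = g1 * (g1 ^ j * z * (g1 ^ j)⁻¹) * g1⁻¹ by
        rw [pow_succ' g1]; group]
      exact hg1P _ (ih z hz)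
  obtain ⟨k, hk⟩ := Components.exists_coprime_pow (p := p) g1
  obtain ⟨m, hm⟩ := Components.exists_pow_pow_eq ha1co k
  refine ⟨g1 ^ (p ^ k * m), pow_mem (mul_mem hcH hg0) _, ?_, fun x hx =>
    hg1pow _ _ (ext1_mem_imgι hP hx), fun q hq => ?_⟩
  · rw [pow_mul]; exact Nat.Coprime.coprime_dvd_left (orderOf_pow_dvd m) hk
  · rw [← M.e_res _ hq, map_pow, hg1, map_mul, MonoidHom.mem_ker.1 hcker, one_mul, hg0r, pow_mul,
      hm, ha1e q hq]

/-- Conjugation by such an element, as an automorphism of `P`. -/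
theorem exists_lift_aut (M : LModel F p R) (hR : F.IsFullyNormalized R) (hRs : SelfC F T R)
    (hP : P ≤ normalizerIn S R) (hPR : P ⊓ T = R) {a : MulAut P} (ha : a ∈ aSub h P)
    (hco : (orderOf a).Coprime p) :
    ∃ g ∈ M.hSub h hRs.le, ∃ b ∈ aSub h P, (orderOf b).Coprime p ∧
      (∀ x ∈ P, M.e (autFun b x) = g * M.e x * g⁻¹) ∧ b⁻¹ * a ∈ delta h P := by
  obtain ⟨g, hg, hgo, hgP, hgR⟩ := exists_lift h hE M hR hRs hP hPR ha hco
  have hPS : P ≤ S := hP.trans inf_le_left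
  have hRN : R ≤ normalizerIn S R := le_normalizerIn hR.1
  obtain ⟨f, hf, hfN, hfe⟩ := M.conj_map hP fun x hx => imgι_le_range _ (hgP x hx)
  have hfP : ∀ x ∈ P, f x ∈ P := fun x hx => mem_of_ext1_mem_imgι M.real.1 hP (hfN x hx) (by
    show M.e (f x) ∈ _
    rw [hfe x hx]; exact hgP x hx)
  have hfi := img_eq_of_map_le hPS hf le_rfl hfP
  set b := autOf hf hfi with hb
  have hbe : ∀ x ∈ P, M.e (autFun b x) = g * M.e x * g⁻¹ := fun x hx => by
    rw [hb, autFun_autOf hf hfi hx, hfe x hx]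
  have hbR : ∀ q ∈ P ⊓ T, autFun b q = autFun a q := fun q hq => by
    refine M.inj (hP (autFun_mem _ hq.1)) (hP (autFun_mem _ hq.1)) ?_
    rw [hbe q hq.1, hgR q (hPR ▸ hq)]
  have hbd : ∀ x ∈ P, x⁻¹ * autFun b x ∈ T := fun x hx => by
    have hN : x⁻¹ * autFun b x ∈ normalizerIn S R :=
      mul_mem (inv_mem (hP hx)) (hP (autFun_mem b hx))
    refine (M.mem_of_mem_hSub h hR hRs.le hN ?_).1
    rw [M.mul (inv_mem (hP hx)) (hP (autFun_mem b hx)), M.e_inv (hP hx), hbe x hx,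
      show (M.e x)⁻¹ * (g * M.e x * g⁻¹) = ((M.e x)⁻¹ * g * (M.e x)⁻¹⁻¹) * g⁻¹ by group]
    exact mul_mem ((M.hSub_normal h hR hRs.le).conj_mem g hg _) (inv_mem hg)
  have hbA : b ∈ aSub h P := ⟨autOf_mem hf hfi, hbd, ha.2.2.congr hbR⟩
  have hba := mul_mem (inv_mem hbA) ha
  refine ⟨g, hg, b, hbA, Nat.Coprime.coprime_dvd_left (M.orderOf_dvd hP hbe) hgo, hbe,
    hba.1, fun x hx => ?_, hba.2.1⟩
  rw [autFun_mul _ _ hx.1, ← hbR x hx, PPrime.autFun_symm hx.1]

/-- An element of `aSub` of order prime to `p` commutes with `delta` modulo conjugations by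
`Z(P ∩ T)`. -/
theorem comm_mem_zInn (hP : P ≤ S) (hPs : SelfC F T (P ⊓ T)) {b d : MulAut P}
    (hb : b ∈ aSub h P) (hco : (orderOf b).Coprime p) (hd : d ∈ delta h P) :
    b * d * b⁻¹ * d⁻¹ ∈ zInn T P := by
  obtain ⟨f, hf, hQn, hRn⟩ := exists_both_normalized h hP
  set Q := img P f with hQ
  set R := Q ⊓ T with hRdef
  have hRs : SelfC F T R := by
    rw [hRdef, img_inf_T h hf]
    exact hPs.map h.closed (hf.mono inf_le_left)
  have hQS := hQn.1
  have hQN : Q ≤ normalizerIn S R := fun x hx => ⟨hQS hx, Subgroup.mem_normalizer_iff.2 fun y =>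
    and_congr (Subgroup.mem_normalizer_iff.1 (Subgroup.le_normalizer hx) y)
      (Subgroup.mem_normalizer_iff.1 (h.normal (hQS hx)) y)⟩
  obtain ⟨b1, hb1, hb1e, hb1o⟩ := exists_aSub_transport hf rfl hb
  set d1 := MulAut.congr (mapEquiv hf) d with hd1
  have hd1e : ∀ x ∈ P, autFun d1 (f x) = f (autFun d x) := fun x hx => autFun_congr hf d hx
  have hd1D : d1 ∈ delta h Q := by
    refine ⟨(congr_mem_autGroup_iff hf d).2 hd.1, fun y hy => ?_, fun y hy => ?_⟩
    · rw [show Q ⊓ T = img (P ⊓ T) f from img_inf_T h hf] at hy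
      obtain ⟨x, hx, rfl⟩ := (hf.mono inf_le_left).mem_img.1 hy
      rw [hd1e x hx.1, hd.2.1 x hx]
    · obtain ⟨x, hx, rfl⟩ := hf.mem_img.1 hy
      rw [hd1e x hx, ← hf.map_inv hx, ← hf.map_mul (inv_mem hx) (autFun_mem d hx)]
      exact cl_mem h.closed hf (mul_mem (inv_mem hx) (autFun_mem d hx)) (hd.2.2 x hx)
  haveI := finite_of_le hQS
  haveI := finite_mulAut (P := Q)
  -- `delta` at `Q` is induced by `S`
  have hdS : delta h Q ≤ autInducedBy S Q := by
    obtain ⟨-, hi⟩ := (isFullyAutomized_iff h.pgroup).1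
      (IsSaturated.automized_receptive h.pgroup h.sat hQn).1
    obtain ⟨k, hk, hkD⟩ := exists_conj_le_of_not_dvd_relIndex (isPGroup_autInducedBy h.pgroup)
      (autInducedBy_le_autGroup hQS) hi (delta_isPGroup (h := h) hQS) (fun a ha => ha.1)
    intro a ha
    have h1 := hkD (conj_mem_conjBy (g := k) (delta_conj hQS (inv_mem hk) ha))
    rwa [show k * (k⁻¹ * a * k⁻¹⁻¹) * k⁻¹ = a by group] at h1
  obtain ⟨y, hy, hye⟩ := mem_autInducedBy_iff.1 (hdS hd1D)
  have hyQ : y ∈ Subgroup.normalizer (Q : Set Ω) := mem_normalizer_of_autFun hye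
  have hyC : y ∈ centralizerIn S R := ⟨hy, Subgroup.mem_centralizer_iff.2 fun q hq => by
    have h1 := hye q hq.1
    rw [hd1D.2.1 q hq] at h1
    calc q * y = y * q * y⁻¹ * y := by rw [← h1]
      _ = y * q := by group⟩
  obtain ⟨M⟩ := exists_lModel h.pgroup h.sat hRn
  have hb1co : (orderOf b1).Coprime p := by rwa [hb1o]
  obtain ⟨g, hg, b2, hb2, -, hb2e, hb2d⟩ := exists_lift_aut h hE M hRn hRs hQN rfl hb1 hb1co
  have hK := M.hSub_le h hRn hRs.le hg
  rw [M.mem_kSub] at hK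
  have hyB : y ∈ base S R := Subgroup.mem_sup_right hyC
  set y' := autFun (M.act g) y with hy'
  have hy'C : y' ∈ centralizerIn S R := stab_cent hK.1 hyC
  set t := y⁻¹ * y' with ht
  have htR : t ∈ centralizerIn T R :=
    ⟨hK.2.1 y hyB, Subgroup.mul_mem _ (Subgroup.inv_mem _ hyC.2) hy'C.2⟩
  have htR' : t ∈ R := hRs.cent h.hTS htR
  have hty : y * t * y⁻¹ = t := by
    rw [← Subgroup.mem_centralizer_iff.1 hyC.2 t htR', mul_inv_cancel_right]
  have hy'Q : y' ∈ normalizerIn S R := centralizerIn_le_normalizerIn hy'C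
  -- the commutator at `Q`
  have hc1 : b1 * d1 * b1⁻¹ * d1⁻¹ = b2 * d1 * b2⁻¹ * d1⁻¹ := by
    set e := b2⁻¹ * b1 with he
    rw [show b1 = b2 * e by rw [he]; group,
      show b2 * e * d1 * (b2 * e)⁻¹ = b2 * (e * d1) * e⁻¹ * b2⁻¹ by group,
      delta_comm hQS hb2d hd1D]
    group
  have hyN : y ∈ normalizerIn S R := centralizerIn_le_normalizerIn hyC
  have hkey : ∀ x ∈ Q, autFun (b2 * d1) x = y' * autFun b2 x * y'⁻¹ := fun x hx => by
    have hbx := hQN (autFun_mem b2 hx)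
    refine M.inj (hQN (autFun_mem _ hx)) (mul_mem (mul_mem hy'Q hbx) (inv_mem hy'Q)) ?_
    rw [autFun_mul _ _ hx, hye x hx, hb2e _ ((Subgroup.mem_normalizer_iff.1 hyQ x).1 hx),
      show M.e (y * x * y⁻¹) = _ from ext1_conj M.ι hyN (hQN hx),
      show M.e (y' * autFun b2 x * y'⁻¹) = _ from ext1_conj M.ι hy'Q hbx,
      show ext1 M.ι (autFun b2 x) = _ from hb2e x hx,
      show ext1 M.ι y' = _ from M.e_act g hyB]
    group
  have hz : ∀ x ∈ Q, autFun (b1 * d1 * b1⁻¹ * d1⁻¹) x = t * x * t⁻¹ := fun x hx => by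
    have hu := autFun_mem d1⁻¹ hx
    rw [hc1, autFun_mul _ _ hx, show b2 * d1 * b2⁻¹ = (b2 * d1) * b2⁻¹ from rfl, autFun_mul _ _ hu,
      hkey _ (autFun_mem _ hu), PPrime.autFun_symm' hu]
    set w := autFun d1⁻¹ x with hw
    have hxw : x = y * w * y⁻¹ := by rw [← hye w hu, hw, PPrime.autFun_symm' hx]
    have h1 : y' = y * t := by rw [ht]; group
    calc y' * w * y'⁻¹ = (y * t * y⁻¹) * (y * w * y⁻¹) * (y * t * y⁻¹)⁻¹ := by rw [h1]; group
      _ = t * x * t⁻¹ := by rw [hty, ← hxw]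
  -- back to `P`
  rw [show R = img (P ⊓ T) f from img_inf_T h hf] at htR'
  obtain ⟨z, hz', hzt⟩ := (hf.mono inf_le_left).mem_img.1 htR'
  refine mem_autInducedBy_iff.2 ⟨z, ⟨hz', Subgroup.mem_centralizer_iff.2 fun q hq => ?_⟩, fun x hx => ?_⟩
  · refine hf.inj (mul_mem hq.1 hz'.1) (mul_mem hz'.1 hq.1) ?_
    rw [hf.map_mul hq.1 hz'.1, hf.map_mul hz'.1 hq.1, hzt]
    refine Subgroup.mem_centralizer_iff.1 htR.2 _ ?_
    show f q ∈ R
    rw [show R = img (P ⊓ T) f from img_inf_T h hf]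
    exact (hf.mono inf_le_left).mem_img.2 ⟨q, hq, rfl⟩
  · refine hf.inj (autFun_mem _ hx) (mul_mem (mul_mem hz'.1 hx) (inv_mem hz'.1)) ?_
    rw [hf.map_conj hz'.1 hx, hzt, ← hz _ (hf.mem_img.2 ⟨x, hx, rfl⟩)]
    have hb1c : b1 = MulAut.congr (mapEquiv hf) b := autFun_ext fun w hw => by
      obtain ⟨u, hu, rfl⟩ := hf.mem_img.1 hw
      rw [hb1e u hu, autFun_congr hf b hu]
    rw [hb1c, hd1, ← map_inv, ← map_inv, ← map_mul, ← map_mul, ← map_mul, autFun_congr hf _ hx]

/-- An element of `aSub` of order prime to `p` is a power of one with the same action on `P ∩ T`,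
modulo conjugations by `Z(P ∩ T)`. -/
theorem exists_pow_eq_mod_zInn (hP : P ≤ S) (hPs : SelfC F T (P ⊓ T)) {a b : MulAut P}
    (hb : b ∈ aSub h P) (hbco : (orderOf b).Coprime p) (haco : (orderOf a).Coprime p)
    (hd : b⁻¹ * a ∈ delta h P) : ∃ n : ℕ, a * (b ^ n)⁻¹ ∈ zInn T P := by
  haveI := finite_of_le hP
  set d := b⁻¹ * a with hdd
  have hN : ∀ {u v : MulAut P}, u ∈ F.autGroup P → v ∈ zInn T P → u * v * u⁻¹ ∈ zInn T P :=
    fun hu hv => zInn_conj h hP hu hv
  have had : a = b * d := by rw [hdd]; group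
  have key : ∀ n : ℕ, a ^ n * (b ^ n * d ^ n)⁻¹ ∈ zInn T P := by
    intro n
    induction n with
    | zero => simp
    | succ n ih =>
      have hc := comm_mem_zInn h hE hP hPs hb hbco (pow_mem hd n)
      have hbn : b ^ n ∈ F.autGroup P := pow_mem hb.1 n
      have h1 := mul_mem ih (hN hbn (inv_mem hc))
      convert h1 using 1
      rw [pow_succ, pow_succ, pow_succ, had]
      group
  obtain ⟨N, hN'⟩ := IsPGroup.iff_card.1 h.pgroup
  have hdq : d ^ p ^ N = 1 := autFun_ext fun x hx => by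
    rw [pow_fix_step hP hN' le_rfl (inf_le_left : P ⊓ T ≤ P) hd.2.1
      (fun y hy => (delta_disp hP hd hy).1) x hx, autFun_one hx]
  have hq := key (p ^ N)
  rw [hdq, mul_one] at hq
  obtain ⟨m, hm⟩ := Components.exists_pow_pow_eq haco N
  have hpow : ∀ j : ℕ, (a ^ p ^ N) ^ j * ((b ^ p ^ N) ^ j)⁻¹ ∈ zInn T P := by
    intro j
    induction j with
    | zero => simp
    | succ j ih =>
      have hu : a ^ p ^ N ∈ F.autGroup P := pow_mem
        (by rw [had]; exact mul_mem hb.1 hd.1) _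
      have h1 := mul_mem (hN hu ih) hq
      convert h1 using 1
      rw [pow_succ' (a ^ p ^ N), pow_succ (b ^ p ^ N)]
      group
  refine ⟨p ^ N * m, ?_⟩
  have h1 := hpow m
  rwa [hm, ← pow_mul] at h1

/-- The automorphisms in `aSub` of order prime to `p` come from the local subgroup. -/
theorem exists_lift_eq (M : LModel F p R) (hR : F.IsFullyNormalized R) (hRs : SelfC F T R)
    (hP : P ≤ normalizerIn S R) (hPR : P ⊓ T = R) {a : MulAut P} (ha : a ∈ aSub h P)
    (hco : (orderOf a).Coprime p) :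
    ∃ g ∈ M.hSub h hRs.le, ∀ x ∈ P, M.e (autFun a x) = g * M.e x * g⁻¹ := by
  obtain ⟨g, hg, b, hb, hbco, hbe, hd⟩ := exists_lift_aut h hE M hR hRs hP hPR ha hco
  have hPS : P ≤ S := hP.trans inf_le_left
  obtain ⟨n, hn⟩ := exists_pow_eq_mod_zInn h hE hPS (hPR.symm ▸ hRs) hb hbco hco hd
  obtain ⟨z, hz, hze⟩ := mem_autInducedBy_iff.1 hn
  have hzN : z ∈ normalizerIn T R := ⟨hz.1.2, (hP hz.1.1).2⟩
  have hpow : ∀ (j : ℕ), ∀ x ∈ P, M.e (autFun (b ^ j) x) = g ^ j * M.e x * (g ^ j)⁻¹ := by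
    intro j
    induction j with
    | zero => intro x hx; rw [pow_zero, pow_zero, autFun_one hx]; group
    | succ j ih =>
      intro x hx
      rw [pow_succ' b, pow_succ' g, autFun_mul _ _ hx, hbe _ (autFun_mem _ hx), ih x hx]
      group
  refine ⟨M.e z * g ^ n, mul_mem (M.mem_hSub_of_T h hRs.le hzN) (pow_mem hg n), fun x hx => ?_⟩
  have hbx := autFun_mem (b ^ n) hx
  have e1 : autFun a x = z * autFun (b ^ n) x * z⁻¹ := by
    rw [← hze _ hbx, ← autFun_mul _ _ hx, inv_mul_cancel_right]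
  rw [e1, show M.e (z * autFun (b ^ n) x * z⁻¹) = _ from ext1_conj M.ι (hP hz.1.1) (hP hbx),
    show ext1 M.ι (autFun (b ^ n) x) = _ from hpow n x hx]
  group

end CfsgLib.Fusion.Product
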