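import Cfsg.Agent.Lib.Fusion.System.CanonicalLift
import Cfsg.Agent.Lib.Fusion.System.PPrimeIndex
import Cfsg.Agent.Lib.Fusion.System.Components.CoreLemmas

/-!
# Good automorphisms for the meet of two weakly normal subsystems

For `T = T₁ ⊓ T₂` and `P ≤ T` containing its centralizer in `T` (together with all its images), an
automorphism of `P C_S(P)` is good if it moves it only inside `T` and restricts to maps of `E₁`
and `E₂` on `P C_{T₁}(P)` and `P C_{T₂}(P)`.
-/

set_option autoImplicit false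
set_option maxHeartbeats 1000000
set_option linter.style.haveILetI false
set_option linter.unusedSectionVars false

open Subgroup
open scoped Classical Pointwise

namespace CfsgLib.Fusion.Meet

open Cfsg (FusionSystem autInducedBy)
open Cfsg.FusionSystem (normalizerIn centralizerIn)
open CfsgLib.Fusion CfsgLib.Fusion.CentLift

universe u

variable {Ω : Type u} [Group Ω] {S T T' : Subgroup Ω} {F : FusionSystem S} {E : FusionSystem T'}
  {p : ℕ} {P Q R X U : Subgroup Ω} {f g : Ω → Ω}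

/-- Every image of `P` contains its centralizer in `T`. -/
def SelfC (F : FusionSystem S) (T P : Subgroup Ω) : Prop :=
  P ≤ T ∧ ∀ f, IsMap F P f → centralizerIn T (img P f) ≤ img P f

/-- `P C_{T'}(P)`. -/
abbrev ubase (T' P : Subgroup Ω) : Subgroup Ω := P ⊔ centralizerIn T' P

/-- What is used of a weakly normal subsystem. -/
structure Side (F : FusionSystem S) (p : ℕ) (E : FusionSystem T') : Prop where
  sat : E.IsSaturated p
  sub : E.IsSubsystemOf F
  inv : StrongInv E F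
  closed : F.StronglyClosed T'

theorem Side.le (h : Side F p E) : T' ≤ S := h.closed.1

theorem cl_mem (hT : F.StronglyClosed T) (hf : IsMap F R f) {x : Ω} (hx : x ∈ R) (hxT : x ∈ T) :
    f x ∈ T :=
  (stronglyClosed_iff.1 hT).2 (R ⊓ T) f inf_le_right (hf.mono inf_le_left) x ⟨hx, hxT⟩

theorem Side.map_mem (h : Side F p E) (hf : IsMap F R f) {x : Ω} (hx : x ∈ R) (hxT : x ∈ T') :
    f x ∈ T' := cl_mem h.closed hf hx hxT

theorem stronglyClosed_inf {A B : Subgroup Ω} (hA : F.StronglyClosed A) (hB : F.StronglyClosed B) :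
    F.StronglyClosed (A ⊓ B) :=
  stronglyClosed_iff.2 ⟨inf_le_left.trans hA.1, fun R f hR hf x hx =>
    ⟨(stronglyClosed_iff.1 hA).2 R f (hR.trans inf_le_left) hf x hx,
      (stronglyClosed_iff.1 hB).2 R f (hR.trans inf_le_right) hf x hx⟩⟩

theorem Side.of_weaklyNormal [Finite S] [Fact p.Prime] (hS : IsPGroup p S)
    (h : E.IsWeaklyNormalIn F p) : Side F p E :=
  ⟨h.1, h.2.2.1, (isInvariantIn_iff_strongInv hS h.2.1 h.2.2.1 h.2.2.2.1).1 h.2.2, h.2.2.2.1⟩

theorem SelfC.le (h : SelfC F T P) : P ≤ T := h.1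

theorem SelfC.cent (hTS : T ≤ S) (h : SelfC F T P) : centralizerIn T P ≤ P := by
  have h1 := h.2 id (isMap_id (h.1.trans hTS))
  rwa [img_id] at h1

theorem SelfC.map (hT : F.StronglyClosed T) (h : SelfC F T P) (hf : IsMap F P f) :
    SelfC F T (img P f) :=
  ⟨hf.img_le_of_forall fun x hx => (stronglyClosed_iff.1 hT).2 P f h.1 hf x hx, fun g hg => by
    rw [img_img hf]
    exact h.2 _ (hf.comp hg fun x hx => hf.mem_img.2 ⟨x, hx, rfl⟩)⟩

theorem SelfC.mono (h : SelfC F T P) (hPQ : P ≤ Q) (hQ : Q ≤ T) : SelfC F T Q :=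
  ⟨hQ, fun f hf z hz => hf.img_mono hPQ (h.2 f (hf.mono hPQ)
    ⟨hz.1, Subgroup.centralizer_le (hf.img_mono hPQ) hz.2⟩)⟩

theorem mem_base {A C : Subgroup Ω} (hC : C ≤ Subgroup.centralizer (A : Set Ω)) {x : Ω}
    (hx : x ∈ A ⊔ C) : ∃ a ∈ A, ∃ c ∈ C, x = a * c := by
  have hn : A ≤ Subgroup.normalizer (C : Set Ω) := fun a ha => Subgroup.mem_normalizer_iff.2 fun w => by
    constructor
    · intro hw
      rw [Subgroup.mem_centralizer_iff.1 (hC hw) a ha, mul_inv_cancel_right]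
      exact hw
    · intro hw
      have h1 := Subgroup.mem_centralizer_iff.1 (hC hw) a⁻¹ (inv_mem ha)
      rw [show w = a⁻¹ * (a * w * a⁻¹) * a by group, h1, inv_mul_cancel_right]
      exact hw
  rw [← SetLike.mem_coe, coe_mul_of_left_le_normalizer_right A C hn] at hx
  obtain ⟨a, ha, c, hc, h⟩ := Set.mem_mul.1 hx
  exact ⟨a, ha, c, hc, h.symm⟩

theorem ubase_le_base (hT' : T' ≤ S) : ubase T' P ≤ base S P :=
  sup_le_sup_left (inf_le_inf_right _ hT') _

theorem mem_ubase (hPT : P ≤ T') {x : Ω} (hx : x ∈ base S P) (hxT : x ∈ T') :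
    x ∈ ubase T' P := by
  obtain ⟨a, ha, c, hc, rfl⟩ := mem_base inf_le_right hx
  refine mul_mem (Subgroup.mem_sup_left ha) (Subgroup.mem_sup_right ⟨?_, hc.2⟩)
  have h1 := T'.mul_mem (T'.inv_mem (hPT ha)) hxT
  rwa [inv_mul_cancel_left] at h1

theorem ubase_le (hPT : P ≤ T') : ubase T' P ≤ T' := sup_le hPT inf_le_left

theorem mem_of_mem_base (hTS : T ≤ S) (h : SelfC F T P) {x : Ω} (hx : x ∈ base S P)
    (hxT : x ∈ T) : x ∈ P := sup_le le_rfl (h.cent hTS) (mem_ubase h.1 hx hxT)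

section Finite

variable [Finite S]

theorem aut_img_eq {W : Subgroup Ω} (hWS : W ≤ S) (a : MulAut W) (ha : a ∈ F.autGroup W)
    (hXW : X ≤ W) (h : ∀ x ∈ X, autFun a x ∈ X) {x : Ω} (hx : x ∈ X) : autFun a⁻¹ x ∈ X := by
  have hm := (mem_autGroup_iff hWS).1 ha
  have hi := img_eq_of_map_le (hXW.trans hWS) hm hXW h
  obtain ⟨y, hy, hyx⟩ := (hm.mono hXW).mem_img.1 (hi.ge hx)
  rw [← hyx, PPrime.autFun_symm (hXW hy)]
  exact hy

/-- Maps of the base between fully centralized subgroups are onto. -/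
theorem img_base (hP' : F.IsFullyCentralized X) (hP : F.IsFullyCentralized P)
    (hg : IsMap F (base S P) g) (hi : img P g = X) : img (base S P) g = base S X := by
  have hPS := hP.1
  have hC : img (centralizerIn S P) g = centralizerIn S X := by
    have hCB : centralizerIn S P ≤ base S P := le_sup_right
    refine eq_of_le_of_card_le inf_le_left ((hg.mono hCB).img_le_of_forall fun c hc => ?_) ?_
    · rw [← hi]
      exact map_mem_centralizerIn hg le_sup_left (hCB hc) hc.2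
    · rw [(hg.mono hCB).card_img]
      exact hP.2 X (isConj_iff.2 ⟨g, hg.mono le_sup_left, hi⟩)
  refine le_antisymm (hg.img_le_of_forall fun z hz => hg.map_mem_of_sup (fun x hx => ?_)
    (fun c hc => ?_) hz) (sup_le ?_ ?_)
  · exact Subgroup.mem_sup_left (hi.le ((hg.mono le_sup_left).mem_img.2 ⟨x, hx, rfl⟩))
  · exact Subgroup.mem_sup_right (hC.le ((hg.mono le_sup_right).mem_img.2 ⟨c, hc, rfl⟩))
  · rw [← hi]; exact hg.img_mono le_sup_left
  · rw [← hC]; exact hg.img_mono le_sup_right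

theorem img_ubase (h : Side F p E) (hPT : P ≤ T') (hP' : F.IsFullyCentralized X)
    (hP : F.IsFullyCentralized P) (hg : IsMap F (base S P) g) (hi : img P g = X) :
    img (ubase T' P) g = ubase T' X := by
  have hub := ubase_le_base (P := P) h.le
  have hXT : X ≤ T' := hi ▸ (hg.mono le_sup_left).img_le_of_forall fun x hx =>
    h.map_mem hg (Subgroup.mem_sup_left hx) (hPT hx)
  refine le_antisymm ((hg.mono hub).img_le_of_forall fun x hx => mem_ubase (S := S) hXT ?_
    (h.map_mem hg (hub hx) (ubase_le hPT hx))) fun y hy => ?_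
  · rw [← img_base hP' hP hg hi]
    exact hg.mem_img.2 ⟨x, hub hx, rfl⟩
  · have hyB := ubase_le_base (P := X) h.le hy
    rw [← img_base hP' hP hg hi] at hyB
    obtain ⟨g', hg', hg'1, -⟩ := hg.exists_inv
    obtain ⟨x, hx, rfl⟩ := hg.mem_img.1 hyB
    refine (hg.mono hub).mem_img.2 ⟨x, mem_ubase hPT hx ?_, rfl⟩
    have h1 := h.map_mem hg' (hg.mem_img.2 ⟨x, hx, rfl⟩) (ubase_le hXT hy)
    rwa [hg'1 x hx] at h1

/-- A map onto a fully centralized subgroup extends to the base. -/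
theorem exists_base_ext [Fact p.Prime] (hS : IsPGroup p S) (hF : F.IsSaturated p)
    (hX : F.IsFullyCentralized X) (hf : IsMap F P f) (hi : img P f = X) :
    ∃ g, IsMap F (base S P) g ∧ ∀ x ∈ P, g x = f x := by
  obtain ⟨g, hg, he⟩ := (isReceptive_iff.1 (IsSaturated.isReceptive hS hF hX)).2 P f hf hi
  exact ⟨g, hg.mono (sup_le (le_extSub hf) centralizerIn_le_extSub), he⟩

theorem Side.card_cent_le [Fact p.Prime] (hS : IsPGroup p S) (hF : F.IsSaturated p)
    (h : Side F p E) (hP : F.IsFullyCentralized P) (hf : IsMap F P f) :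
    Nat.card (centralizerIn T' (img P f)) ≤ Nat.card (centralizerIn T' P) := by
  obtain ⟨f', hf', h1, h2⟩ := hf.exists_inv
  have hi : img (img P f) f' = P := by
    rw [img_img hf]
    exact (IsMap.img_congr (g := id) h1).trans img_id
  obtain ⟨k, hk, hke⟩ := exists_base_ext hS hF hP hf' hi
  have hCB : centralizerIn T' (img P f) ≤ base S (img P f) :=
    (inf_le_inf_right _ h.le).trans le_sup_right
  rw [← (hk.mono hCB).card_img]
  refine card_le_of_le' (inf_le_left.trans h.le) ((hk.mono hCB).img_le_of_forall fun c hc => ?_)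
  refine ⟨h.map_mem hk (hCB hc) hc.1, ?_⟩
  have h3 := map_mem_centralizerIn hk le_sup_left (hCB hc) hc.2
  rw [IsMap.img_congr hke, hi] at h3
  exact h3.2

theorem Side.isCentric_ubase [Fact p.Prime] (hS : IsPGroup p S) (hF : F.IsSaturated p)
    (h : Side F p E) (hPT : P ≤ T') (hP : F.IsFullyCentralized P) :
    E.IsCentric (ubase T' P) := by
  refine ⟨ubase_le hPT, fun R hR => ?_⟩
  obtain ⟨f, hf, rfl⟩ := isConj_iff.1 hR
  have hfF := hf.ofSubsystem h.sub
  have hCU : centralizerIn T' P ≤ ubase T' P := le_sup_right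
  have hC : img (centralizerIn T' P) f = centralizerIn T' (img P f) := by
    refine eq_of_le_of_card_le (inf_le_left.trans h.le)
      ((hfF.mono hCU).img_le_of_forall fun c hc => ⟨h.map_mem hfF (hCU hc) hc.1,
        (map_mem_centralizerIn hfF le_sup_left (hCU hc) hc.2).2⟩) ?_
    rw [(hfF.mono hCU).card_img]
    exact h.card_cent_le hS hF hP (hfF.mono le_sup_left)
  intro z hz
  have hz' : z ∈ centralizerIn T' (img P f) :=
    ⟨hz.1, Subgroup.centralizer_le (hf.img_mono le_sup_left) hz.2⟩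
  rw [← hC] at hz'
  exact hf.img_mono hCU hz'

end Finite

/-- A power of order prime to `p` of an element equal to it modulo a normal subgroup. -/
theorem mem_of_coprime_of_pow {G : Type*} [Group G] {N : Subgroup G} {α δ : G}
    (hconj : ∀ x ∈ N, α * x * α⁻¹ ∈ N) {q : ℕ} (hq : (orderOf α).Coprime q) (hδ : δ ^ q = 1)
    (h : α * δ⁻¹ ∈ N) : α ∈ N := by
  have key : ∀ n : ℕ, α ^ n * (δ ^ n)⁻¹ ∈ N := by
    intro n
    induction n with
    | zero => simp
    | succ n ih =>
      have h1 : α * (α ^ n * (δ ^ n)⁻¹) * α⁻¹ * (α * δ⁻¹) ∈ N := mul_mem (hconj _ ih) h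
      convert h1 using 1
      rw [pow_succ' α n, pow_succ δ n]
      group
  have h1 := key q
  rw [hδ, inv_one, mul_one] at h1
  exact ConstrainedNormalSub.mem_of_pow_coprime hq (by rw [pow_orderOf_eq_one]; exact one_mem _) h1

theorem conj_mem_autGroup (h : Side F p E) (hXT : X ≤ T') {a b : MulAut X}
    (ha : a ∈ F.autGroup X) (hb : b ∈ E.autGroup X) : a * b * a⁻¹ ∈ E.autGroup X := by
  have hXS := hXT.trans h.le
  obtain ⟨k, hk, hke⟩ := h.inv X X (autFun b) (autFun a) le_rfl hXT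
    ((mem_autGroup_iff hXT).1 hb) (fun x hx => autFun_mem b hx) ((mem_autGroup_iff hXS).1 ha)
  rw [img_autFun] at hk
  refine (mem_autGroup_iff hXT).2 (hk.congr fun x hx => ?_)
  have h1 := hke _ (autFun_mem a⁻¹ hx)
  rw [PPrime.autFun_symm' hx] at h1
  rw [h1, autFun_mul _ _ hx, autFun_mul _ _ (autFun_mem _ hx)]

/-- An automorphism of order prime to `p` is in `E` if its restriction to a centric subgroup is. -/
theorem Side.ext_centric [Finite S] [Fact p.Prime] (hS : IsPGroup p S) (h : Side F p E)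
    (hXT : X ≤ T') (hUX : U ≤ X) (hXU : X ≤ Subgroup.normalizer (U : Set Ω))
    (hU : E.IsCentric U) {α : MulAut X} (hα : α ∈ F.autGroup X)
    (hco : (orderOf α).Coprime p) (hαU : ∀ u ∈ U, autFun α u ∈ U)
    (hE : IsMap E U (autFun α)) : α ∈ E.autGroup X := by
  haveI := finite_of_le h.le
  have hXS := hXT.trans h.le
  have hTp := hS.to_le h.le
  have hαm := (mem_autGroup_iff hXS).1 hα
  have hiU : img U (autFun α) = U := img_eq_of_map_le (hUX.trans hXS) hαm hUX hαU
  obtain ⟨ψ, hψ, hψe⟩ := (isReceptive_iff.1 (IsSaturated.isReceptive hTp h.sat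
    (isFullyCentralized_of_isCentric hU))).2 U _ hE hiU
  have hext : X ≤ extSub T' U (autFun α) := fun x hx => ⟨⟨hXT hx, hXU hx⟩, autFun α x,
    hXT (autFun_mem α hx), fun u hu => hαm.map_conj hx (hUX hu)⟩
  have hψX := hψ.mono hext
  have hψU : img U ψ = U := (IsMap.img_congr hψe).trans hiU
  have hcU := centralizerIn_le_of_isCentric hU
  have hmem : ∀ x ∈ X, ψ x ∈ X := fun x hx => by
    have hz : (autFun α x)⁻¹ * ψ x ∈ centralizerIn T' U := by
      refine ⟨T'.mul_mem (T'.inv_mem (hXT (autFun_mem α hx))) (hψX.mem_S hx),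
        Subgroup.mem_centralizer_iff.2 fun w hw => ?_⟩
      obtain ⟨u, hu, rfl⟩ := (hαm.mono hUX).mem_img.1 (hiU.ge hw)
      have h1 : ψ (x * u * x⁻¹) = autFun α (x * u * x⁻¹) :=
        hψe _ ((Subgroup.mem_normalizer_iff.1 (hXU hx) u).1 hu)
      rw [hψX.map_conj hx (hUX hu), hαm.map_conj hx (hUX hu), hψe u hu] at h1
      calc autFun α u * ((autFun α x)⁻¹ * ψ x)
          = (autFun α x)⁻¹ * (autFun α x * autFun α u * (autFun α x)⁻¹) * ψ x := by group
        _ = (autFun α x)⁻¹ * ψ x * autFun α u := by rw [← h1]; group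
    have h2 := X.mul_mem (autFun_mem α hx) (hUX (hcU hz))
    rwa [mul_inv_cancel_left] at h2
  have hiX : img X ψ = X := img_eq_of_map_le hXT hψX le_rfl hmem
  set b := autOf hψX hiX with hb
  have hbE : b ∈ E.autGroup X := autOf_mem hψX hiX
  have hbF : b ∈ F.autGroup X :=
    (mem_autGroup_iff hXS).2 (((mem_autGroup_iff hXT).1 hbE).ofSubsystem h.sub)
  have hfix : ∀ u ∈ U, autFun (b⁻¹ * α) u = u := fun u hu => by
    rw [autFun_mul _ _ (hUX hu), ← hψe u hu, ← autFun_autOf hψX hiX (hUX hu), ← hb,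
      PPrime.autFun_symm (hUX hu)]
  have hstab : ∀ x ∈ X, x⁻¹ * autFun (b⁻¹ * α) x ∈ U := fun x hx => by
    set δ := b⁻¹ * α
    refine hcU ⟨T'.mul_mem (T'.inv_mem (hXT hx)) (hXT (autFun_mem δ hx)),
      Subgroup.mem_centralizer_iff.2 fun u hu => ?_⟩
    have hu' := (Subgroup.mem_normalizer_iff.1 (hXU hx) u).1 hu
    have h1 := hfix _ hu'
    rw [autFun_map_mul δ (X.mul_mem hx (hUX hu)) (X.inv_mem hx), autFun_map_mul δ hx (hUX hu),
      hfix u hu] at h1
    have hinv : autFun δ x⁻¹ = (autFun δ x)⁻¹ := eq_inv_of_mul_eq_one_left (by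
      rw [← autFun_map_mul δ (X.inv_mem hx) hx, inv_mul_cancel, autFun_map_one])
    rw [hinv] at h1
    calc u * (x⁻¹ * autFun δ x) = x⁻¹ * (x * u * x⁻¹) * autFun δ x := by group
      _ = x⁻¹ * autFun δ x * u := by rw [← h1]; group
  obtain ⟨n, hn⟩ := IsPGroup.iff_card.1 hS
  have hδ : (b⁻¹ * α) ^ p ^ n = 1 := autFun_ext fun x hx => by
    rw [pow_fix_step hXS hn le_rfl hUX hfix hstab x hx, autFun_one hx]
  refine mem_of_coprime_of_pow (fun x hx => conj_mem_autGroup h hXT hα hx)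
    (hco.pow_right n) hδ ?_
  have h3 := conj_mem_autGroup h hXT hα hbE
  have h4 : (α * (b⁻¹ * α)⁻¹ : MulAut X) = b := by group
  rw [h4]
  exact hbE

/-! ### Good automorphisms -/

variable {T₁ T₂ : Subgroup Ω} {E₁ : FusionSystem T₁} {E₂ : FusionSystem T₂}

/-- The standing hypotheses. -/
structure Setup (F : FusionSystem S) (p : ℕ) (E₁ : FusionSystem T₁) (E₂ : FusionSystem T₂)
    (T : Subgroup Ω) : Prop where
  pgroup : IsPGroup p S
  sat : F.IsSaturated p
  side₁ : Side F p E₁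
  side₂ : Side F p E₂
  inf : T₁ ⊓ T₂ = T

theorem Setup.le₁ (h : Setup F p E₁ E₂ T) : T ≤ T₁ := h.inf ▸ inf_le_left
theorem Setup.le₂ (h : Setup F p E₁ E₂ T) : T ≤ T₂ := h.inf ▸ inf_le_right
theorem Setup.closed (h : Setup F p E₁ E₂ T) : F.StronglyClosed T :=
  h.inf ▸ stronglyClosed_inf h.side₁.closed h.side₂.closed
theorem Setup.hTS (h : Setup F p E₁ E₂ T) : T ≤ S := h.closed.1
theorem Setup.normal (h : Setup F p E₁ E₂ T) : S ≤ Subgroup.normalizer (T : Set Ω) :=
  (le_normalizerIn_of_stronglyClosed h.closed).trans inf_le_right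

/-- Good automorphisms of `P C_S(P)`. -/
def Good (F : FusionSystem S) (E₁ : FusionSystem T₁) (E₂ : FusionSystem T₂) (T P : Subgroup Ω)
    (a : MulAut (base S P)) : Prop :=
  a ∈ stabR F P ∧ (∀ y ∈ base S P, y⁻¹ * autFun a y ∈ T) ∧
    IsMap E₁ (ubase T₁ P) (autFun a) ∧ IsMap E₂ (ubase T₂ P) (autFun a)

theorem stab_ubase [Finite S] (h : Side F p E) (hPT : P ≤ T') {a : MulAut (base S P)}
    (ha : a ∈ stabR F P) {x : Ω} (hx : x ∈ ubase T' P) : autFun a x ∈ ubase T' P := by
  have hPS := hPT.trans h.le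
  have hxB := ubase_le_base h.le hx
  exact mem_ubase hPT (autFun_mem a hxB)
    (h.map_mem ((mem_autGroup_iff (base_le hPS)).1 ha.1) hxB (ubase_le hPT hx))

variable [Finite S]

theorem Good.one (h : Setup F p E₁ E₂ T) (hP : P ≤ T) : Good F E₁ E₂ T P 1 := by
  refine ⟨one_mem _, fun y hy => by rw [autFun_one hy, inv_mul_cancel]; exact one_mem _, ?_, ?_⟩
  · exact (isMap_id (ubase_le (hP.trans h.le₁))).congr fun x hx =>
      autFun_one (ubase_le_base h.side₁.le hx)
  · exact (isMap_id (ubase_le (hP.trans h.le₂))).congr fun x hx =>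
      autFun_one (ubase_le_base h.side₂.le hx)

theorem disp_map (h : Setup F p E₁ E₂ T) (hP : P ≤ T) {a : MulAut (base S P)}
    (ha : a ∈ stabR F P) {z : Ω} (hz : z ∈ base S P) (hzT : z ∈ T) : autFun a z ∈ T :=
  cl_mem h.closed
    ((mem_autGroup_iff (base_le (hP.trans h.hTS))).1 ha.1) hz hzT

theorem Good.mul (h : Setup F p E₁ E₂ T) (hP : P ≤ T) {a b : MulAut (base S P)}
    (ha : Good F E₁ E₂ T P a) (hb : Good F E₁ E₂ T P b) : Good F E₁ E₂ T P (a * b) := by
  refine ⟨mul_mem ha.1 hb.1, fun y hy => ?_, ?_, ?_⟩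
  · have h1 := hb.2.1 y hy
    have hz : y⁻¹ * autFun b y ∈ base S P := mul_mem (inv_mem hy) (autFun_mem b hy)
    rw [autFun_mul _ _ hy, show autFun b y = y * (y⁻¹ * autFun b y) by group,
      autFun_map_mul a hy hz, ← mul_assoc]
    exact mul_mem (ha.2.1 y hy) (disp_map h hP ha.1 hz h1)
  · exact (hb.2.2.1.comp ha.2.2.1 fun x hx => stab_ubase h.side₁ (hP.trans h.le₁) hb.1 hx).congr
      fun x hx => autFun_mul _ _ (ubase_le_base h.side₁.le hx)
  · exact (hb.2.2.2.comp ha.2.2.2 fun x hx => stab_ubase h.side₂ (hP.trans h.le₂) hb.1 hx).congr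
      fun x hx => autFun_mul _ _ (ubase_le_base h.side₂.le hx)

theorem isMap_inv (hs : Side F p E) (hPT : P ≤ T') {a : MulAut (base S P)}
    (ha : a ∈ stabR F P) (hE : IsMap E (ubase T' P) (autFun a)) :
    IsMap E (ubase T' P) (autFun a⁻¹) := by
  have hU := ubase_le_base (P := P) hs.le
  have hi : img (ubase T' P) (autFun a) = ubase T' P := img_eq_of_map_le
    ((ubase_le hPT).trans hs.le) ((mem_autGroup_iff (base_le (hPT.trans hs.le))).1 ha.1) hU
    fun x hx => stab_ubase hs hPT ha hx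
  obtain ⟨a', ha', h1, -⟩ := hE.exists_inv
  rw [hi] at ha'
  refine ha'.congr fun y hy => ?_
  obtain ⟨x, hx, rfl⟩ := hE.mem_img.1 (hi.ge hy)
  rw [h1 x hx, PPrime.autFun_symm (hU hx)]

theorem Good.inv (h : Setup F p E₁ E₂ T) (hP : P ≤ T) {a : MulAut (base S P)}
    (ha : Good F E₁ E₂ T P a) : Good F E₁ E₂ T P a⁻¹ := by
  refine ⟨inv_mem ha.1, fun y hy => ?_, isMap_inv h.side₁ (hP.trans h.le₁) ha.1 ha.2.2.1,
    isMap_inv h.side₂ (hP.trans h.le₂) ha.1 ha.2.2.2⟩
  have h1 := ha.2.1 _ (autFun_mem a⁻¹ hy)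
  rw [PPrime.autFun_symm' hy] at h1
  have h2 := inv_mem h1
  rwa [mul_inv_rev, inv_inv] at h2

/-- Conjugations by `N_T(P)` are good. -/
theorem Good.of_conj (h : Setup F p E₁ E₂ T) (hP : P ≤ T) {t : Ω} (ht : t ∈ normalizerIn T P) :
    Good F E₁ E₂ T P (conjAut t (mem_normalizer_base h.hTS ht)) := by
  have hPS := hP.trans h.hTS
  have htn := mem_normalizer_base (S := S) h.hTS ht
  refine ⟨⟨(mem_autGroup_iff (base_le hPS)).2 ((isMap_conj (base_le hPS) (h.hTS ht.1)).congr
    fun x hx => autFun_conjAut htn hx), fun x hx => ?_⟩, fun y hy => ?_, ?_, ?_⟩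
  · rw [autFun_conjAut htn hx]; exact Subgroup.mem_normalizer_iff.1 ht.2 x
  · rw [autFun_conjAut htn hy, show y⁻¹ * (t * y * t⁻¹) = (y⁻¹ * t * y⁻¹⁻¹) * t⁻¹ by group]
    exact mul_mem ((Subgroup.mem_normalizer_iff.1 (h.normal (S.inv_mem (base_le hPS hy))) t).1 ht.1)
      (inv_mem ht.1)
  · exact (isMap_conj (ubase_le (hP.trans h.le₁)) (h.le₁ ht.1)).congr fun x hx =>
      autFun_conjAut htn (ubase_le_base h.side₁.le hx)
  · exact (isMap_conj (ubase_le (hP.trans h.le₂)) (h.le₂ ht.1)).congr fun x hx =>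
      autFun_conjAut htn (ubase_le_base h.side₂.le hx)

theorem side_transport (hs : Side F p E) (hPT : P ≤ T') (hP : F.IsFullyCentralized P)
    (hX : F.IsFullyCentralized X) (hg : IsMap F (base S P) g) (hi : img P g = X)
    {a : MulAut (base S P)} {a' : MulAut (base S X)} (hst : a ∈ stabR F P)
    (he : ∀ x ∈ base S P, autFun a' (g x) = g (autFun a x))
    (hE : IsMap E (ubase T' P) (autFun a)) : IsMap E (ubase T' X) (autFun a') := by
  have hU := ubase_le_base (P := P) hs.le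
  obtain ⟨k, hk, hke⟩ := hs.inv (ubase T' P) (ubase T' P) (autFun a) g le_rfl (ubase_le hPT) hE
    (fun x hx => stab_ubase hs hPT hst hx) (hg.mono hU)
  rw [img_ubase hs hPT hX hP hg hi] at hk
  refine hk.congr fun y hy => ?_
  obtain ⟨x, hx, rfl⟩ := (hg.mono hU).mem_img.1 ((img_ubase hs hPT hX hP hg hi).ge hy)
  rw [hke x hx, he x (hU hx)]

/-- Good automorphisms are carried along maps of the bases. -/
theorem Good.transport (h : Setup F p E₁ E₂ T) (hP : P ≤ T) (hPc : F.IsFullyCentralized P)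
    (hX : F.IsFullyCentralized X) (hg : IsMap F (base S P) g) (hi : img P g = X)
    {a : MulAut (base S P)} (ha : Good F E₁ E₂ T P a) :
    ∃ a' : MulAut (base S X), Good F E₁ E₂ T X a' ∧
      (∀ x ∈ base S P, autFun a' (g x) = g (autFun a x)) ∧ orderOf a' ∣ orderOf a := by
  have hPS := hP.trans h.hTS
  have hB := img_base hX hPc hg hi
  obtain ⟨g', hg', hg1, hg2⟩ := hg.exists_inv
  rw [hB] at hg' hg2
  have hmem : ∀ x ∈ base S P, g x ∈ base S X := fun x hx => hB.le (hg.mem_img.2 ⟨x, hx, rfl⟩)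
  have hm : IsMap F (base S X) (g ∘ (autFun a ∘ g')) :=
    (hg'.comp ((mem_autGroup_iff (base_le hPS)).1 ha.1.1) fun y hy => (hg2 y hy).1).comp hg
      fun y hy => autFun_mem a (hg2 y hy).1
  have hmi : img (base S X) (g ∘ (autFun a ∘ g')) = base S X :=
    img_eq_of_map_le (base_le hX.1) hm le_rfl fun y hy => hmem _ (autFun_mem a (hg2 y hy).1)
  set a' := autOf hm hmi with ha'
  have he : ∀ x ∈ base S P, autFun a' (g x) = g (autFun a x) := fun x hx => by
    rw [ha', autFun_autOf hm hmi (hmem x hx)]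
    show g (autFun a (g' (g x))) = _
    rw [hg1 x hx]
  have hgP : ∀ x ∈ base S P, (g x ∈ X ↔ x ∈ P) := fun x hx => by
    constructor
    · intro hxX
      obtain ⟨y, hy, hyx⟩ := (hg.mono le_sup_left).mem_img.1 (hi.ge hxX)
      rwa [hg.inj hx (Subgroup.mem_sup_left hy) hyx.symm]
    · intro hxP
      exact hi.le ((hg.mono le_sup_left).mem_img.2 ⟨x, hxP, rfl⟩)
  refine ⟨a', ⟨⟨autOf_mem hm hmi, fun y hy => ?_⟩, fun y hy => ?_,
    side_transport h.side₁ (hP.trans h.le₁) hPc hX hg hi ha.1 he ha.2.2.1,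
    side_transport h.side₂ (hP.trans h.le₂) hPc hX hg hi ha.1 he ha.2.2.2⟩, he, ?_⟩
  · obtain ⟨x, hx, rfl⟩ := hg.mem_img.1 (hB.ge hy)
    rw [he x hx, hgP x hx, hgP _ (autFun_mem a hx)]
    exact ha.1.2 x hx
  · obtain ⟨x, hx, rfl⟩ := hg.mem_img.1 (hB.ge hy)
    rw [he x hx, ← hg.map_inv hx, ← hg.map_mul (inv_mem hx) (autFun_mem a hx)]
    exact cl_mem h.closed hg
      (mul_mem (inv_mem hx) (autFun_mem a hx)) (ha.2.1 x hx)
  · refine orderOf_dvd_of_pow_eq_one (autFun_ext fun y hy => ?_)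
    obtain ⟨x, hx, rfl⟩ := hg.mem_img.1 (hB.ge hy)
    have hpow : ∀ n : ℕ, autFun (a' ^ n) (g x) = g (autFun (a ^ n) x) := fun n => by
      induction n with
      | zero => rw [pow_zero, pow_zero, autFun_one hy, autFun_one hx]
      | succ n ih => rw [pow_succ', pow_succ', autFun_mul _ _ hy, ih, he _ (autFun_mem _ hx),
          autFun_mul _ _ hx]
    rw [hpow, pow_orderOf_eq_one, autFun_one hx, autFun_one hy]

end CfsgLib.Fusion.Meet
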