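import Cfsg.Agent.Lib.Fusion.System.GroupFactor
import Cfsg.Agent.Lib.Fusion.System.ProductSat
import Cfsg.Agent.Lib.Fusion.System.Puig
import Cfsg.Agent.Lib.Fusion.System.FactorSat
import Cfsg.Agent.Lib.Fusion.System.Components.CoreLemmas
import Cfsg.Agent.Lib.Fusion.System.Meet.Base

/-!
# Central products: existence and maps

A map of a central product is a pair of maps of the factors on the subgroups of components.
-/

set_option autoImplicit false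
set_option maxHeartbeats 1000000
set_option linter.style.haveILetI false
set_option linter.unusedSectionVars false

open Subgroup
open scoped Classical Pointwise

namespace CfsgLib.Fusion.Meet

open Cfsg (FusionSystem autInducedBy)
open Cfsg.FusionSystem (normalizerIn centralizerIn preimageAlong)
open CfsgLib.Fusion

universe u

variable {Ω : Type u} [Group Ω] {T T₁ T₂ : Subgroup Ω} {E₁ : FusionSystem T₁}
  {E₂ : FusionSystem T₂} {D : FusionSystem T} {p : ℕ} {P : Subgroup Ω} {f : Ω → Ω}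

/-- The first components of the elements of `P ≤ T₁T₂`. -/
def pr (T₁ T₂ P : Subgroup Ω) : Subgroup Ω := T₁ ⊓ (P ⊔ T₂)

/-- A pair of maps on the components. -/
def Pair (E₁ : FusionSystem T₁) (E₂ : FusionSystem T₂) (P : Subgroup Ω) (f : Ω → Ω) : Prop :=
  P ≤ T₁ ⊔ T₂ ∧ ∃ f₁ f₂, IsMap E₁ (pr T₁ T₂ P) f₁ ∧ IsMap E₂ (pr T₂ T₁ P) f₂ ∧
    ∀ a ∈ T₁, ∀ b ∈ T₂, a * b ∈ P → f (a * b) = f₁ a * f₂ b

theorem mem_pr_left {a b : Ω} (ha : a ∈ T₁) (hb : b ∈ T₂) (hab : a * b ∈ P) : a ∈ pr T₁ T₂ P := by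
  refine Subgroup.mem_inf.2 ⟨ha, ?_⟩
  rw [show a = a * b * b⁻¹ by group]
  exact mul_mem (Subgroup.mem_sup_left hab) (Subgroup.mem_sup_right (inv_mem hb))

theorem mem_pr_right {a b : Ω} (ha : a ∈ T₁) (hb : b ∈ T₂) (hab : a * b ∈ P) :
    b ∈ pr T₂ T₁ P := by
  refine Subgroup.mem_inf.2 ⟨hb, ?_⟩
  rw [show b = a⁻¹ * (a * b) by group]
  exact mul_mem (Subgroup.mem_sup_right (inv_mem ha)) (Subgroup.mem_sup_left hab)

theorem pr_le : pr T₁ T₂ P ≤ T₁ := inf_le_left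

theorem normalizes_right (hc : ∀ x ∈ T₁, ∀ y ∈ T₂, x * y = y * x) :
    T₁ ⊔ T₂ ≤ Subgroup.normalizer (T₂ : Set Ω) := by
  refine sup_le (fun x hx => ?_) Subgroup.le_normalizer
  exact Subgroup.centralizer_le_normalizer _
    (Subgroup.mem_centralizer_iff.2 fun y hy => (hc x hx y hy).symm)

theorem exists_mul_of_mem_sup (hc : ∀ x ∈ T₁, ∀ y ∈ T₂, x * y = y * x) {x : Ω}
    (hx : x ∈ T₁ ⊔ T₂) : ∃ a ∈ T₁, ∃ b ∈ T₂, x = a * b :=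
  mem_base (fun y hy => Subgroup.mem_centralizer_iff.2 fun a ha => hc a ha y hy) hx

theorem exists_of_mem_pr (hc : ∀ x ∈ T₁, ∀ y ∈ T₂, x * y = y * x) (hP : P ≤ T₁ ⊔ T₂) {a : Ω}
    (ha : a ∈ pr T₁ T₂ P) : ∃ b ∈ T₂, a * b ∈ P := by
  have h1 : a ∈ ((P : Set Ω) * (T₂ : Set Ω)) := by
    rw [← Subgroup.coe_mul_of_left_le_normalizer_right P T₂ (hP.trans (normalizes_right hc))]
    exact (Subgroup.mem_inf.1 ha).2
  obtain ⟨x, hx, b, hb, rfl⟩ := Set.mem_mul.1 h1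
  exact ⟨b⁻¹, inv_mem hb, by rwa [mul_inv_cancel_right]⟩

theorem exists_of_mem_pr' (hc : ∀ x ∈ T₁, ∀ y ∈ T₂, x * y = y * x) (hP : P ≤ T₁ ⊔ T₂) {b : Ω}
    (hb : b ∈ pr T₂ T₁ P) : ∃ a ∈ T₁, a * b ∈ P := by
  obtain ⟨a, ha, hab⟩ := exists_of_mem_pr (fun x hx y hy => (hc y hy x hx).symm)
    (hP.trans (sup_comm T₁ T₂).le) hb
  exact ⟨a, ha, by rwa [hc a ha b (Subgroup.mem_inf.1 hb).1]⟩

theorem pr_self : pr T₁ T₂ (T₁ ⊔ T₂) = T₁ :=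
  inf_eq_left.2 (le_sup_left.trans le_sup_left)

theorem isPGroup_prod [Finite T₁] [Finite T₂] [Fact p.Prime] (h₁ : IsPGroup p T₁)
    (h₂ : IsPGroup p T₂) : IsPGroup p (T₁.prod T₂) := by
  obtain ⟨m, hm⟩ := IsPGroup.iff_card.1 h₁
  obtain ⟨n, hn⟩ := IsPGroup.iff_card.1 h₂
  exact IsPGroup.of_card (n := m + n)
    (by rw [Nat.card_congr (Subgroup.prodEquiv T₁ T₂).toEquiv, Nat.card_prod, hm, hn, pow_add])

/-- The data of a central product. -/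
theorem cp_data (h : Cfsg.FusionSystem.IsCentralProductOf E₁ E₂ D) :
    (∀ x ∈ T₁, ∀ y ∈ T₂, x * y = y * x) ∧ T = T₁ ⊔ T₂ := by
  obtain ⟨D₀, -, Z, θ, -, -, -, hθ₁, hθ₂, -, -, hr, -⟩ := h
  have hc : ∀ x ∈ T₁, ∀ y ∈ T₂, x * y = y * x := fun x hx y hy => by
    have hx' : ((x, 1) : Ω × Ω) ∈ T₁.prod T₂ := Subgroup.mem_prod.2 ⟨hx, one_mem _⟩
    have hy' : ((1, y) : Ω × Ω) ∈ T₁.prod T₂ := Subgroup.mem_prod.2 ⟨one_mem _, hy⟩
    have e : (⟨_, hx'⟩ * ⟨_, hy'⟩ : T₁.prod T₂) = ⟨_, hy'⟩ * ⟨_, hx'⟩ := by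
      apply Subtype.ext; simp
    have := congrArg θ e
    rwa [map_mul, map_mul, hθ₁, hθ₂] at this
  refine ⟨hc, le_antisymm (fun z hz => ?_) (sup_le (fun x hx => ?_) fun y hy => ?_)⟩
  · obtain ⟨s, rfl⟩ := hr.ge hz
    obtain ⟨h1, h2⟩ := Subgroup.mem_prod.1 s.2
    have e : s = ⟨(s.1.1, 1), Subgroup.mem_prod.2 ⟨h1, one_mem _⟩⟩ *
        ⟨(1, s.1.2), Subgroup.mem_prod.2 ⟨one_mem _, h2⟩⟩ := by
      apply Subtype.ext; simp
    rw [e, map_mul, hθ₁, hθ₂]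
    exact Subgroup.mul_mem_sup h1 h2
  · exact hr.le ⟨⟨(x, 1), Subgroup.mem_prod.2 ⟨hx, one_mem _⟩⟩, hθ₁ x _⟩
  · exact hr.le ⟨⟨(1, y), Subgroup.mem_prod.2 ⟨one_mem _, hy⟩⟩, hθ₂ y _⟩

variable [Fact p.Prime] [Finite T₁] [Finite T₂]

/-- The maps of a central product. -/
theorem cp_pair (hp₁ : IsPGroup p T₁) (hp₂ : IsPGroup p T₂) (hE₁ : E₁.IsSaturated p)
    (hE₂ : E₂.IsSaturated p) (h : Cfsg.FusionSystem.IsCentralProductOf E₁ E₂ D) :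
    D.IsSaturated p ∧ ∀ (P : Subgroup Ω) (f : Ω → Ω), IsMap D P f ↔ Pair E₁ E₂ P f := by
  obtain ⟨hc, hT⟩ := cp_data h
  obtain ⟨D₀, hprod, Z, θ, hZc, -, -, hθ₁, hθ₂, hfac⟩ := h
  obtain ⟨hZS, hker, hr, hhom⟩ := id hfac
  haveI : Finite (T₁.prod T₂) := Finite.of_equiv _ (Subgroup.prodEquiv T₁ T₂).symm.toEquiv
  have hpp := isPGroup_prod hp₁ hp₂
  have hD₀ : D₀.IsSaturated p := ProductSat.isSaturated hprod hp₁ hp₂ hE₁ hE₂
  have hcen : D₀.IsCentral Z := isCentral_iff.2 ⟨hZS, fun P f hf => by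
    obtain ⟨g, hg, hgf, hgc⟩ := (isCentral_iff.1 (isCentral_center (F := D₀))).2 P f hf
    exact ⟨g, hg.mono (sup_le_sup_left hZc P), hgf, fun x hx => hgc x (hZc hx)⟩⟩
  have hZsc : D₀.StronglyClosed Z :=
    stronglyClosed_of_isNormal (Components.isNormal_of_isCentral hcen)
  have hsurj := isSurjectiveMorphism_factor hpp hD₀ hZsc hfac
  refine ⟨isSaturated_of_isFactorSystem hpp hD₀ hZsc hfac, fun P f => ?_⟩
  have hθ : ∀ s : T₁.prod T₂, θ s = s.1.1 * s.1.2 := by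
    intro s
    obtain ⟨h1, h2⟩ := Subgroup.mem_prod.1 s.2
    have e : s = ⟨(s.1.1, 1), Subgroup.mem_prod.2 ⟨h1, one_mem _⟩⟩ *
        ⟨(1, s.1.2), Subgroup.mem_prod.2 ⟨one_mem _, h2⟩⟩ := by
      apply Subtype.ext; simp
    conv_lhs => rw [e]
    rw [map_mul, hθ₁, hθ₂]
  have hext : ∀ {a b : Ω}, a ∈ T₁ → b ∈ T₂ → ext1 θ (a, b) = a * b := fun ha hb => by
    rw [ext1_apply θ (Subgroup.mem_prod.2 ⟨ha, hb⟩), hθ]
  have hpre : ∀ {x : Ω × Ω}, x ∈ preimageAlong θ P ↔ x.1 ∈ T₁ ∧ x.2 ∈ T₂ ∧ x.1 * x.2 ∈ P := by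
    intro x
    rw [mem_preimageAlong]
    constructor
    · rintro ⟨hx, hxP⟩
      obtain ⟨h1, h2⟩ := Subgroup.mem_prod.1 hx
      refine ⟨h1, h2, ?_⟩
      rwa [show x = (x.1, x.2) from rfl, hext h1 h2] at hxP
    · rintro ⟨h1, h2, h3⟩
      refine ⟨Subgroup.mem_prod.2 ⟨h1, h2⟩, ?_⟩
      rwa [show x = (x.1, x.2) from rfl, hext h1 h2]
  have hp1 : ∀ (_ : P ≤ T₁ ⊔ T₂), ProductSat.proj₁ (preimageAlong θ P) = pr T₁ T₂ P := fun hP => by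
    ext a
    refine ⟨?_, fun ha => ?_⟩
    · rintro ⟨x, hx, rfl⟩
      obtain ⟨h1, h2, h3⟩ := hpre.1 hx
      exact mem_pr_left h1 h2 h3
    · obtain ⟨b, hb, hab⟩ := exists_of_mem_pr hc hP ha
      exact ⟨(a, b), hpre.2 ⟨(Subgroup.mem_inf.1 ha).1, hb, hab⟩, rfl⟩
  have hp2 : ∀ (_ : P ≤ T₁ ⊔ T₂), ProductSat.proj₂ (preimageAlong θ P) = pr T₂ T₁ P := fun hP => by
    ext b
    refine ⟨?_, fun hb => ?_⟩
    · rintro ⟨x, hx, rfl⟩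
      obtain ⟨h1, h2, h3⟩ := hpre.1 hx
      exact mem_pr_right h1 h2 h3
    · obtain ⟨a, ha, hab⟩ := exists_of_mem_pr' hc hP hb
      exact ⟨(a, b), hpre.2 ⟨ha, (Subgroup.mem_inf.1 hb).1, hab⟩, rfl⟩
  constructor
  · intro hf
    have hP : P ≤ T₁ ⊔ T₂ := hT ▸ hf.le
    obtain ⟨l, hl, hle⟩ := exists_lift_map hsurj hf
    obtain ⟨-, f₁, f₂, hf₁, hf₂, he⟩ := (ProductSat.isMap_iff hprod).1 hl
    rw [hp1 hP] at hf₁
    rw [hp2 hP] at hf₂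
    refine ⟨hP, f₁, f₂, hf₁, hf₂, fun a ha b hb hab => ?_⟩
    have hx : ((a, b) : Ω × Ω) ∈ preimageAlong θ P := hpre.2 ⟨ha, hb, hab⟩
    have h1 := hle _ hx
    rw [he _ hx, hext (hf₁.mem_S (mem_pr_left ha hb hab)) (hf₂.mem_S (mem_pr_right ha hb hab)),
      hext ha hb] at h1
    exact h1.symm
  · rintro ⟨hP, f₁, f₂, hf₁, hf₂, he⟩
    have hl : IsMap D₀ (preimageAlong θ P) (fun x => (f₁ x.1, f₂ x.2)) :=
      (ProductSat.isMap_iff hprod).2 ⟨preimageAlong_le θ P, f₁, f₂, (hp1 hP).symm ▸ hf₁,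
        (hp2 hP).symm ▸ hf₂, fun _ _ => rfl⟩
    obtain ⟨g, hg, hge⟩ := exists_image_map hsurj hl
    have hPr : P ≤ θ.range := fun x hx => hr.ge (hT ▸ hP hx)
    rw [imgι_preimageAlong hPr] at hg
    refine hg.congr fun z hz => ?_
    obtain ⟨a, ha, b, hb, rfl⟩ := exists_mul_of_mem_sup hc (hP hz)
    have h1 := hge (a, b) (hpre.2 ⟨ha, hb, hz⟩)
    rw [hext ha hb, hext (hf₁.mem_S (mem_pr_left ha hb hz))
      (hf₂.mem_S (mem_pr_right ha hb hz))] at h1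
    rw [h1, he a ha b hb hz]

/-- Central products exist when the intersection is central in both factors. -/
theorem exists_cp (hp₁ : IsPGroup p T₁) (hp₂ : IsPGroup p T₂)
    (hc : ∀ x ∈ T₁, ∀ y ∈ T₂, x * y = y * x) (hZ₁ : T₁ ⊓ T₂ ≤ E₁.center)
    (hZ₂ : T₁ ⊓ T₂ ≤ E₂.center) :
    ∃ D : FusionSystem (T₁ ⊔ T₂), Cfsg.FusionSystem.IsCentralProductOf E₁ E₂ D := by
  obtain ⟨D₀, hprod⟩ := exists_isProductSystem E₁ E₂
  haveI : Finite (T₁.prod T₂) := Finite.of_equiv _ (Subgroup.prodEquiv T₁ T₂).symm.toEquiv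
  let θ : ↥(T₁.prod T₂) →* Ω := MonoidHom.mk' (fun s => s.1.1 * s.1.2) fun s t => by
    show s.1.1 * t.1.1 * (s.1.2 * t.1.2) = s.1.1 * s.1.2 * (t.1.1 * t.1.2)
    rw [mul_assoc, ← mul_assoc t.1.1, hc _ (Subgroup.mem_prod.1 t.2).1 _ (Subgroup.mem_prod.1 s.2).2]
    group
  set Z := θ.ker.map (T₁.prod T₂).subtype with hZd
  have hZmem : ∀ z ∈ Z, z.1 ∈ T₁ ∧ z.2 ∈ T₂ ∧ z.1 * z.2 = 1 := by
    rintro z ⟨s, hs, rfl⟩
    exact ⟨(Subgroup.mem_prod.1 s.2).1, (Subgroup.mem_prod.1 s.2).2, hs⟩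
  have hZA : ∀ z ∈ Z, z.1 ∈ T₁ ⊓ T₂ ∧ z.2 ∈ T₁ ⊓ T₂ := fun z hz => by
    obtain ⟨h1, h2, h3⟩ := hZmem z hz
    have e := eq_inv_of_mul_eq_one_left h3
    have h1' : z.1 ∈ T₂ := e ▸ inv_mem h2
    have h2' : z.2 ∈ T₁ := by rw [eq_inv_of_mul_eq_one_right h3]; exact inv_mem h1
    exact ⟨⟨h1, h1'⟩, ⟨h2', h2⟩⟩
  have hcen : D₀.IsCentral Z := isCentral_iff.2 ⟨Subgroup.map_subtype_le _, fun P f hf => by
    obtain ⟨hP, f₁, f₂, hf₁, hf₂, he⟩ := (ProductSat.isMap_iff hprod).1 hf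
    obtain ⟨g₁, hg₁, hg₁f, hg₁c⟩ := (isCentral_iff.1 (isCentral_center (F := E₁))).2 _ f₁ hf₁
    obtain ⟨g₂, hg₂, hg₂f, hg₂c⟩ := (isCentral_iff.1 (isCentral_center (F := E₂))).2 _ f₂ hf₂
    refine ⟨fun x => (g₁ x.1, g₂ x.2), (ProductSat.isMap_iff hprod).2
      ⟨sup_le hP (Subgroup.map_subtype_le _), g₁, g₂, hg₁.mono ?_, hg₂.mono ?_, fun _ _ => rfl⟩,
      fun x hx => ?_, fun z hz => ?_⟩
    · rw [ProductSat.proj₁, Subgroup.map_sup]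
      refine sup_le_sup_left ?_ _
      rintro _ ⟨z, hz, rfl⟩
      exact hZ₁ (hZA z hz).1
    · rw [ProductSat.proj₂, Subgroup.map_sup]
      refine sup_le_sup_left ?_ _
      rintro _ ⟨z, hz, rfl⟩
      exact hZ₂ (hZA z hz).2
    · show (g₁ x.1, g₂ x.2) = f x
      rw [he x hx, hg₁f _ (ProductSat.mem_proj₁ hx), hg₂f _ (ProductSat.mem_proj₂ hx)]
    · show (g₁ z.1, g₂ z.2) = z
      rw [hg₁c _ (hZ₁ (hZA z hz).1), hg₂c _ (hZ₂ (hZA z hz).2)]⟩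
  have hker : ∀ s : T₁.prod T₂, θ s = 1 ↔ (s : Ω × Ω) ∈ Z := fun s => by
    rw [hZd]
    constructor
    · exact fun h => ⟨s, h, rfl⟩
    · rintro ⟨t, ht, e⟩
      rwa [← Subtype.ext e]
  have hrange : θ.range = T₁ ⊔ T₂ := by
    refine le_antisymm ?_ fun z hz => ?_
    · rintro _ ⟨s, rfl⟩
      exact Subgroup.mul_mem_sup (Subgroup.mem_prod.1 s.2).1 (Subgroup.mem_prod.1 s.2).2
    · obtain ⟨a, ha, b, hb, rfl⟩ := exists_mul_of_mem_sup hc hz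
      exact ⟨⟨(a, b), Subgroup.mem_prod.2 ⟨ha, hb⟩⟩, rfl⟩
  obtain ⟨D, hD⟩ := exists_isFactorSystem
    (stronglyClosed_of_isNormal (Components.isNormal_of_isCentral hcen)) θ hker hrange
  refine ⟨D, D₀, hprod, Z, θ, le_sSup hcen, ?_, ?_, fun x hx => mul_one x, fun y hy => one_mul y,
    hD⟩
  · refine le_bot_iff.1 fun z hz => ?_
    obtain ⟨hzZ, hz'⟩ := Subgroup.mem_inf.1 hz
    obtain ⟨-, -, h3⟩ := hZmem z hzZ
    have h2 := Subgroup.mem_bot.1 (Subgroup.mem_prod.1 hz').2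
    rw [h2, mul_one] at h3
    exact Subgroup.mem_bot.2 (Prod.ext h3 h2)
  · refine le_bot_iff.1 fun z hz => ?_
    obtain ⟨hzZ, hz'⟩ := Subgroup.mem_inf.1 hz
    obtain ⟨-, -, h3⟩ := hZmem z hzZ
    have h1 := Subgroup.mem_bot.1 (Subgroup.mem_prod.1 hz').1
    rw [h1, one_mul] at h3
    exact Subgroup.mem_bot.2 (Prod.ext h1 h3)

end CfsgLib.Fusion.Meet
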