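import Cfsg.Agent.Lib.Fusion.System.Meet.FixExt

/-!
# The intersection of commuting strongly closed subgroups is central in reduced subsystems
-/

set_option autoImplicit false
set_option linter.style.haveILetI false
set_option linter.unusedSectionVars false

open Subgroup
open scoped Classical Pointwise

namespace CfsgLib.Fusion.Meet

open Cfsg (FusionSystem autInducedBy)
open Cfsg.FusionSystem (normalizerIn centralizerIn)
open CfsgLib.Fusion

universe u

variable {Ω : Type u} [Group Ω] {S T T₂ : Subgroup Ω} {F : FusionSystem S} {E : FusionSystem T}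
  {p : ℕ} [Finite S] [Fact p.Prime]

/-- `T ∩ T₂` is central in a reduced subsystem over `T`. -/
theorem le_center_of_reduced (hS : IsPGroup p S) (hF : F.IsSaturated p) (h : Side F p E)
    (h₂ : F.StronglyClosed T₂) (hc : ∀ x ∈ T, ∀ y ∈ T₂, x * y = y * x) (hr : Reduced p E) :
    T ⊓ T₂ ≤ E.center := by
  haveI := finite_of_le h.le
  have hTp : IsPGroup p T := hS.to_le h.le
  have hEs := h.sat
  set A := T ⊓ T₂ with hA
  have hAsc : E.StronglyClosed A := stronglyClosed_iff.2 ⟨inf_le_left, fun R f hR hf x hx =>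
    ⟨hf.mem_S hx, cl_mem h₂ (hf.ofSubsystem h.sub) hx (hR hx).2⟩⟩
  have hAab : ⁅A, A⁆ = ⊥ := by
    refine le_bot_iff.1 (Subgroup.commutator_le.2 fun a ha b hb => ?_)
    rw [Subgroup.mem_bot, commutatorElement_def, hc a ha.1 b hb.2]
    group
  have hAn : E.IsNormal A := isNormal_of_series hTp hEs (n := 1)
    (Qs := fun i => if i = 0 then ⊥ else A) (by simp) (by simp)
    (fun i j hij => by
      rcases eq_or_ne i 0 with rfl | hi
      · simp
      · have hj : j ≠ 0 := fun e => hi (le_antisymm (e ▸ hij) (Fin.zero_le i))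
        simp [hi, hj])
    (fun i => by simpa [Fin.succ_ne_zero] using hAsc)
    (fun i => by simp [hAab])
  have hcent : T ≤ centralizerIn T A := fun x hx =>
    ⟨hx, Subgroup.mem_centralizer_iff.2 fun a ha => (hc x hx a ha.2).symm⟩
  set D := cSystem E T A hcent hAn.1
  have hD : D.IsSaturated p := by
    have key : ∀ (U : Subgroup Ω) (hU : U ≤ centralizerIn T A), U = centralizerIn T A →
        (cSystem E U A hU hAn.1).IsSaturated p := by
      rintro U hU rfl
      exact (Components.cSys_isWeaklyNormalIn hTp hEs hAn).1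
    exact key T hcent (le_antisymm hcent inf_le_left)
  have hsub : D.IsSubsystemOf E := fun _ _ hφ =>
    mem_hom_iff.2 (isMap_cSystem_iff.1 (isMap_toFun hφ)).isMap
  have hle := hr D hD (Components.hasPrimeToPIndex_of_pElement hTp hEs hsub fun R hR β hβ k hk => ?_)
  · refine le_sSup (isCentral_iff.2 ⟨hAn.1, fun P f hf => ?_⟩)
    exact (isMap_cSystem_iff.1 (Components.isMap_of_sub hle hf)).2.2
  have hAR : A ≤ R := fun a ha => centralizerIn_le_of_isCentric hR
    ⟨ha.1, Subgroup.mem_centralizer_iff.2 fun x hx => hc x (hR.1 hx) a ha.2⟩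
  obtain ⟨g, -, hgβ, hg2⟩ := fixExt_pElement hS hF h h₂ hc hR.1 hβ hk
  refine isMap_cSystem_iff.2 ⟨hR.1, fun x hx => hR.1 (autFun_mem β hx), autFun β,
    ((mem_autGroup_iff hR.1).1 hβ).mono (sup_le le_rfl hAR), fun _ _ => rfl, fun a ha => ?_⟩
  rw [← hgβ a (hAR ha), hg2 a ha.2]

end CfsgLib.Fusion.Meet
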