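import Cfsg.Agent.Lib.Fusion.System.Meet.Base
import Cfsg.Agent.Lib.Fusion.System.Puig
import Cfsg.Agent.Lib.Fusion.System.Components.CoreLayer

/-!
# Radical subgroups split along commuting strongly closed subgroups
-/

set_option autoImplicit false
set_option maxHeartbeats 1000000
set_option linter.style.haveILetI false
set_option linter.unusedSectionVars false

open Subgroup
open scoped Classical Pointwise

namespace CfsgLib.Fusion.Meet

open Cfsg (FusionSystem autInducedBy)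
open Cfsg.FusionSystem (normalizerIn centralizerIn)
open CfsgLib.Fusion

universe u

variable {Ω : Type u} [Group Ω] {S T₁ T₂ : Subgroup Ω} {F : FusionSystem S} {p : ℕ}
  [Finite S] [Fact p.Prime] {R : Subgroup Ω}

/-- The first components of the elements of `R ∩ T₁T₂` lie in `R`, for `R` centric radical or
the whole group. -/
theorem proj_le_of_radical (hS : IsPGroup p S) (hF : F.IsSaturated p) (h₁ : F.StronglyClosed T₁)
    (h₂ : F.StronglyClosed T₂) (hc : ∀ x ∈ T₁, ∀ y ∈ T₂, x * y = y * x)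
    (hR : R = S ∨ F.IsEssential p R) : T₁ ⊓ (R ⊓ (T₁ ⊔ T₂) ⊔ T₂) ≤ R := by
  rcases hR with rfl | hR
  · exact inf_le_left.trans h₁.1
  have hRc := hR.1
  have hrad := (isRadical_of_isEssential hS hR).2
  have hRS := hRc.1
  haveI := finite_of_le hRS
  haveI := finite_mulAut (P := R)
  have hU := stronglyClosed_sup hS hF h₁ h₂
  set U := T₁ ⊔ T₂
  set W := R ⊓ U with hW
  set W₁ := T₁ ⊓ (W ⊔ T₂) with hW₁
  have hcl : ∀ {A : Subgroup Ω}, F.StronglyClosed A → ∀ {s x : Ω}, s ∈ S → x ∈ A →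
      s * x * s⁻¹ ∈ A := fun hA _ _ hs hx => Components.conj_mem_of_stronglyClosed hA hs hx
  have hWS : W ⊔ T₂ ≤ S := sup_le (inf_le_left.trans hRS) h₂.1
  have hn : ∀ r ∈ R, ∀ x ∈ W₁, r * x * r⁻¹ ∈ W₁ := fun r hr x hx => by
    refine Subgroup.mem_inf.2 ⟨hcl h₁ (hRS hr) hx.1, ?_⟩
    exact (isMap_conj (F := F) hWS (hRS hr)).map_mem_of_sup (C := W ⊔ T₂) (fun z hz => Subgroup.mem_sup_left
        (Subgroup.mem_inf.2 ⟨R.mul_mem (R.mul_mem hr hz.1) (R.inv_mem hr), hcl hU (hRS hr) hz.2⟩))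
      (fun z hz => Subgroup.mem_sup_right (hcl h₂ (hRS hr) hz)) hx.2
  have hRn : R ≤ Subgroup.normalizer (W₁ : Set Ω) := fun r hr => Subgroup.mem_normalizer_iff.2
    fun x => ⟨hn r hr x, fun hx => by
      have := hn r⁻¹ (inv_mem hr) _ hx
      rwa [show r⁻¹ * (r * x * r⁻¹) * r⁻¹⁻¹ = x by group] at this⟩
  by_contra hcon
  set V := R ⊔ W₁ with hV
  have hVS : V ≤ S := sup_le hRS (inf_le_left.trans h₁.1)
  haveI := finite_of_le hVS
  have hne : R ≠ V := fun e => hcon (le_sup_right.trans e.ge)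
  obtain ⟨v, hv, hvR⟩ := SetLike.exists_of_lt (lt_normalizerIn (hS.to_le hVS) (le_sup_left : R ≤ V) hne)
  have hv1 : v ∈ ((R : Set Ω) * (W₁ : Set Ω)) := by
    rw [← Subgroup.coe_mul_of_left_le_normalizer_right R W₁ hRn]; exact hv.1
  obtain ⟨r, hr, a, ha, rfl⟩ := Set.mem_mul.1 hv1
  have haR : a ∉ R := fun h => hvR (mul_mem hr h)
  have han : a ∈ Subgroup.normalizer (R : Set Ω) := by
    have := Subgroup.mul_mem _ (Subgroup.inv_mem _ (Subgroup.le_normalizer hr)) hv.2
    rwa [inv_mul_cancel_left] at this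
  have haS : a ∈ S := h₁.1 ha.1
  have ha2 : a ∈ ((W : Set Ω) * (T₂ : Set Ω)) := by
    rw [← Subgroup.coe_mul_of_left_le_normalizer_right W T₂
      ((inf_le_left.trans hRS).trans ((le_normalizerIn_of_stronglyClosed h₂).trans inf_le_right))]
    exact ha.2
  obtain ⟨w, hw, b, hb, hab⟩ := Set.mem_mul.1 ha2
  set L := R ⊓ T₁ with hL
  have hconjL : ∀ x ∈ L, a * x * a⁻¹ = w * x * w⁻¹ := fun x hx => by
    rw [← hab, show w * b * x * (w * b)⁻¹ = w * (b * x * b⁻¹) * w⁻¹ by group, ← hc x hx.2 b hb,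
      mul_inv_cancel_right]
  have hLinv : ∀ α ∈ F.autGroup R, ∀ x ∈ L, autFun α x ∈ L := fun α hα x hx =>
    ⟨autFun_mem α hx.1, cl_mem h₁ ((mem_autGroup_iff hRS).1 hα) hx.1 hx.2⟩
  have hWinv : ∀ α ∈ F.autGroup R, ∀ x ∈ W, autFun α x ∈ W := fun α hα x hx =>
    ⟨autFun_mem α hx.1, cl_mem hU ((mem_autGroup_iff hRS).1 hα) hx.1 hx.2⟩
  have hLR : L ≤ R := inf_le_left
  -- automorphisms stabilizing `R ≥ L` and acting on `L` as elements of `W`
  let K : Subgroup (F.autGroup R) :=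
    { carrier := {α | (∀ x ∈ R, x⁻¹ * autFun (α : MulAut R) x ∈ L) ∧
        ∃ w ∈ W, ∀ x ∈ L, autFun (α : MulAut R) x = w * x * w⁻¹}
      one_mem' := ⟨fun x hx => by
          rw [Subgroup.coe_one, autFun_one hx, inv_mul_cancel]; exact one_mem L,
        1, one_mem W, fun x hx => by rw [Subgroup.coe_one, autFun_one (hLR hx)]; group⟩
      mul_mem' := by
        rintro α β ⟨hα, wa, hwa, hαw⟩ ⟨hβ, wb, hwb, hβw⟩
        refine ⟨fun x hx => ?_, autFun (α : MulAut R) wb * wa,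
          mul_mem (hWinv _ α.2 _ hwb) hwa, fun x hx => ?_⟩
        · rw [Subgroup.coe_mul, autFun_mul _ _ hx,
            show autFun (β : MulAut R) x = x * (x⁻¹ * autFun (β : MulAut R) x) by group,
            autFun_map_mul _ hx (hLR (hβ x hx)), ← mul_assoc]
          exact mul_mem (hα x hx) (hLinv _ α.2 _ (hβ x hx))
        · rw [Subgroup.coe_mul, autFun_mul _ _ (hLR hx), hβw x hx]
          have hm := (mem_autGroup_iff hRS).1 α.2
          rw [hm.map_mul (mul_mem hwb.1 (hLR hx)) (inv_mem hwb.1), hm.map_mul hwb.1 (hLR hx),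
            hm.map_inv hwb.1, hαw x hx]
          group
      inv_mem' := by
        rintro α ⟨hα, wa, hwa, hαw⟩
        refine ⟨fun x hx => ?_, wa⁻¹, inv_mem hwa, fun x hx => ?_⟩
        · have h1 := hα _ (autFun_mem (α : MulAut R)⁻¹ hx)
          rw [PPrime.autFun_symm' hx] at h1
          have h2 := inv_mem h1
          rwa [mul_inv_rev, inv_inv] at h2
        · have hx' := hLinv _ (inv_mem α.2) x hx
          have h1 := hαw _ hx'
          rw [PPrime.autFun_symm' (hLR hx)] at h1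
          rw [Subgroup.coe_inv, inv_inv]
          conv_rhs => rw [h1]
          group }
  haveI : K.Normal := ⟨fun α ⟨hα, wa, hwa, hαw⟩ γ => by
    have hm := (mem_autGroup_iff hRS).1 γ.2
    refine ⟨fun x hx => ?_, autFun (γ : MulAut R) wa, hWinv _ γ.2 _ hwa, fun x hx => ?_⟩
    · have hy := autFun_mem (γ : MulAut R)⁻¹ hx
      have h1 := hLinv _ γ.2 _ (hα _ hy)
      rw [hm.map_mul (inv_mem hy) (autFun_mem _ hy), hm.map_inv hy, PPrime.autFun_symm' hx] at h1
      rw [Subgroup.coe_mul, Subgroup.coe_mul, Subgroup.coe_inv, autFun_mul _ _ hx,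
        autFun_mul _ _ hy]
      exact h1
    · have hy := hLinv _ (inv_mem γ.2) x hx
      rw [Subgroup.coe_mul, Subgroup.coe_mul, Subgroup.coe_inv, autFun_mul _ _ (hLR hx),
        autFun_mul _ _ (hLR hy), hαw _ hy, hm.map_mul (mul_mem hwa.1 (hLR hy)) (inv_mem hwa.1),
        hm.map_mul hwa.1 (hLR hy), hm.map_inv hwa.1, PPrime.autFun_symm' (hLR hx)]⟩
  obtain ⟨n, hn'⟩ := IsPGroup.iff_card.1 hS
  have hKp : IsPGroup p K := by
    rintro ⟨α, hα⟩
    obtain ⟨hαs, wa, hwa, hαw⟩ := id hα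
    refine ⟨n + n, Subtype.ext (Subtype.ext (autFun_ext fun x hx => ?_))⟩
    simp only [Subgroup.coe_pow, Subgroup.coe_one]
    rw [autFun_one hx, pow_add, pow_mul]
    have hit : ∀ i : ℕ, ∀ y ∈ L, autFun ((α : MulAut R) ^ i) y = wa ^ i * y * (wa ^ i)⁻¹ := by
      intro i
      induction i with
      | zero => intro y hy; rw [pow_zero, autFun_one (hLR hy)]; group
      | succ i ih =>
        intro y hy
        rw [pow_succ, autFun_mul _ _ (hLR hy), ih _ (hLinv _ α.2 _ hy), hαw y hy, pow_succ]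
        group
    have hwn : wa ^ p ^ n = 1 := by
      have h1 := congrArg Subtype.val (pow_card_eq_one' (x := (⟨wa, hRS hwa.1⟩ : S)))
      rwa [hn'] at h1
    refine pow_fix_step hRS hn' le_rfl hLR (fun y hy => by rw [hit _ y hy, hwn]; group)
      (fun y hy => ?_) x hx
    have h1 := (pow_mem hα (p ^ n)).1 y hy
    rwa [Subgroup.coe_pow] at h1
  have hmem : (⟨conjAut a han, autInducedBy_le_autGroup hRS (conjAut_mem haS han)⟩ :
      F.autGroup R) ∈ K := by
    refine ⟨fun x hx => ?_, w, hw, fun x hx => ?_⟩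
    · show x⁻¹ * autFun (conjAut a han) x ∈ L
      rw [autFun_conjAut han hx]
      refine Subgroup.mem_inf.2 ⟨mul_mem (inv_mem hx) ((Subgroup.mem_normalizer_iff.1 han x).1 hx), ?_⟩
      rw [← mul_assoc, ← mul_assoc]
      refine mul_mem ?_ (inv_mem ha.1)
      have h1 := hcl h₁ (inv_mem (hRS hx)) ha.1
      rwa [inv_inv] at h1
    · show autFun (conjAut a han) x = _
      rw [autFun_conjAut han (hLR hx), hconjL x hx]
  have hinn : conjAut a han ∈ autInducedBy R R := by
    rw [← inn_eq_autInducedBy, ← hrad]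
    exact ⟨_, CfsgLib.Coprime.le_pCore hKp hmem, rfl⟩
  obtain ⟨r', hr', hr'e⟩ := mem_autInducedBy_iff.1 hinn
  have hcen : r'⁻¹ * a ∈ centralizerIn S R := by
    refine ⟨S.mul_mem (S.inv_mem (hRS hr')) haS, Subgroup.mem_centralizer_iff.2 fun x hx => ?_⟩
    have h1 := hr'e x hx
    rw [autFun_conjAut han hx] at h1
    calc x * (r'⁻¹ * a) = r'⁻¹ * (r' * x * r'⁻¹) * a := by group
      _ = r'⁻¹ * a * x := by rw [← h1]; group
  have := R.mul_mem hr' (centralizerIn_le_of_isCentric hRc hcen)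
  rw [mul_inv_cancel_left] at this
  exact haR this

end CfsgLib.Fusion.Meet
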