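import Cfsg.Agent.Lib.Fusion.System.Meet.FixExt
import Cfsg.Agent.Lib.Fusion.System.Meet.Split
import Cfsg.Agent.Lib.Fusion.System.Meet.CentralProduct

/-!
# The central product of commuting normal subsystems is normal
-/

set_option autoImplicit false
set_option maxHeartbeats 1000000
set_option linter.style.haveILetI false
set_option linter.unusedSectionVars false

open Subgroup
open scoped Classical Pointwise

namespace CfsgLib.Fusion.Meet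

open Cfsg (FusionSystem autInducedBy)
open Cfsg.FusionSystem (normalizerIn centralizerIn)
open CfsgLib.Fusion

universe u

variable {Ω : Type u} [Group Ω] {S T T₁ T₂ : Subgroup Ω} {F : FusionSystem S}
  {E₁ : FusionSystem T₁} {E₂ : FusionSystem T₂} {D : FusionSystem T} {p : ℕ}
  {P Q R A : Subgroup Ω} {f g : Ω → Ω}

/-- What is used of two commuting normal subsystems. -/
structure Comm (F : FusionSystem S) (p : ℕ) (E₁ : FusionSystem T₁) (E₂ : FusionSystem T₂) :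
    Prop where
  pgroup : IsPGroup p S
  sat : F.IsSaturated p
  nor₁ : E₁.IsNormalIn F p
  nor₂ : E₂.IsNormalIn F p
  comm : ∀ x ∈ T₁, ∀ y ∈ T₂, x * y = y * x
  cen₁ : T₁ ⊓ T₂ ≤ E₁.center
  cen₂ : T₁ ⊓ T₂ ≤ E₂.center

theorem Comm.symm (h : Comm F p E₁ E₂) : Comm F p E₂ E₁ :=
  ⟨h.pgroup, h.sat, h.nor₂, h.nor₁, fun x hx y hy => (h.comm y hy x hx).symm,
    inf_comm T₂ T₁ ▸ h.cen₂, inf_comm T₂ T₁ ▸ h.cen₁⟩

theorem Comm.cl₁ (h : Comm F p E₁ E₂) : F.StronglyClosed T₁ := h.nor₁.1.2.2.2.1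
theorem Comm.cl₂ (h : Comm F p E₁ E₂) : F.StronglyClosed T₂ := h.nor₂.1.2.2.2.1

variable [Finite S] [Fact p.Prime]

/-- The first component of a map of the product, transported by `g`. -/
theorem transport_fst (h : Comm F p E₁ E₂) {f₁ f₂ : Ω → Ω} (hg : IsMap F P g)
    (hproj : T₁ ⊓ (P ⊓ (T₁ ⊔ T₂) ⊔ T₂) ≤ P) (hA : A ≤ P ⊓ (T₁ ⊔ T₂))
    (hf₁ : IsMap E₁ (pr T₁ T₂ A) f₁) (hf₂ : IsMap E₂ (pr T₂ T₁ A) f₂)
    (hf : ∀ a ∈ T₁, ∀ b ∈ T₂, a * b ∈ A → f (a * b) = f₁ a * f₂ b)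
    (hfW : ∀ x ∈ A, f x ∈ P ⊓ (T₁ ⊔ T₂)) :
    pr T₁ T₂ A ≤ P ∧ (∀ a ∈ pr T₁ T₂ A, f₁ a ∈ P) ∧
      pr T₁ T₂ (img A g) ≤ img (pr T₁ T₂ A) g ∧
      ∃ d, IsMap E₁ (img (pr T₁ T₂ A) g) d ∧ ∀ a ∈ pr T₁ T₂ A, d (g a) = g (f₁ a) := by
  have hW : A ≤ T₁ ⊔ T₂ := hA.trans inf_le_right
  have h1 : pr T₁ T₂ A ≤ P := (inf_le_inf_left _ (sup_le_sup_right hA _)).trans hproj
  have h2 : ∀ a ∈ pr T₁ T₂ A, f₁ a ∈ P := fun a ha => by
    obtain ⟨b, hb, hab⟩ := exists_of_mem_pr h.comm hW ha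
    have hv := hfW _ hab
    rw [hf a (pr_le ha) b hb hab] at hv
    refine hproj (Subgroup.mem_inf.2 ⟨hf₁.mem_S ha, ?_⟩)
    have hb2 : f₂ b ∈ T₂ := hf₂.mem_S (mem_pr_right (pr_le ha) hb hab)
    have := mul_mem (Subgroup.mem_sup_left (T := T₂) hv)
      (Subgroup.mem_sup_right (S := P ⊓ (T₁ ⊔ T₂)) (inv_mem hb2))
    rwa [mul_inv_cancel_right] at this
  have hgA := hg.mono (hA.trans inf_le_left)
  refine ⟨h1, h2, fun z hz => ?_, ?_⟩
  · have hgi : img A g ≤ T₁ ⊔ T₂ := hgA.img_le_of_forall fun x hx =>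
      (stronglyClosed_iff.1 (stronglyClosed_sup h.pgroup h.sat h.cl₁ h.cl₂)).2 A g hW hgA x hx
    obtain ⟨b', hb', hzb⟩ := exists_of_mem_pr h.comm hgi hz
    obtain ⟨x, hx, hxe⟩ := hgA.mem_img.1 hzb
    obtain ⟨a, ha, b, hb, rfl⟩ := exists_mul_of_mem_sup h.comm (hW hx)
    have hap := mem_pr_left ha hb hx
    have haP := h1 hap
    have hbP : b ∈ P := by
      have := mul_mem (inv_mem haP) (hA hx).1
      rwa [inv_mul_cancel_left] at this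
    rw [hg.map_mul haP hbP] at hxe
    have hga : g a ∈ T₁ := cl_mem h.cl₁ hg haP ha
    have hgb : g b ∈ T₂ := cl_mem h.cl₂ hg hbP hb
    set c := (g a)⁻¹ * z with hc
    have hcm : c ∈ T₁ ⊓ T₂ := by
      refine Subgroup.mem_inf.2 ⟨mul_mem (inv_mem hga) (pr_le hz), ?_⟩
      rw [hc, show z = g a * g b * b'⁻¹ by rw [hxe]; group,
        show (g a)⁻¹ * (g a * g b * b'⁻¹) = g b * b'⁻¹ by group]
      exact mul_mem hgb (inv_mem hb')
    have hA12 : T₁ ⊓ T₂ ≤ pr T₁ T₂ A := inf_le_inf_left _ le_sup_right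
    have hAP := hA12.trans h1
    have hi : img (T₁ ⊓ T₂) g = T₁ ⊓ T₂ := img_eq_of_map_le (inf_le_left.trans h.cl₁.1) hg hAP
      fun y hy => ⟨cl_mem h.cl₁ hg (hAP hy) hy.1, cl_mem h.cl₂ hg (hAP hy) hy.2⟩
    rw [show z = g a * c by rw [hc, mul_inv_cancel_left]]
    exact mul_mem ((hg.mono h1).mem_img.2 ⟨a, hap, rfl⟩)
      ((hg.mono h1).img_mono hA12 (hi.ge hcm))
  · have hs := Side.of_weaklyNormal h.pgroup h.nor₁.1
    exact hs.inv (pr T₁ T₂ A) (T₁ ⊓ P) f₁ g (le_inf pr_le h1) inf_le_left hf₁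
      (fun a ha => ⟨hf₁.mem_S ha, h2 a ha⟩) (hg.mono inf_le_right)

/-- `g` carries the product maps inside `P` to product maps. -/
def Norm (E₁ : FusionSystem T₁) (E₂ : FusionSystem T₂) (P : Subgroup Ω) (g : Ω → Ω) : Prop :=
  ∀ (A : Subgroup Ω) (f : Ω → Ω), A ≤ P ⊓ (T₁ ⊔ T₂) → Pair E₁ E₂ A f →
    (∀ x ∈ A, f x ∈ P ⊓ (T₁ ⊔ T₂)) → ∃ d, Pair E₁ E₂ (img A g) d ∧ ∀ x ∈ A, d (g x) = g (f x)

theorem Norm.congr (h : Norm E₁ E₂ P g) (he : ∀ x ∈ P, f x = g x) : Norm E₁ E₂ P f := by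
  intro A k hA hk hkW
  obtain ⟨d, hd, hde⟩ := h A k hA hk hkW
  refine ⟨d, ?_, fun x hx => ?_⟩
  · rwa [show img A f = img A g from IsMap.img_congr fun x hx => he x (hA hx).1]
  · rw [he x (hA hx).1, he _ (hkW x hx).1, hde x hx]

theorem Norm.mono (h : Norm E₁ E₂ P g) (hQ : Q ≤ P) : Norm E₁ E₂ Q g :=
  fun A k hA hk hkW => h A k (hA.trans (inf_le_inf_right _ hQ)) hk
    fun x hx => inf_le_inf_right _ hQ (hkW x hx)

theorem norm_of_proj (h : Comm F p E₁ E₂) (hg : IsMap F P g)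
    (hp₁ : T₁ ⊓ (P ⊓ (T₁ ⊔ T₂) ⊔ T₂) ≤ P) (hp₂ : T₂ ⊓ (P ⊓ (T₁ ⊔ T₂) ⊔ T₁) ≤ P) :
    Norm E₁ E₂ P g := by
  haveI := finite_of_le h.cl₁.1
  haveI := finite_of_le h.cl₂.1
  intro A f hA hfp hfW
  obtain ⟨hW, f₁, f₂, hf₁, hf₂, hf⟩ := hfp
  obtain ⟨hA₁, hv₁, hle₁, d₁, hd₁, hde₁⟩ := transport_fst h hg hp₁ hA hf₁ hf₂ hf hfW
  have hA' : A ≤ P ⊓ (T₂ ⊔ T₁) := by rwa [sup_comm]
  have hp₂' : T₂ ⊓ (P ⊓ (T₂ ⊔ T₁) ⊔ T₁) ≤ P := by rwa [sup_comm T₂ T₁]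
  obtain ⟨hA₂, hv₂, hle₂, d₂, hd₂, hde₂⟩ := transport_fst h.symm hg hp₂' hA' hf₂ hf₁
    (f := f) (fun b hb a ha hba => by
      have hab : a * b ∈ A := by rwa [h.comm a ha b hb]
      rw [← h.comm a ha b hb, hf a ha b hb hab,
        h.comm _ (hf₁.mem_S (mem_pr_left ha hb hab)) _ (hf₂.mem_S (mem_pr_right ha hb hab))])
    (fun x hx => by rw [sup_comm]; exact hfW x hx)
  have hgA := hg.mono (hA.trans inf_le_left)
  obtain ⟨g', -, hg'1, -⟩ := hgA.exists_inv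
  refine ⟨g ∘ f ∘ g', ⟨hgA.img_le_of_forall fun x hx =>
      (stronglyClosed_iff.1 (stronglyClosed_sup h.pgroup h.sat h.cl₁ h.cl₂)).2 A g hW hgA x hx,
    d₁, d₂, hd₁.mono hle₁, hd₂.mono hle₂, fun a' ha' b' hb' hab' => ?_⟩, fun x hx => by
      show g (f (g' (g x))) = _; rw [hg'1 x hx]⟩
  obtain ⟨x, hx, hxe⟩ := hgA.mem_img.1 hab'
  show g (f (g' (a' * b'))) = _
  rw [← hxe, hg'1 x hx]
  obtain ⟨a, ha, b, hb, rfl⟩ := exists_mul_of_mem_sup h.comm (hW hx)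
  have hap := mem_pr_left ha hb hx
  have hbp := mem_pr_right ha hb hx
  rw [hg.map_mul (hA₁ hap) (hA₂ hbp)] at hxe
  rw [hf a ha b hb hx, hg.map_mul (hv₁ a hap) (hv₂ b hbp), ← hde₁ a hap, ← hde₂ b hbp]
  have hga : g a ∈ img (pr T₁ T₂ A) g := (hg.mono hA₁).mem_img.2 ⟨a, hap, rfl⟩
  have hgb : g b ∈ img (pr T₂ T₁ A) g := (hg.mono hA₂).mem_img.2 ⟨b, hbp, rfl⟩
  have hga' : a' ∈ img (pr T₁ T₂ A) g := hle₁ (mem_pr_left ha' hb' hab')
  have hgb' : b' ∈ img (pr T₂ T₁ A) g := hle₂ (mem_pr_right ha' hb' hab')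
  set c := (g a)⁻¹ * a' with hc
  have hcb : c = g b * b'⁻¹ := by
    rw [hc, eq_mul_inv_iff_mul_eq, mul_assoc, inv_mul_eq_iff_eq_mul, hxe]
  have hc₁ : c ∈ img (pr T₁ T₂ A) g := mul_mem (inv_mem hga) hga'
  have hc₂ : c ∈ img (pr T₂ T₁ A) g := hcb ▸ mul_mem hgb (inv_mem hgb')
  have hcA : c ∈ T₁ ⊓ T₂ := Subgroup.mem_inf.2 ⟨hd₁.le hc₁, hd₂.le hc₂⟩
  rw [show a' = g a * c by rw [hc, mul_inv_cancel_left],
    show b' = c⁻¹ * g b by rw [hcb]; group,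
    hd₁.map_mul hga hc₁, hd₂.map_mul (inv_mem hc₂) hgb, hd₂.map_inv hc₂,
    center_fixed hd₁ hc₁ (h.cen₁ hcA), center_fixed hd₂ hc₂ (h.cen₂ hcA)]
  group

/-- The central product is strongly invariant. -/
theorem pair_strongInv (h : Comm F p E₁ E₂) {D : FusionSystem (T₁ ⊔ T₂)}
    (hD : ∀ (P : Subgroup Ω) (f : Ω → Ω), IsMap D P f ↔ Pair E₁ E₂ P f) : StrongInv D F := by
  have hS := h.pgroup
  set U := T₁ ⊔ T₂
  have hUc : F.StronglyClosed U := stronglyClosed_sup hS h.sat h.cl₁ h.cl₂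
  have hW : ∀ {P : Subgroup Ω} {g : Ω → Ω}, IsMap F P g → ∀ x ∈ P ⊓ U, g x ∈ U :=
    fun hg x hx => cl_mem hUc hg hx.1 hx.2
  have hS₁ : T₁ ⊓ (S ⊓ U ⊔ T₂) ≤ S := inf_le_left.trans h.cl₁.1
  have hS₂ : T₂ ⊓ (S ⊓ U ⊔ T₁) ≤ S := inf_le_left.trans h.cl₂.1
  let EL : FusionSystem S := mkSystem F S
    (fun P g => IsMap F P g ∧ Norm E₁ E₂ P g ∧
      ∀ g', IsMap F (img P g) g' → (∀ x ∈ P, g' (g x) = x) → Norm E₁ E₂ (img P g) g')
    (fun P g hg => ⟨hg.1, hg.1.le, fun x hx => hg.1.mem_S hx⟩)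
    (fun P g k hg he => ⟨hg.1.congr he, hg.2.1.congr he, fun k' hk' hk1 => by
      rw [IsMap.img_congr he] at hk' ⊢
      exact hg.2.2 k' hk' fun x hx => by rw [← he x hx]; exact hk1 x hx⟩)
    (fun P s hP hs => by
      refine ⟨isMap_conj hP hs, (norm_of_proj h (isMap_conj le_rfl hs) hS₁ hS₂).mono hP,
        fun g' hg' hg1 => ?_⟩
      refine ((norm_of_proj h (isMap_conj le_rfl (inv_mem hs)) hS₁ hS₂).mono hg'.le).congr
        fun y hy => ?_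
      obtain ⟨x, hx, rfl⟩ := (isMap_conj (F := F) hP hs).mem_img.1 hy
      rw [hg1 x hx]; group)
    (fun P R g k ⟨hg, hgn, hgi⟩ ⟨hk, hkn, hki⟩ hm => by
      refine ⟨hg.comp hk hm, fun A f hA hfp hfW => ?_, fun l hl hl1 => ?_⟩
      · have hgA := hg.mono (hA.trans inf_le_left)
        obtain ⟨d₁, hd₁, hde₁⟩ := hgn A f hA hfp hfW
        have hsub : img A g ≤ R ⊓ U := hgA.img_le_of_forall fun x hx =>
          ⟨hm x (hA hx).1, hW hg x (hA hx)⟩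
        obtain ⟨d₂, hd₂, hde₂⟩ := hkn (img A g) d₁ hsub hd₁ fun y hy => by
          obtain ⟨x, hx, rfl⟩ := hgA.mem_img.1 hy
          rw [hde₁ x hx]
          exact ⟨hm _ (hfW x hx).1, hW hg _ (hfW x hx)⟩
        rw [img_img hgA] at hd₂
        refine ⟨d₂, hd₂, fun x hx => ?_⟩
        show d₂ (k (g x)) = k (g (f x))
        rw [hde₂ _ (hgA.mem_img.2 ⟨x, hx, rfl⟩), hde₁ x hx]
      · obtain ⟨g', hg', hg1, -⟩ := hg.exists_inv
        obtain ⟨k', hk', hk1, -⟩ := hk.exists_inv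
        have hgk := hg.comp hk hm
        have hle : img P (k ∘ g) ≤ img R k := hgk.img_le_of_forall fun x hx =>
          hk.mem_img.2 ⟨g x, hm x hx, rfl⟩
        have hkn' := (hki k' hk' hk1).mono hle
        have hgn' := hgi g' hg' hg1
        refine Norm.congr (g := g' ∘ k') (fun A f hA hfp hfW => ?_) fun y hy => ?_
        · have hk'A := (hk'.mono hle).mono (hA.trans inf_le_left)
          obtain ⟨d₁, hd₁, hde₁⟩ := hkn' A f hA hfp hfW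
          have hback : ∀ y ∈ img P (k ∘ g) ⊓ U, k' y ∈ img P g ⊓ U := fun y hy => by
            refine ⟨?_, hW (hk'.mono hle) y hy⟩
            obtain ⟨x, hx, rfl⟩ := hgk.mem_img.1 hy.1
            show k' (k (g x)) ∈ _
            rw [hk1 _ (hm x hx)]
            exact hg.mem_img.2 ⟨x, hx, rfl⟩
          obtain ⟨d₂, hd₂, hde₂⟩ := hgn' (img A k') d₁
            (hk'A.img_le_of_forall fun y hy => hback y (hA hy)) hd₁ fun z hz => by
            obtain ⟨y, hy, rfl⟩ := hk'A.mem_img.1 hz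
            rw [hde₁ y hy]
            exact hback _ (hfW y hy)
          rw [img_img hk'A] at hd₂
          refine ⟨d₂, hd₂, fun x hx => ?_⟩
          show d₂ (g' (k' x)) = g' (k' (f x))
          rw [hde₂ _ (hk'A.mem_img.2 ⟨x, hx, rfl⟩), hde₁ x hx]
        · obtain ⟨x, hx, rfl⟩ := hgk.mem_img.1 hy
          show l (k (g x)) = g' (k' (k (g x)))
          rw [hk1 _ (hm x hx), hg1 x hx]
          exact hl1 x hx)
    (fun P g g' ⟨hg, hgn, hgi⟩ hg' hg1 => by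
      refine ⟨hg', hgi g' hg' hg1, fun k hk hk1 => ?_⟩
      have hi : img (img P g) g' = P :=
        (img_img hg).trans ((IsMap.img_congr (g := id) hg1).trans img_id)
      rw [hi]
      refine hgn.congr fun x hx => ?_
      have h1 := hk1 _ (hg.mem_img.2 ⟨x, hx, rfl⟩)
      rwa [hg1 x hx] at h1)
  have key : ∀ {P : Subgroup Ω} {g : Ω → Ω}, IsMap F P g → IsMap EL P g := by
    intro P g hg
    refine isMap_of_autGroup_le hS h.sat (fun R hR α hα => ?_) hg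
    have hRS : R ≤ S := hR.elim (fun e => e.le) fun hR => hR.1.1
    have h1 := proj_le_of_radical hS h.sat h.cl₁ h.cl₂ h.comm hR
    have h2 := proj_le_of_radical hS h.sat h.cl₂ h.cl₁ h.symm.comm hR
    rw [sup_comm T₂ T₁] at h2
    have hm := (mem_autGroup_iff hRS).1 hα
    refine (mem_autGroup_iff hRS).2 ((isMap_mkSystem_iff _).2
      ⟨hm, norm_of_proj h hm h1 h2, fun g' hg' hg1 => ?_⟩)
    rw [img_autFun] at hg' ⊢
    exact norm_of_proj h hg' h1 h2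
  intro P Q f g hPQ hQU hf hfQ hg
  obtain ⟨-, hn, -⟩ := (isMap_mkSystem_iff _).1 (key hg)
  obtain ⟨d, hd, hde⟩ := hn P f (le_inf hPQ (hPQ.trans hQU)) ((hD P f).1 hf)
    fun x hx => ⟨hfQ x hx, hQU (hfQ x hx)⟩
  exact ⟨d, (hD _ d).2 hd, hde⟩

/-- Maps of the product are maps of `F`. -/
theorem pair_sub (h : Comm F p E₁ E₂) (hf : Pair E₁ E₂ P f) : IsMap F P f := by
  obtain ⟨hW, f₁, f₂, hf₁, hf₂, he⟩ := hf
  obtain ⟨g₁, hg₁, hg₁f, hg₁c⟩ :=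
    fixExt_of_normal h.pgroup h.nor₁ h.cl₂ h.comm h.cen₁ hf₁
  obtain ⟨g₂, hg₂, hg₂f, hg₂c⟩ :=
    fixExt_of_normal h.pgroup h.nor₂ h.cl₁ h.symm.comm h.symm.cen₁ hf₂
  set X := pr T₁ T₂ P ⊔ pr T₂ T₁ P with hX
  have hg₁X := hg₁.mono (sup_le_sup_left pr_le _ : X ≤ pr T₁ T₂ P ⊔ T₂)
  have hmem : ∀ z ∈ X, g₁ z ∈ pr T₂ T₁ P ⊔ T₁ := fun z hz => hg₁X.map_mem_of_sup
    (fun a ha => Subgroup.mem_sup_right (by rw [hg₁f a ha]; exact hf₁.mem_S ha))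
    (fun b hb => Subgroup.mem_sup_left (by rw [hg₁c b (pr_le hb)]; exact hb)) hz
  have hPX : P ≤ X := fun z hz => by
    obtain ⟨a, ha, b, hb, rfl⟩ := exists_mul_of_mem_sup h.comm (hW hz)
    exact Subgroup.mul_mem_sup (mem_pr_left ha hb hz) (mem_pr_right ha hb hz)
  refine ((hg₁X.comp hg₂ hmem).mono hPX).congr fun z hz => ?_
  obtain ⟨a, ha, b, hb, rfl⟩ := exists_mul_of_mem_sup h.comm (hW hz)
  have hap := mem_pr_left ha hb hz
  have hbp := mem_pr_right ha hb hz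
  show f (a * b) = g₂ (g₁ (a * b))
  rw [hg₁.map_mul (Subgroup.mem_sup_left hap) (Subgroup.mem_sup_right hb), hg₁f a hap, hg₁c b hb,
    hg₂.map_mul (Subgroup.mem_sup_right (hf₁.mem_S hap)) (Subgroup.mem_sup_left hbp),
    hg₂c _ (hf₁.mem_S hap), hg₂f b hbp, he a ha b hb hz]

/-- A central product of commuting normal subsystems is normal. -/
theorem cp_isNormalIn (h : Comm F p E₁ E₂)
    (hcp : Cfsg.FusionSystem.IsCentralProductOf E₁ E₂ D) : D.IsNormalIn F p := by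
  obtain ⟨-, rfl⟩ := cp_data hcp
  have hS := h.pgroup
  haveI : Finite T₁ := finite_of_le h.cl₁.1
  haveI : Finite T₂ := finite_of_le h.cl₂.1
  obtain ⟨hDs, hD⟩ := cp_pair (hS.to_le h.cl₁.1) (hS.to_le h.cl₂.1) h.nor₁.1.1 h.nor₂.1.1 hcp
  have hUc : F.StronglyClosed (T₁ ⊔ T₂) := stronglyClosed_sup hS h.sat h.cl₁ h.cl₂
  have hsub : D.IsSubsystemOf F := fun _ _ hφ =>
    mem_hom_iff.2 (pair_sub h ((hD _ _).1 (isMap_toFun hφ)))
  set U := T₁ ⊔ T₂ with hU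
  set K := U ⊔ centralizerIn S U with hK
  refine ⟨⟨hDs, h.sat, (isInvariantIn_iff_strongInv hS h.sat hsub hUc).2 (pair_strongInv h hD)⟩,
    fun α hα => ?_⟩
  obtain ⟨-, f₁, f₂, hf₁, hf₂, he⟩ := (hD _ _).1 ((mem_autGroup_iff le_rfl).1 hα)
  have e₂ : pr T₂ T₁ (T₁ ⊔ T₂) = T₂ := by rw [sup_comm]; exact pr_self
  rw [pr_self] at hf₁
  rw [e₂] at hf₂
  have hi₁ : img T₁ f₁ = T₁ := img_eq_of_map_le le_rfl hf₁ le_rfl fun x hx => hf₁.mem_S hx
  have hi₂ : img T₂ f₂ = T₂ := img_eq_of_map_le le_rfl hf₂ le_rfl fun x hx => hf₂.mem_S hx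
  obtain ⟨h₁, hh₁, hh₁a, hh₁c, hh₁d⟩ :=
    exists_top_ext hS h.nor₁ h.cl₂ h.comm h.cen₁ (autOf_mem hf₁ hi₁)
  obtain ⟨h₂, hh₂, hh₂a, hh₂c, hh₂d⟩ :=
    exists_top_ext hS h.nor₂ h.cl₁ h.symm.comm h.symm.cen₁ (autOf_mem hf₂ hi₂)
  rw [sup_comm T₂ T₁, ← hU] at hh₂ hh₂d
  have hKS : K ≤ S := sup_le hUc.1 inf_le_left
  have hm₁ : ∀ z ∈ K, h₁ z ∈ K := fun z hz => hh₁.map_mem_of_sup
    (fun x hx => Subgroup.mem_sup_left ((hh₁.mono le_sup_left).map_mem_of_sup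
      (fun a ha => Subgroup.mem_sup_left (by
        rw [hh₁a a ha]; exact autFun_mem _ ha))
      (fun b hb => Subgroup.mem_sup_right (by rw [hh₁c b hb]; exact hb)) hx))
    (fun c hc => by
      have := mul_mem (Subgroup.mem_sup_right (S := U) hc)
        (Subgroup.mem_sup_left (T := centralizerIn S U)
          (Subgroup.mem_sup_left (T := T₂) (hh₁d c hc).1))
      rwa [mul_inv_cancel_left] at this) hz
  have hm : IsMap F K (h₂ ∘ h₁) := hh₁.comp hh₂ hm₁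
  have hval : ∀ x ∈ U, h₂ (h₁ x) = autFun α x := fun x hx => by
    obtain ⟨a, ha, b, hb, rfl⟩ := exists_mul_of_mem_sup h.comm hx
    have haK : a ∈ K := Subgroup.mem_sup_left (Subgroup.mem_sup_left ha)
    have hbK : b ∈ K := Subgroup.mem_sup_left (Subgroup.mem_sup_right hb)
    have hfa : f₁ a ∈ T₁ := hf₁.mem_S ha
    rw [hh₁.map_mul haK hbK, hh₁a a ha, hh₁c b hb, autFun_autOf hf₁ hi₁ ha,
      hh₂.map_mul (Subgroup.mem_sup_left (Subgroup.mem_sup_left hfa)) hbK, hh₂c _ hfa, hh₂a b hb,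
      autFun_autOf hf₂ hi₂ hb, he a ha b hb hx]
  have hdisp : ∀ c ∈ centralizerIn S U,
      c⁻¹ * h₂ (h₁ c) ∈ U ⊓ Subgroup.centralizer (U : Set Ω) := fun c hc => by
    have hz₁ := hh₁d c hc
    set z₁ := c⁻¹ * h₁ c with hz₁d
    rw [show h₁ c = c * z₁ by rw [hz₁d, mul_inv_cancel_left],
      hh₂.map_mul (Subgroup.mem_sup_right hc) (Subgroup.mem_sup_left (Subgroup.mem_sup_left hz₁.1)),
      hh₂c _ hz₁.1, ← mul_assoc]
    have hcc : ∀ {V W : Subgroup Ω} {z : Ω}, (∀ x ∈ V, ∀ y ∈ W, x * y = y * x) → V ⊔ W = U →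
        z ∈ V ⊓ Subgroup.centralizer (V : Set Ω) → z ∈ U ⊓ Subgroup.centralizer (U : Set Ω) := by
      intro V W z hVW hVU hz
      refine Subgroup.mem_inf.2 ⟨hVU ▸ Subgroup.mem_sup_left hz.1, ?_⟩
      have hle : U ≤ Subgroup.centralizer {z} := by
        rw [← hVU]
        exact sup_le (fun v hv => Subgroup.mem_centralizer_iff.2 fun w hw => by
            rw [Set.mem_singleton_iff.1 hw]
            exact (Subgroup.mem_centralizer_iff.1 hz.2 v hv).symm)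
          fun v hv => Subgroup.mem_centralizer_iff.2 fun w hw => by
            rw [Set.mem_singleton_iff.1 hw]; exact hVW z hz.1 v hv
      exact Subgroup.mem_centralizer_iff.2 fun u hu =>
        (Subgroup.mem_centralizer_iff.1 (hle hu) z rfl).symm
    exact mul_mem (hcc h.symm.comm (sup_comm T₂ T₁) (hh₂d c hc)) (hcc h.comm hU.symm hz₁)
  have hi : img K (h₂ ∘ h₁) = K := img_eq_of_map_le hKS hm le_rfl fun z hz => hm.map_mem_of_sup
    (fun x hx => Subgroup.mem_sup_left (by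
      show h₂ (h₁ x) ∈ U
      rw [hval x hx]; exact autFun_mem α hx))
    (fun c hc => by
      have := mul_mem (Subgroup.mem_sup_right (S := U) hc)
        (Subgroup.mem_sup_left (T := centralizerIn S U) (hdisp c hc).1)
      rwa [mul_inv_cancel_left] at this) hz
  refine ⟨autOf hm hi, autOf_mem hm hi, fun x => ?_, fun c hc => ?_⟩
  · rw [← autFun_coe, Subgroup.coe_inclusion, autFun_autOf hm hi (Subgroup.mem_sup_left x.2),
      ← autFun_coe]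
    exact hval x x.2
  · rw [← autFun_coe, autFun_autOf hm hi c.2]
    exact hdisp c hc

end CfsgLib.Fusion.Meet
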