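import Cfsg.Agent.Lib.Fusion.System.Meet.Layer
import Cfsg.Agent.Lib.Fusion.System.Meet.CentralInf
import Cfsg.Agent.Lib.Fusion.System.Meet.ProductNormal
import Cfsg.Prelude.Def_FusionFitting

/-!
# Products of commuting normal subsystems; the generalized Fitting subsystem
-/

set_option autoImplicit false
set_option linter.style.haveILetI false
set_option linter.unusedSectionVars false

open Subgroup
open scoped Classical Pointwise

namespace CfsgLib.Fusion.Meet

open Cfsg (FusionSystem autInducedBy)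
open Cfsg.FusionSystem (normalizerIn centralizerIn)
open CfsgLib.Fusion

universe u

variable {Ω : Type u} [Group Ω] {S T T₁ T₂ : Subgroup Ω} {F : FusionSystem S}
  {E : FusionSystem T} {E₁ : FusionSystem T₁} {E₂ : FusionSystem T₂} {p : ℕ}
  [Finite S] [Fact p.Prime]

theorem comm_of_commutator (hc : ⁅T₁, T₂⁆ = ⊥) : ∀ x ∈ T₁, ∀ y ∈ T₂, x * y = y * x :=
  fun x hx y hy => commutatorElement_eq_one_iff_mul_comm.1
    (Subgroup.mem_bot.1 (hc ▸ Subgroup.commutator_mem_commutator hx hy))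

theorem exists_reduced_normal (hS : IsPGroup p S) (hF : F.IsSaturated p) (hE : E.IsNormalIn F p) :
    ∃ E' : FusionSystem T, E'.IsNormalIn F p ∧ Reduced p E' := by
  haveI := finite_of_le (normal_le hE)
  obtain ⟨E', hE'⟩ := Cfsg.Agent.S5140.result p (hS.to_le (normal_le hE)) E hE.1.1
  exact ⟨E', Cfsg.Agent.S5141.result p hS F hF E hE.1 E' hE', reduced_residual hE'⟩

/-- Commuting normal subsystems have a normal product. -/
theorem exists_product (hS : IsPGroup p S) (hF : F.IsSaturated p) (h₁ : E₁.IsNormalIn F p)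
    (h₂ : E₂.IsNormalIn F p) (hc : ∀ x ∈ T₁, ∀ y ∈ T₂, x * y = y * x) :
    ∃ D : FusionSystem (T₁ ⊔ T₂), D.IsNormalIn F p ∧
      (T₁ ⊓ T₂ ≤ E₁.center → T₁ ⊓ T₂ ≤ E₂.center →
        Cfsg.FusionSystem.IsCentralProductOf E₁ E₂ D) := by
  haveI := finite_of_le (normal_le h₁)
  haveI := finite_of_le (normal_le h₂)
  have hp₁ := hS.to_le (normal_le h₁)
  have hp₂ := hS.to_le (normal_le h₂)
  by_cases hz : T₁ ⊓ T₂ ≤ E₁.center ∧ T₁ ⊓ T₂ ≤ E₂.center
  · obtain ⟨D, hD⟩ := exists_cp hp₁ hp₂ hc hz.1 hz.2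
    exact ⟨D, cp_isNormalIn ⟨hS, hF, h₁, h₂, hc, hz.1, hz.2⟩ hD, fun _ _ => hD⟩
  · obtain ⟨E₁', h₁', hr₁⟩ := exists_reduced_normal hS hF h₁
    obtain ⟨E₂', h₂', hr₂⟩ := exists_reduced_normal hS hF h₂
    have hz₁ := le_center_of_reduced hS hF (Side.of_weaklyNormal hS h₁'.1) h₂.1.2.2.2.1 hc hr₁
    have hz₂ := le_center_of_reduced hS hF (Side.of_weaklyNormal hS h₂'.1) h₁.1.2.2.2.1
      (fun x hx y hy => (hc y hy x hx).symm) hr₂
    rw [inf_comm] at hz₂
    obtain ⟨D, hD⟩ := exists_cp hp₁ hp₂ hc hz₁ hz₂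
    exact ⟨D, cp_isNormalIn ⟨hS, hF, h₁', h₂', hc, hz₁, hz₂⟩ hD, fun a b => absurd ⟨a, b⟩ hz⟩

/-- The layer commutes with the core and meets it centrally. -/
theorem comm_core_layer (hS : IsPGroup p S) (hF : F.IsSaturated p) (hE : E.IsLayerOf F p) :
    Comm F p (Cfsg.innerFusionSystem F.core) E := by
  set Q := F.core with hQd
  have hQ : F.IsNormal Q := isNormal_core
  have hQn := inner_isNormalIn hS hF hQ
  have hc : ∀ x ∈ Q, ∀ y ∈ T, x * y = y * x := fun x hx y hy => by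
    obtain ⟨φ, hφ, -⟩ := isMap_id (F := E) (le_refl T)
    exact Subgroup.mem_centralizer_iff.1
      ((mem_centralizerHom_iff.1 (Components.layer_le_centralizer hS hF hE T hφ)).1 hy).2 x hx
  have hz₂ := le_center_of_reduced hS hF (Side.of_weaklyNormal hS hE.1.1)
    (stronglyClosed_of_isNormal hQ) (fun x hx y hy => (hc y hy x hx).symm)
    (layer_reduced hS hF hE)
  rw [inf_comm] at hz₂
  refine ⟨hS, hF, hQn, hE.1, hc, le_sSup (isCentral_iff.2 ⟨inf_le_left, fun P f hf => ?_⟩), hz₂⟩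
  obtain ⟨φ, ⟨hP, q, hq, he⟩, hφf⟩ := id hf
  refine ⟨_, isMap_conj (sup_le hf.le inf_le_left) hq, fun x hx => ?_, fun y hy => ?_⟩
  · exact (he ⟨x, hx⟩).symm.trans (hφf ⟨x, hx⟩)
  · rw [hc q hq y (Subgroup.mem_inf.1 hy).2, mul_inv_cancel_right]

/-- The generalized Fitting subsystem exists and is normal. -/
theorem fitting_normal (hS : IsPGroup p S) (hF : F.IsSaturated p) :
    (∃ (U : Subgroup Ω) (D : FusionSystem U), D.IsGeneralizedFittingOf F p) ∧
      ∀ (U : Subgroup Ω) (D : FusionSystem U), D.IsGeneralizedFittingOf F p → D.IsNormalIn F p := by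
  refine ⟨?_, fun U D ⟨T, E, hE, hcp⟩ => cp_isNormalIn (comm_core_layer hS hF hE) hcp⟩
  obtain ⟨T, E, hE, -⟩ := exists_layer hS hF
  have h := comm_core_layer hS hF hE
  haveI := finite_of_le h.cl₁.1
  haveI := finite_of_le h.cl₂.1
  obtain ⟨D, hD⟩ := exists_cp (hS.to_le h.cl₁.1) (hS.to_le h.cl₂.1) h.comm h.cen₁ h.cen₂
  exact ⟨_, D, T, E, hE, hD⟩

end CfsgLib.Fusion.Meet
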