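import Cfsg.Agent.Lib.Fusion.System.Meet.Coherence

/-!
# The meet of two weakly normal subsystems

The maps with label `1` form a saturated system over `T`, strongly invariant in `F`, contained in
both subsystems and satisfying the extension condition in `F`, `E₁` and `E₂`.
-/

set_option autoImplicit false
set_option maxHeartbeats 1000000
set_option linter.style.haveILetI false
set_option linter.unusedSectionVars false

open Subgroup
open scoped Classical Pointwise

namespace CfsgLib.Fusion.Meet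

open Cfsg (FusionSystem autInducedBy)
open Cfsg.FusionSystem (normalizerIn centralizerIn)
open CfsgLib.Fusion CfsgLib.Fusion.CentLift
open CfsgLib.Fusion.FamilySat (SatAt InO rSub oCore)

universe u

variable {Ω : Type u} [Group Ω] {S T T' T₁ T₂ : Subgroup Ω} {F : FusionSystem S} {p : ℕ}
  {E : FusionSystem T'} {E₁ : FusionSystem T₁} {E₂ : FusionSystem T₂}
  {P Q R X : Subgroup Ω} {f g : Ω → Ω}
  {γ : MulAut T} [Finite S] [Fact p.Prime] (h : Setup F p E₁ E₂ T)
include h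

/-- The meet: the maps with label `1`. -/
noncomputable def meetSys : FusionSystem T :=
  mkSystem F T (fun P f => Lab F E₁ E₂ T p P f 1)
    (fun _ _ hl => ⟨hl.isMap h, hl.le h, fun _ hx => hl.mem h hx⟩)
    (fun _ _ _ hl he => hl.congr he)
    (fun _ _ hP ht => Lab.of_T h ht hP)
    (fun P R f g hf hg hm => by have := hf.comp hg hm; rwa [mul_one] at this)
    (fun P f f' hf hf' he => by have := hf.inv hf' he; rwa [inv_one] at this)

theorem isMap_meetSys : IsMap (meetSys h) P f ↔ Lab F E₁ E₂ T p P f 1 := isMap_mkSystem_iff _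

theorem meetSys_sub : (meetSys h).IsSubsystemOf F := fun _ _ hφ =>
  mem_hom_iff.2 (((isMap_meetSys h).1 (isMap_toFun hφ)).isMap h)

theorem meetSys_sub₁ : (meetSys h).IsSubsystemOf E₁ := fun _ _ hφ =>
  mem_hom_iff.2 (((isMap_meetSys h).1 (isMap_toFun hφ)).isMap_sides h).1

theorem meetSys_sub₂ : (meetSys h).IsSubsystemOf E₂ := fun _ _ hφ =>
  mem_hom_iff.2 (((isMap_meetSys h).1 (isMap_toFun hφ)).isMap_sides h).2

/-- Every map inside `T` is an automorphism of `T` after a map of the meet. -/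
theorem exists_meet_map (hf : IsMap F P f) (hP : P ≤ T) :
    ∃ α ∈ F.autGroup T, ∃ k, Lab F E₁ E₂ T p P k 1 ∧ ∀ x ∈ P, f x = autFun α (k x) := by
  obtain ⟨γ, hγ⟩ := exists_lab h hf hP
  refine ⟨γ, hγ.label_mem h, autFun γ⁻¹ ∘ f, ?_, fun x hx => ?_⟩
  · have := hγ.comp (Lab.top (inv_mem (hγ.label_mem h))) fun x hx => hγ.mem h hx
    rwa [inv_mul_cancel] at this
  · exact (PPrime.autFun_symm' (hγ.mem h hx)).symm

theorem meetSys_strongInv : StrongInv (meetSys h) F := fun P Q f g hPQ hQT hf hfQ hg => by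
  obtain ⟨c, hc⟩ := exists_lab h hg hQT
  obtain ⟨k, hk, hke⟩ := hc.conj h ((isMap_meetSys h).1 hf) hPQ hfQ
  rw [mul_one, mul_inv_cancel] at hk
  exact ⟨k, (isMap_meetSys h).2 hk, hke⟩

theorem isFullyNormalized_T : F.IsFullyNormalized T :=
  ⟨h.hTS, fun Q hQ => by
    obtain ⟨f, hf, rfl⟩ := isConj_iff.1 hQ
    rw [img_eq_of_map_le h.hTS hf le_rfl ((stronglyClosed_iff.1 h.closed).2 T f le_rfl hf)]⟩

/-- A labelled map on `T` is its label after a local automorphism. -/
theorem lab_top (M : LModel F p T) (hl : Lab F E₁ E₂ T p P f γ) (hPT : P = T) :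
    ∃ m ∈ M.mGroup h le_rfl, ∀ x ∈ T, f x = autFun γ (autFun m x) := by
  have hTn := isFullyNormalized_T h
  induction hl with
  | top hα =>
    exact ⟨1, one_mem _, fun x hx => by rw [autFun_one hx]⟩
  | @inner t ht =>
    refine ⟨conjAut t (Subgroup.le_normalizer ht),
      M.autInducedBy_le_mGroup h le_rfl (conjAut_mem ht _), fun x hx => ?_⟩
    rw [autFun_one (autFun_mem _ hx), autFun_conjAut _ hx]
  | @good P a hs hc hgd hco =>
    subst hPT
    haveI := M.fin
    obtain ⟨gg, hgg⟩ := M.exists_act_eq hgd.1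
    obtain ⟨j, hj⟩ := Components.exists_coprime_pow (p := p) gg
    obtain ⟨m, hm⟩ := Components.exists_pow_pow_eq hco j
    have hgh : gg ^ (p ^ j * m) ∈ M.hSub h le_rfl := by
      refine Subgroup.subset_closure (Or.inl ⟨?_, ?_⟩)
      · rw [M.mem_kSub, M.act_pow, hgg, pow_mul, hm]; exact hgd
      · rw [pow_mul]; exact Nat.Coprime.coprime_dvd_left (orderOf_pow_dvd m) hj
    refine ⟨M.res (gg ^ (p ^ j * m)), ⟨_, hgh, rfl⟩, fun x hx => ?_⟩
    rw [autFun_one (autFun_mem _ hx), M.autFun_res _ hx, M.act_pow, hgg, pow_mul, hm]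
  | @mono P R f γ hf hR ih =>
    exact ih (le_antisymm (hf.le h) (hPT ▸ hR))
  | @congr P f g γ hf he ih =>
    obtain ⟨m, hm, hme⟩ := ih hPT
    exact ⟨m, hm, fun x hx => by rw [he x (hPT ▸ hx), hme x hx]⟩
  | @comp P R f g γ δ hf hg hmm ih1 ih2 =>
    have hi : img P f = T := by
      subst hPT
      exact img_eq_of_map_le h.hTS (hf.isMap h) le_rfl fun x hx => hf.mem h hx
    have hRT : R = T := by
      refine le_antisymm (hg.le h) ?_
      rw [← hi]
      exact (hf.isMap h).img_le_of_forall hmm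
    obtain ⟨m, hm, hme⟩ := ih1 hPT
    obtain ⟨m', hm', hme'⟩ := ih2 hRT
    refine ⟨γ⁻¹ * m' * γ * m, mul_mem ?_ hm, fun x hx => ?_⟩
    · have := M.conj_mem_mGroup h hTn le_rfl (inv_mem (hf.label_mem h)) hm'
      rwa [inv_inv] at this
    · show g (f x) = _
      rw [hme' _ (hf.mem h (hPT ▸ hx)), hme x hx, ← autFun_mul _ _ hx, ← autFun_mul _ _ hx,
        ← autFun_mul _ _ hx, ← autFun_mul _ _ hx]
      congr 1
      group
  | @inv P f f' γ hf hf' he ih =>
    have hP : P = T := by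
      refine eq_of_le_of_card_le h.hTS (hf.le h) ?_
      rw [← (hf.isMap h).card_img, hPT]
    obtain ⟨m, hm, hme⟩ := ih hP
    refine ⟨γ * m⁻¹ * γ⁻¹, M.conj_mem_mGroup h hTn le_rfl (hf.label_mem h) (inv_mem hm),
      fun y hy => ?_⟩
    obtain ⟨x, hx, rfl⟩ := (hf.isMap h).mem_img.1 (hPT.ge hy)
    have hxT : x ∈ T := hP ▸ hx
    rw [he x hx, hme x hxT, ← autFun_mul _ _ hxT, ← autFun_mul _ _ hxT, ← autFun_mul _ _ hxT,
      show γ⁻¹ * (γ * m⁻¹ * γ⁻¹ * (γ * m)) = 1 by group, autFun_one hxT]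

theorem lab_top_one (M : LModel F p T) {a : MulAut T}
    (hl : Lab F E₁ E₂ T p T (autFun a) 1) : a ∈ M.mGroup h le_rfl := by
  obtain ⟨m, hm, hme⟩ := lab_top h M hl rfl
  rwa [autFun_ext (α := a) (β := m) fun x hx => by rw [hme x hx, autFun_one (autFun_mem _ hx)]]

/-- Conjugations in the meet come from `T`. -/
theorem exists_T_of_lab_conj (hXs : SelfC F T X) (hXc : F.IsFullyCentralized X) {y : Ω}
    (hy : y ∈ normalizerIn S X) (hl : Lab F E₁ E₂ T p X (fun x => y * x * y⁻¹) 1) :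
    ∃ t ∈ T, ∀ x ∈ X, y * x * y⁻¹ = t * x * t⁻¹ := by
  induction hk : Nat.card T - Nat.card X using Nat.strong_induction_on generalizing X y with
  | _ n ih =>
  subst hk
  by_cases hXT : X = T
  · subst hXT
    obtain ⟨M⟩ := exists_lModel h.pgroup h.sat (isFullyNormalized_T h)
    have hm := lab_top_one h M (a := conjAut y hy.2)
      (hl.congr fun x hx => autFun_conjAut hy.2 hx)
    obtain ⟨t, ht, hte⟩ := mem_autInducedBy_iff.1
      (M.exists_mem_of_conj_mem h (isFullyNormalized_T h) le_rfl (conjAut_mem hy.1 hy.2) hm)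
    exact ⟨t, ht, fun x hx => (autFun_conjAut hy.2 hx).symm.trans (hte x hx)⟩
  obtain ⟨Q, hXQ, hQ⟩ := exists_fullyNormalized (F := F) hXc.1
  obtain ⟨hau, hre⟩ := IsSaturated.automized_receptive h.pgroup h.sat hQ
  obtain ⟨φ, hφ, hφQ, hφN⟩ := exists_map_normalizer h.pgroup hau hre hXQ
  have hXN : X ≤ normalizerIn S X := le_normalizerIn hXc.1
  have hXN' : X ≤ normalizerIn T X := le_normalizerIn hXs.le
  have hQs : SelfC F T Q := hφQ ▸ hXs.map h.closed (hφ.mono hXN)
  obtain ⟨c, hc⟩ := exists_lab h (hφ.mono (normalizerIn_T_le h)) inf_le_left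
  obtain ⟨k, hk', hke⟩ := hc.conj h hl hXN' fun x hx =>
    hXN' ((Subgroup.mem_normalizer_iff.1 hy.2 x).1 hx)
  rw [hφQ, mul_one, mul_inv_cancel] at hk'
  have hyQ : φ y ∈ normalizerIn S Q := hφN y hy
  have hlQ : Lab F E₁ E₂ T p Q (fun x => φ y * x * (φ y)⁻¹) 1 := hk'.congr fun q hq => by
    obtain ⟨x, hx, rfl⟩ := (hφ.mono hXN).mem_img.1 (hφQ.ge hq)
    rw [hke x hx, hφ.map_conj hy (hXN hx)]
  set z := φ y with hz
  have hQne : Q ≠ T := fun e => hXT (eq_of_le_of_card_le h.hTS hXs.le (by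
    rw [← isConj_card hXQ, e]))
  have hQN : Q ≤ normalizerIn T Q := le_normalizerIn hQs.le
  have hid := (hlQ.comp (Lab.of_conj h (inv_mem hyQ.1) hQs.le) fun q hq =>
    (Subgroup.mem_normalizer_iff.1 hyQ.2 q).1 hq).congr (g := id) fun q hq => by
      show q = z⁻¹ * (z * q * z⁻¹) * z⁻¹⁻¹
      group
  obtain ⟨s, hs, hl2⟩ := coh h hQs (IsSaturated.isFullyCentralized h.pgroup h.sat hQ) _ hid
  have hsQ : s ∈ normalizerIn S Q := ⟨hs.1, Subgroup.centralizer_le_normalizer _ hs.2⟩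
  have hzs : z * s ∈ normalizerIn S Q := mul_mem hyQ hsQ
  have hn2 : ∀ w ∈ normalizerIn S Q, ∀ x ∈ normalizerIn T Q,
      w * x * w⁻¹ ∈ normalizerIn T Q := fun w hw x hx =>
    ⟨(Subgroup.mem_normalizer_iff.1 (h.normal hw.1) x).1 hx.1,
      Subgroup.mul_mem _ (Subgroup.mul_mem _ hw.2 hx.2) (Subgroup.inv_mem _ hw.2)⟩
  have hzsN : z * s ∈ normalizerIn S (normalizerIn T Q) :=
    ⟨hzs.1, Subgroup.mem_normalizer_iff.2 fun x => ⟨hn2 _ hzs x, fun hx => by
      have := hn2 _ (inv_mem hzs) _ hx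
      rwa [show (z * s)⁻¹ * (z * s * x * (z * s)⁻¹) * (z * s)⁻¹⁻¹ = x by group] at this⟩⟩
  have hl3 : Lab F E₁ E₂ T p (normalizerIn T Q) (fun x => z * s * x * (z * s)⁻¹) 1 := by
    have h3 := hl2.comp (Lab.of_conj h hzs.1 inf_le_left) (R := normalizerIn T Q) fun x hx => hx
    rwa [nu_mul h hyQ.1 hs.1, nu_inv h hyQ.1,
      show nu h z * nu h s * ((nu h s)⁻¹ * ((nu h z)⁻¹ * 1)) = 1 by group] at h3
  have hlt : Nat.card T - Nat.card (normalizerIn T Q) < Nat.card T - Nat.card X := by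
    have := card_T_sub_lt h hQs.le hQne inf_le_left le_rfl
    rwa [isConj_card hXQ] at this
  obtain ⟨t, ht, hte⟩ := ih _ hlt (hQs.mono hQN inf_le_left)
    (isFullyCentralized_over h.pgroup h.sat h.closed hQ hQs hQN le_rfl) hzsN hl3 rfl
  have hQt : ∀ q ∈ Q, z * q * z⁻¹ = t * q * t⁻¹ := fun q hq => by
    rw [← hte q (hQN hq), show z * s * q * (z * s)⁻¹ = z * (s * q * s⁻¹) * z⁻¹ by group,
      ← Subgroup.mem_centralizer_iff.1 hs.2 q hq, mul_inv_cancel_right]
  -- back to `X`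
  have hCN : centralizerIn S X ≤ normalizerIn S X := centralizerIn_le_normalizerIn
  have hCi : img (centralizerIn S X) φ = centralizerIn S Q := by
    refine eq_of_le_of_card_le inf_le_left ((hφ.mono hCN).img_le_of_forall fun w hw => ?_)
      (by rw [(hφ.mono hCN).card_img]; exact hXc.2 Q hXQ)
    have h1 := map_mem_centralizerIn hφ hXN (hCN hw) hw.2
    rwa [hφQ] at h1
  have hcz : z⁻¹ * t ∈ centralizerIn S Q := by
    refine ⟨S.mul_mem (S.inv_mem hyQ.1) (h.hTS ht), Subgroup.mem_centralizer_iff.2 fun q hq => ?_⟩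
    calc q * (z⁻¹ * t) = z⁻¹ * (z * q * z⁻¹) * t := by group
      _ = z⁻¹ * t * q := by rw [hQt q hq]; group
  rw [← hCi] at hcz
  obtain ⟨w, hw, hwe⟩ := (hφ.mono hCN).mem_img.1 hcz
  have hyw : y * w ∈ normalizerIn S X := mul_mem hy (hCN hw)
  refine ⟨y * w, ?_, fun x hx => ?_⟩
  · obtain ⟨φ', hφ', h1, -⟩ := hφ.exists_inv
    have hv : φ (y * w) = t := by rw [hφ.map_mul hy (hCN hw), hwe, mul_inv_cancel_left]
    have h2 := mem_T_of_map h hφ' (hφ.mem_img.2 ⟨_, hyw, rfl⟩) (hv ▸ ht)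
    rwa [h1 _ hyw] at h2
  · rw [show y * w * x * (y * w)⁻¹ = y * (w * x * w⁻¹) * y⁻¹ by group,
      ← Subgroup.mem_centralizer_iff.1 hw.2 x hx, mul_inv_cancel_right]

/-- Automorphisms in the meet, transported by an automorphism of `T`. -/
theorem congr_mem_meet_iff {α : MulAut T} (hα : α ∈ F.autGroup T) (hm : IsMap F Q (autFun α))
    (hQT : Q ≤ T) (a : MulAut Q) :
    MulAut.congr (mapEquiv hm) a ∈ (meetSys h).autGroup (img Q (autFun α)) ↔
      a ∈ (meetSys h).autGroup Q := by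
  have hl : Lab F E₁ E₂ T p Q (autFun α) α := (Lab.top hα).mono hQT
  have hiT : img Q (autFun α) ≤ T := hl.img_le h
  rw [mem_autGroup_iff hiT, mem_autGroup_iff hQT, isMap_meetSys, isMap_meetSys]
  constructor
  · intro hb
    have h1 := (hl.comp hb fun x hx => hm.mem_img.2 ⟨x, hx, rfl⟩).comp
      (Lab.top (inv_mem hα)) fun x hx => hiT (autFun_mem _ (hm.mem_img.2 ⟨x, hx, rfl⟩))
    rw [one_mul, inv_mul_cancel] at h1
    refine h1.congr fun x hx => ?_
    show autFun a x = autFun α⁻¹ (autFun (MulAut.congr (mapEquiv hm) a) (autFun α x))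
    rw [autFun_congr hm a hx, PPrime.autFun_symm (hQT (autFun_mem a hx))]
  · intro ha
    obtain ⟨k, hk, hke⟩ := (Lab.top hα).conj h ha hQT fun x hx => hQT (autFun_mem a hx)
    rw [mul_one, mul_inv_cancel] at hk
    refine hk.congr fun y hy => ?_
    obtain ⟨x, hx, rfl⟩ := hm.mem_img.1 hy
    rw [hke x hx, autFun_congr hm a hx]

/-- Full automization in the meet at a fully normalized subgroup. -/
theorem not_dvd_relIndex_meet (hQ : F.IsFullyNormalized Q) (hQs : SelfC F T Q) :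
    ¬ p ∣ (autInducedBy T Q).relIndex ((meetSys h).autGroup Q) := by
  have hQT := hQs.le
  have hQS := hQ.1
  haveI := finite_of_le hQS
  haveI := finite_mulAut (P := Q)
  set X := F.autGroup Q with hX
  set A := (meetSys h).autGroup Q with hA
  have hAX : A ≤ X := fun a ha => (mem_autGroup_iff hQS).2
    (((isMap_meetSys h).1 ((mem_autGroup_iff hQT).1 ha)).isMap h)
  haveI : (A.subgroupOf X).Normal := ⟨fun a ha b => by
    obtain ⟨k, hk, hke⟩ := meetSys_strongInv h Q Q (autFun (a : MulAut Q)) (autFun (b : MulAut Q))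
      le_rfl hQT ((mem_autGroup_iff hQT).1 (Subgroup.mem_subgroupOf.1 ha))
      (fun x hx => autFun_mem _ hx) ((mem_autGroup_iff hQS).1 b.2)
    rw [img_autFun] at hk
    refine Subgroup.mem_subgroupOf.2 ((mem_autGroup_iff hQT).2 (hk.congr fun x hx => ?_))
    have h1 := hke _ (autFun_mem (b : MulAut Q)⁻¹ hx)
    rw [PPrime.autFun_symm' hx] at h1
    rw [h1, Subgroup.coe_mul, Subgroup.coe_mul, Subgroup.coe_inv, autFun_mul _ _ hx,
      autFun_mul _ _ (autFun_mem _ hx)]⟩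
  obtain ⟨P0, hP0⟩ := (IsSaturated.automized_receptive h.pgroup h.sat hQ).1.2
  have h1 := not_dvd_relIndex_inf_of_normal P0 (A.subgroupOf X)
  have heq : (P0 : Subgroup X) ⊓ A.subgroupOf X = (autInducedBy T Q).subgroupOf X := by
    rw [hP0]
    refine le_antisymm (fun a ha => ?_) fun a ha => ⟨autInducedBy_mono h.hTS ha, ?_⟩
    · obtain ⟨y, hy, hye⟩ := mem_autInducedBy_iff.1 (Subgroup.mem_subgroupOf.1 ha.1)
      have hyN : y ∈ normalizerIn S Q := ⟨hy, mem_normalizer_of_autFun hye⟩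
      obtain ⟨t, ht, hte⟩ := exists_T_of_lab_conj h hQs
        (IsSaturated.isFullyCentralized h.pgroup h.sat hQ) hyN
        (((isMap_meetSys h).1 ((mem_autGroup_iff hQT).1 (Subgroup.mem_subgroupOf.1 ha.2))).congr
          fun x hx => (hye x hx).symm)
      exact Subgroup.mem_subgroupOf.2
        (mem_autInducedBy_iff.2 ⟨t, ht, fun x hx => (hye x hx).trans (hte x hx)⟩)
    · exact Subgroup.mem_subgroupOf.2 (autInducedBy_le_autGroup hQT ha)
  rw [heq, Subgroup.relIndex_subgroupOf hAX] at h1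
  exact h1

/-- The meet is saturated at self-centralizing subgroups. -/
theorem satAt_meet (hRs : SelfC F T R) : SatAt (meetSys h) p R := by
  obtain ⟨Q₀, hRQ, hQ⟩ := exists_fullyNormalized (F := F) (hRs.le.trans h.hTS)
  obtain ⟨θ, hθ, hθe⟩ := isConj_iff.1 hRQ
  obtain ⟨α, hα, k, hk, hke⟩ := exists_meet_map h hθ hRs.le
  set Q' := img R k with hQ'
  have hQ'T : Q' ≤ T := hk.img_le h
  have hTm := (mem_autGroup_iff h.hTS).1 hα
  have hm : IsMap F Q' (autFun α) := hTm.mono hQ'T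
  have hi : img Q' (autFun α) = Q₀ := by
    rw [hQ', img_img (hk.isMap h), ← hθe]
    exact IsMap.img_congr fun x hx => (hke x hx).symm
  subst hi
  set Q := img Q' (autFun α) with hQdef
  have hQs : SelfC F T Q := hθe ▸ hRs.map h.closed hθ
  have hTp := h.pgroup.to_le h.hTS
  haveI := finite_of_le h.hTS
  refine ⟨Q', isConj_iff.2 ⟨k, (isMap_meetSys h).2 hk, rfl⟩,
    (isFullyAutomized_iff hTp).2 ⟨hQ'T, ?_⟩, isReceptive_iff.2 ⟨hQ'T, fun P f hf hfi => ?_⟩⟩
  · have h1 : (autInducedBy T Q').map (MulAut.congr (mapEquiv hm)).toMonoidHom =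
        autInducedBy T Q := by
      ext b
      rw [Subgroup.mem_map_equiv]
      set e := MulAut.congr (mapEquiv hm)
      constructor
      · intro hb
        obtain ⟨t, ht, hte⟩ := mem_autInducedBy_iff.1 hb
        refine mem_autInducedBy_iff.2 ⟨autFun α t, autFun_mem α ht, fun y hy => ?_⟩
        obtain ⟨x, hx, rfl⟩ := hm.mem_img.1 hy
        rw [← e.apply_symm_apply b, autFun_congr hm _ hx, hte x hx, hTm.map_conj ht (hQ'T hx)]
      · intro hb
        obtain ⟨t, ht, hte⟩ := mem_autInducedBy_iff.1 hb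
        refine mem_autInducedBy_iff.2 ⟨autFun α⁻¹ t, autFun_mem _ ht, fun x hx => ?_⟩
        have h2 := hte _ (hm.mem_img.2 ⟨x, hx, rfl⟩)
        rw [← e.apply_symm_apply b, autFun_congr hm _ hx] at h2
        refine hTm.inj (hQ'T (autFun_mem _ hx))
          (mul_mem (mul_mem (autFun_mem _ ht) (hQ'T hx)) (inv_mem (autFun_mem _ ht))) ?_
        rw [h2, hTm.map_conj (autFun_mem _ ht) (hQ'T hx), PPrime.autFun_symm' ht]
    have h2 : ((meetSys h).autGroup Q').map (MulAut.congr (mapEquiv hm)).toMonoidHom =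
        (meetSys h).autGroup Q := by
      ext b
      rw [Subgroup.mem_map_equiv, ← congr_mem_meet_iff h hα hm hQ'T, MulEquiv.apply_symm_apply]
    have h3 := not_dvd_relIndex_meet h hQ hQs
    rwa [← h1, ← h2, Subgroup.relIndex_map_map_of_injective _ _
      (MulAut.congr (mapEquiv hm)).injective] at h3
  · have hfl := (isMap_meetSys h).1 hf
    have hPT := hfl.le h
    have haf : Lab F E₁ E₂ T p P (autFun α ∘ f) α := by
      have := hfl.comp (Lab.top hα) fun x hx => hfl.mem h hx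
      rwa [mul_one] at this
    have hafi : img P (autFun α ∘ f) = Q := by
      rw [hQdef, ← img_img (hfl.isMap h), hfi]
    obtain ⟨g, hg, hge⟩ :=
      (isReceptive_iff.1 (IsSaturated.automized_receptive h.pgroup h.sat hQ).2).2 P _
        (haf.isMap h) hafi
    have hEx : extSub T P f ≤ extSub S P (autFun α ∘ f) := fun n hn => by
      obtain ⟨hn1, w, hw, hwe⟩ := mem_extSub.1 hn
      refine ⟨⟨h.hTS hn1.1, hn1.2⟩, autFun α w, h.hTS (autFun_mem α hw), fun x hx => ?_⟩
      show autFun α (f (n * x * n⁻¹)) = _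
      rw [hwe x hx, hTm.map_conj hw (hfl.mem h hx)]
      rfl
    have hPE : P ≤ extSub T P f := le_extSub hf
    obtain ⟨γ, hγ⟩ := exists_lab h (hg.mono hEx) (extSub_le.trans inf_le_left)
    obtain ⟨afi, hafi', hi1, hi2⟩ := haf.exists_inv h
    rw [hafi] at hafi' hi2
    have hQid : Lab F E₁ E₂ T p Q id (γ * α⁻¹) :=
      (hafi'.comp hγ fun q hq => hPE (hi2 q hq).1).congr fun q hq => by
        show q = g (afi q)
        rw [hge _ (hi2 q hq).1, (hi2 q hq).2]
    obtain ⟨s, hs, hl⟩ := coh h hQs (IsSaturated.isFullyCentralized h.pgroup h.sat hQ) _ hQid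
    have hgP : img P g = Q := (IsMap.img_congr hge).trans hafi
    have hgN : ∀ x ∈ extSub T P f, g x ∈ normalizerIn T Q := fun x hx =>
      ⟨hγ.mem h hx, hgP ▸ (map_mem_normalizerIn (hγ.isMap h) hPE hx (extSub_le hx).2).2⟩
    have hsN : ∀ x ∈ normalizerIn T Q, s⁻¹ * x * s⁻¹⁻¹ ∈ normalizerIn T Q := fun x hx =>
      ⟨(Subgroup.mem_normalizer_iff.1 (h.normal (inv_mem hs.1)) x).1 hx.1,
        Subgroup.mul_mem _ (Subgroup.mul_mem _
          (Subgroup.inv_mem _ (Subgroup.centralizer_le_normalizer _ hs.2)) hx.2)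
          (Subgroup.inv_mem _ (Subgroup.inv_mem _ (Subgroup.centralizer_le_normalizer _ hs.2)))⟩
    have hi' : Lab F E₁ E₂ T p (normalizerIn T Q) id ((nu h s)⁻¹ * (γ * α⁻¹))⁻¹ := by
      have h4 := hl.inv (f' := id) (by
        rw [img_id]; exact isMap_id (inf_le_left.trans h.hTS)) fun x _ => rfl
      rwa [img_id] at h4
    have hfin := ((hγ.comp (Lab.of_conj h (inv_mem hs.1) inf_le_left) hgN).comp hi'
      fun x hx => hsN _ (hgN x hx)).comp (Lab.top (inv_mem hα)) (R := T) fun x hx =>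
        (hsN _ (hgN x hx)).1
    rw [nu_inv h hs.1, show α⁻¹ * (((nu h s)⁻¹ * (γ * α⁻¹))⁻¹ * ((nu h s)⁻¹ * γ)) = 1 by group]
      at hfin
    refine ⟨_, (isMap_meetSys h).2 hfin, fun x hx => ?_⟩
    have hq : autFun α (f x) ∈ Q := hafi.le ((haf.isMap h).mem_img.2 ⟨x, hx, rfl⟩)
    show autFun α⁻¹ (s⁻¹ * g x * s⁻¹⁻¹) = f x
    rw [hge x hx]
    show autFun α⁻¹ (s⁻¹ * autFun α (f x) * s⁻¹⁻¹) = f x
    rw [← Subgroup.mem_centralizer_iff.1
      (Subgroup.inv_mem _ hs.2 : s⁻¹ ∈ Subgroup.centralizer (Q : Set Ω)) _ hq]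
    show autFun α⁻¹ (autFun α (f x) * s⁻¹ * s⁻¹⁻¹) = f x
    rw [mul_inv_cancel_right, PPrime.autFun_symm (hfl.mem h hx)]

/-- The meet is saturated. -/
theorem meetSys_saturated : (meetSys h).IsSaturated p := by
  haveI := finite_of_le h.hTS
  refine FamilySat.isSaturated_of_family (ℋ := {R | SelfC F T R}) (h.pgroup.to_le h.hTS)
    (fun R hR R' hR' => ?_) (fun R hR => satAt_meet h hR) (fun E' hE' => ?_) fun P hP hPs => ?_
  · obtain ⟨f, hf, rfl⟩ := isConj_iff.1 hR'
    exact hR.map h.closed (((isMap_meetSys h).1 hf).isMap h)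
  · intro P φ hφ
    have hl := (isMap_meetSys h).1 (isMap_toFun hφ)
    obtain ⟨k, hk, hke⟩ := hl.conjDec h (E := E') le_rfl
      (fun t ht => isMap_conj le_rfl ht) (fun P a hs hc ha hco β hβ => by
        obtain ⟨k, hk, hke⟩ := (Lab.top hβ).conj h (Lab.good hs hc ha hco) hs.le
          fun x hx => hs.le (stab_mem ha.1 hx)
        rw [mul_one, mul_inv_cancel] at hk
        obtain ⟨ψ, hψ, hψk⟩ := (isMap_meetSys h).2 hk
        exact ⟨k, ⟨ψ, hE' _ (hs.map h.closed (((mem_autGroup_iff h.hTS).1 hβ).mono hs.le)) hψ,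
          hψk⟩, hke⟩) 1 (one_mem _)
    rw [img_eq_self_of_fix fun x hx => autFun_one (hl.le h hx)] at hk
    refine mem_hom_iff.2 (hk.congr fun x hx => ?_)
    have h1 := hke x hx
    rw [autFun_one (hl.le h hx), inv_one, autFun_one (hl.mem h hx),
      autFun_one (hl.mem h hx)] at h1
    exact h1.symm
  · have hPs' : ¬ SelfC F T P := hPs
    obtain ⟨θ, hθ, hnc⟩ : ∃ θ, IsMap F P θ ∧ ¬ centralizerIn T (img P θ) ≤ img P θ := by
      by_contra hcon
      push Not at hcon
      exact hPs' ⟨hP, hcon⟩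
    obtain ⟨z, hz, hzn⟩ := SetLike.not_le_iff_exists.1 hnc
    obtain ⟨α, hα, k, hk, hke⟩ := exists_meet_map h hθ hP
    have hTm := (mem_autGroup_iff h.hTS).1 hα
    set n := autFun α⁻¹ z with hn
    have hnT : n ∈ T := autFun_mem _ hz.1
    have hkm := hk.isMap h
    have hcn : n ∈ Subgroup.centralizer (img P k : Set Ω) :=
      Subgroup.mem_centralizer_iff.2 fun y hy => by
        obtain ⟨x, hx, rfl⟩ := hkm.mem_img.1 hy
        refine hTm.inj (mul_mem (hk.mem h hx) hnT) (mul_mem hnT (hk.mem h hx)) ?_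
        rw [hTm.map_mul (hk.mem h hx) hnT, hTm.map_mul hnT (hk.mem h hx), hn,
          PPrime.autFun_symm' hz.1, ← hke x hx]
        exact Subgroup.mem_centralizer_iff.1 hz.2 _ (hθ.mem_img.2 ⟨x, hx, rfl⟩)
    refine ⟨img P k, isConj_iff.2 ⟨k, (isMap_meetSys h).2 hk, rfl⟩, n,
      ⟨⟨hnT, Subgroup.centralizer_le_normalizer _ hcn⟩, 1, one_mem _, fun x hx => ?_⟩, fun hnP => ?_⟩
    · rw [autFun_one hx, ← Subgroup.mem_centralizer_iff.1 hcn x hx, mul_inv_cancel_right]
    · obtain ⟨x, hx, hxn⟩ := hkm.mem_img.1 hnP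
      exact hzn (hθ.mem_img.2 ⟨x, hx, by rw [hke x hx, hxn, hn, PPrime.autFun_symm' hz.1]⟩)

/-- Elements of the local subgroup of `T` give extensions. -/
theorem exists_good_of_autGroup {a : MulAut T} (ha : a ∈ (meetSys h).autGroup T) :
    ∃ b : MulAut (base S T), Good F E₁ E₂ T T b ∧ (∀ x ∈ T, autFun b x = autFun a x) ∧
      ∀ c ∈ centralizerIn S T, c⁻¹ * autFun b c ∈ T ⊓ Subgroup.centralizer (T : Set Ω) := by
  have hTn := isFullyNormalized_T h
  obtain ⟨M⟩ := exists_lModel h.pgroup h.sat hTn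
  obtain ⟨g, hg, rfl⟩ := lab_top_one h M ((isMap_meetSys h).1 ((mem_autGroup_iff le_rfl).1 ha))
  have hK := M.hSub_le h hTn le_rfl hg
  rw [M.mem_kSub] at hK
  refine ⟨M.act g, hK, fun x hx => (M.autFun_res g hx).symm, fun c hc => ?_⟩
  have hcB : c ∈ base S T := Subgroup.mem_sup_right hc
  have hTB : T ≤ base S T := le_sup_left
  have hm := (mem_autGroup_iff (base_le h.hTS)).1 (M.act_stab g).1
  have h1 := map_mem_centralizerIn hm hTB hcB hc.2
  rw [img_eq_of_map_le h.hTS hm hTB fun x hx => stab_mem hK.1 hx] at h1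
  exact ⟨hK.2.1 c hcB, Subgroup.mul_mem _ (Subgroup.inv_mem _ hc.2) h1.2⟩

/-- The meet is normal in `F`. -/
theorem meetSys_normal : (meetSys h).IsNormalIn F p := by
  refine ⟨⟨meetSys_saturated h, h.sat, (isInvariantIn_iff_strongInv h.pgroup h.sat (meetSys_sub h)
    h.closed).2 (meetSys_strongInv h)⟩, fun α hα => ?_⟩
  obtain ⟨b, hb, hbe, hbd⟩ := exists_good_of_autGroup h hα
  refine ⟨b, hb.1.1, fun x => ?_, fun c hc => ?_⟩
  · rw [← autFun_coe α x, ← hbe x x.2]
    exact (autFun_apply b _).symm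
  · rw [← autFun_coe b c]
    exact hbd c hc

theorem isNormalIn_side (hs : Side F p E) (hTT : T ≤ T')
    (hsub : (meetSys h).IsSubsystemOf E)
    (hgood : ∀ b, Good F E₁ E₂ T T b → IsMap E (ubase T' T) (autFun b)) :
    (meetSys h).IsNormalIn E p := by
  haveI := finite_of_le hs.le
  have hT'p := h.pgroup.to_le hs.le
  have hcl : E.StronglyClosed T := stronglyClosed_iff.2 ⟨hTT, fun R f hR hf x hx =>
    (stronglyClosed_iff.1 h.closed).2 R f hR (hf.ofSubsystem hs.sub) x hx⟩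
  refine ⟨⟨meetSys_saturated h, hs.sat, (isInvariantIn_iff_strongInv hT'p hs.sat hsub hcl).2
    fun P Q f g hPQ hQT hf hfQ hg =>
      meetSys_strongInv h P Q f g hPQ hQT hf hfQ (hg.ofSubsystem hs.sub)⟩, fun α hα => ?_⟩
  obtain ⟨b, hb, hbe, hbd⟩ := exists_good_of_autGroup h hα
  have hUB : ubase T' T ≤ base S T := ubase_le_base hs.le
  have hm := hgood b hb
  have hi : img (ubase T' T) (autFun b) = ubase T' T := img_eq_of_map_le (ubase_le hTT) hm le_rfl
    fun x hx => stab_ubase hs hTT hb.1 hx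
  refine ⟨autOf hm hi, autOf_mem hm hi, fun x => ?_, fun c hc => ?_⟩
  · rw [← autFun_coe α x, ← hbe x x.2]
    rw [← autFun_coe (autOf hm hi)]
    exact autFun_autOf hm hi (Subgroup.mem_sup_left x.2)
  · rw [← autFun_coe (autOf hm hi) c, autFun_autOf hm hi c.2]
    exact hbd c ⟨hs.le hc.1, hc.2⟩

theorem meetSys_normal₁ : (meetSys h).IsNormalIn E₁ p :=
  isNormalIn_side h h.side₁ h.le₁ (meetSys_sub₁ h) fun _ hb => hb.2.2.1

theorem meetSys_normal₂ : (meetSys h).IsNormalIn E₂ p :=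
  isNormalIn_side h h.side₂ h.le₂ (meetSys_sub₂ h) fun _ hb => hb.2.2.2

end CfsgLib.Fusion.Meet
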