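import Cfsg.Agent.Lib.Fusion.System.Meet.Reduced
import Cfsg.Agent.Lib.Fusion.System.Meet.System
import Cfsg.Agent.S5140
import Cfsg.Agent.S5141

/-!
# The layer

A component lies in every normal subsystem over a subgroup containing its group, so the
`p'`-residual of a normal subsystem of least order containing all components is the layer.
-/

set_option autoImplicit false
set_option linter.style.haveILetI false
set_option linter.unusedSectionVars false

open Subgroup
open scoped Classical Pointwise

namespace CfsgLib.Fusion.Meet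

open Cfsg (FusionSystem autInducedBy)
open Cfsg.FusionSystem (normalizerIn centralizerIn)
open CfsgLib.Fusion

universe u

variable {Ω : Type u} [Group Ω] {S T V : Subgroup Ω} {F : FusionSystem S} {E : FusionSystem T}
  {C : FusionSystem V} {p : ℕ}

theorem normal_le (hE : E.IsNormalIn F p) : T ≤ S := hE.1.2.2.2.1.1

theorem subnormal_trans {U : Subgroup Ω} {D : FusionSystem U} (h₁ : C.IsSubnormalIn E p)
    (h₂ : E.IsSubnormalIn D p) : C.IsSubnormalIn D p := by
  induction h₂ with
  | refl => exact h₁
  | step _ hN ih => exact (ih h₁).step hN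

/-- The meet of two normal subsystems, over a named subgroup. -/
theorem exists_meet [Finite S] [Fact p.Prime] (hS : IsPGroup p S) (hF : F.IsSaturated p)
    {U : Subgroup Ω} {D : FusionSystem U} (hD : D.IsNormalIn F p) (hE : E.IsNormalIn F p) :
    ∃ M : FusionSystem (U ⊓ T), M.IsNormalIn F p ∧ M.IsNormalIn D p ∧ M.IsNormalIn E p :=
  have h : Setup F p D E (U ⊓ T) :=
    ⟨hS, hF, Side.of_weaklyNormal hS hD.1, Side.of_weaklyNormal hS hE.1, rfl⟩
  ⟨meetSys h, meetSys_normal h, meetSys_normal₁ h, meetSys_normal₂ h⟩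

/-- A subnormal subsystem has a normal subsystem over the meet subnormal in any normal one. -/
theorem exists_normal_inf (hC : C.IsSubnormalIn F p) :
    Fact p.Prime → Finite S → IsPGroup p S → F.IsSaturated p →
      ∀ (T : Subgroup Ω) (E : FusionSystem T), E.IsNormalIn F p →
        ∃ (W : Subgroup Ω) (C' : FusionSystem W),
          W = V ⊓ T ∧ C'.IsNormalIn C p ∧ C'.IsSubnormalIn E p := by
  induction hC with
  | refl F p =>
    intro _ _ _ _ T E hE
    exact ⟨T, E, (inf_eq_right.2 (normal_le hE)).symm, hE, .refl E p⟩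
  | @step U S C D F p hCD hDF ih =>
    intro hp hfin hS hF T E hE
    obtain ⟨M, -, hMD, hME⟩ := exists_meet hS hF hDF hE
    have hUS := normal_le hDF
    obtain ⟨W, C', hW, hC'C, hC'M⟩ := ih hp (finite_of_le hUS) (hS.to_le hUS) hDF.1.1 _ M hMD
    exact ⟨W, C', by rw [hW, ← inf_assoc, inf_eq_left.2 (subnormal_le hCD)], hC'C,
      subnormal_trans hC'M ((Cfsg.FusionSystem.IsSubnormalIn.refl M p).step hME)⟩

variable [Finite S] [Fact p.Prime]

/-- A component lies in every normal subsystem over a subgroup containing its group. -/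
theorem component_of_le (hS : IsPGroup p S) (hF : F.IsSaturated p) (hC : C.IsComponentIn F p)
    (hE : E.IsNormalIn F p) (hVT : V ≤ T) : C.IsComponentIn E p := by
  obtain ⟨W, C', hW, hC'C, hC'E⟩ := exists_normal_inf hC.1 ‹_› ‹_› hS hF T E hE
  rw [inf_eq_left.2 hVT] at hW
  subst hW
  haveI : Finite W := finite_of_le (subnormal_le hC.1)
  have hV : IsPGroup p W := hS.to_le (subnormal_le hC.1)
  rw [eq_of_weaklyNormal_top hV (reduced_of_quasisimple hV hC.2) hC'C.1] at hC'E
  exact ⟨hC'E, hC.2⟩

theorem component_sub (hS : IsPGroup p S) (hF : F.IsSaturated p) (hC : C.IsComponentIn F p)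
    (hE : E.IsNormalIn F p) (hVT : V ≤ T) : C.IsSubsystemOf E :=
  Components.subnormal_isSubsystemOf (component_of_le hS hF hC hE hVT).1

theorem le_of_sub {U : Subgroup Ω} {D : FusionSystem U} (h : C.IsSubsystemOf D) : V ≤ U :=
  (D.le_of_mem (h _ (C.conj_mem le_rfl (one_mem V)))).1

/-- A component of a subsystem subnormal in `F` is one of `F`. -/
theorem component_trans {U : Subgroup Ω} {D : FusionSystem U} (hC : C.IsComponentIn D p)
    (hD : D.IsSubnormalIn F p) : C.IsComponentIn F p :=
  ⟨subnormal_trans hC.1 hD, hC.2⟩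

omit [Finite S] in
/-- The residual of a normal subsystem containing all components contains them. -/
theorem residual_components [Finite T] (hTS : IsPGroup p T) {L D : FusionSystem T}
    (hL : L.IsSaturated p) (hD : L.IsPPrimeResidual p D) (hC : C.IsComponentIn L p) :
    C.IsSubsystemOf D :=
  component_sub hTS hL hC
    (Cfsg.Agent.S5141.result p hTS L hL L (Components.isWeaklyNormalIn_self hTS hL) D hD)
    (subnormal_le hC.1)

/-- Every saturated system has a reduced normal subsystem that is its layer. -/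
theorem exists_layer (hS : IsPGroup p S) (hF : F.IsSaturated p) :
    ∃ (T : Subgroup Ω) (E : FusionSystem T), E.IsLayerOf F p ∧ Reduced p E := by
  have hex : ∃ n : ℕ, ∃ (T : Subgroup Ω) (L : FusionSystem T), L.IsNormalIn F p ∧ Nat.card T = n ∧
      ∀ (U : Subgroup Ω) (C : FusionSystem U), C.IsComponentIn F p → C.IsSubsystemOf L :=
    ⟨_, S, F, isNormalIn_self hS hF, rfl, fun U C hC => Components.subnormal_isSubsystemOf hC.1⟩
  obtain ⟨T, L, hL, hcard, hLc⟩ := Nat.find_spec hex
  have hTS := normal_le hL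
  haveI := finite_of_le hTS
  have hT : IsPGroup p T := hS.to_le hTS
  obtain ⟨E, hE⟩ := Cfsg.Agent.S5140.result p hT L hL.1.1
  have hEn : E.IsNormalIn F p := Cfsg.Agent.S5141.result p hS F hF L hL.1 E hE
  have hEc : ∀ (U : Subgroup Ω) (C : FusionSystem U), C.IsComponentIn F p → C.IsSubsystemOf E :=
    fun U C hC => residual_components hT hL.1.1 hE
      (component_of_le hS hF hC hL (le_of_sub (hLc U C hC)))
  refine ⟨T, E, ⟨hEn, hEc, fun R D hD hDc => ?_⟩, reduced_residual hE⟩
  obtain ⟨M, hMF, hMD, hME⟩ := exists_meet hS hF hD hEn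
  have hTR : R ⊓ T = T := by
    refine eq_of_le_of_card_le hTS inf_le_right ?_
    rw [hcard]
    refine Nat.find_min' hex ⟨_, M, hMF, rfl, fun U C hC => component_sub hS hF hC hMF ?_⟩
    exact le_inf (le_of_sub (hDc U C hC)) (le_of_sub (hLc U C hC))
  intro P φ hφ
  refine hMD.1.2.2.1 P (mem_hom_iff.2 ?_)
  exact Components.isMap_of_weaklyNormal_top hT (reduced_residual hE) hTR hME.1 (isMap_toFun hφ)

/-- Two layers are the same. -/
theorem layer_unique {U : Subgroup Ω} {D : FusionSystem U} (hE : E.IsLayerOf F p)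
    (hD : D.IsLayerOf F p) : T = U ∧ ∀ P, E.Hom P = D.Hom P := by
  have h₁ := hE.2.2 U D hD.1 hD.2.1
  have h₂ := hD.2.2 T E hE.1 hE.2.1
  exact ⟨le_antisymm (le_of_sub h₁) (le_of_sub h₂), fun P => Set.Subset.antisymm (h₁ P) (h₂ P)⟩

theorem layer_reduced (hS : IsPGroup p S) (hF : F.IsSaturated p) (hE : E.IsLayerOf F p) :
    Reduced p E := by
  obtain ⟨U, D, hD, hr⟩ := exists_layer hS hF
  obtain ⟨rfl, h⟩ := layer_unique hE hD
  rwa [Transport.eq_of_sameMaps h]

end CfsgLib.Fusion.Meet
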