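import Cfsg.Agent.Lib.Fusion.System.Meet.FixStep
import Cfsg.Agent.Lib.Fusion.System.Meet.Layer

/-!
# Components commute with the normal subsystems they are outside of

A component `C` over `V` and a normal subsystem `E` over `T` with `V ≰ T` commute: `V` centralizes
`T` and every map of `C` extends fixing `T` pointwise.
-/

set_option autoImplicit false
set_option maxHeartbeats 1000000
set_option linter.style.haveILetI false
set_option linter.unusedSectionVars false

open Subgroup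
open scoped Classical Pointwise

namespace CfsgLib.Fusion.Meet

open Cfsg (FusionSystem autInducedBy)
open Cfsg.FusionSystem (normalizerIn centralizerIn preimageAlong)
open CfsgLib.Fusion CfsgLib.Fusion.CentLift

universe u

variable {Ω : Type u} [Group Ω] {S U T V : Subgroup Ω} {F : FusionSystem S} {M : FusionSystem U}
  {E : FusionSystem T} {p : ℕ} {W X P : Subgroup Ω} {f g : Ω → Ω}

section Step

variable [Finite S] [Fact p.Prime] (h : Setup F p M M U) (hT : F.StronglyClosed T)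
include h hT

/-- Moving to a fully normalized subgroup. -/
theorem exists_fix_transport (hWU : W ≤ U) (hTW : U ⊓ T ≤ W) (hTN : T ≤ normalizerIn S W)
    {γ : MulAut W} (hγ : γ ∈ M.autGroup W) (hco : (orderOf γ).Coprime p)
    (hfix : ∀ z ∈ U ⊓ T, autFun γ z = z) :
    ∃ (W₀ : Subgroup Ω) (φ : Ω → Ω) (γ₀ : MulAut W₀), IsMap F W φ ∧ img W φ = W₀ ∧
      F.IsFullyNormalized W₀ ∧ W₀ ≤ U ∧ U ⊓ T ≤ W₀ ∧ T ≤ normalizerIn S W₀ ∧
      γ₀ ∈ M.autGroup W₀ ∧ (orderOf γ₀).Coprime p ∧ (∀ z ∈ U ⊓ T, autFun γ₀ z = z) ∧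
      (FixExt F T W₀ (autFun γ₀) → FixExt F T W (autFun γ)) := by
  have hS := h.pgroup
  have hTS := hT.1
  have hWS := hWU.trans h.hTS
  have hU' : F.StronglyClosed (U ⊓ T) := stronglyClosed_inf h.closed hT
  haveI := finite_of_le h.hTS
  obtain ⟨W₀, hconj, hW₀⟩ := exists_fullyNormalized (F := F) hWS
  obtain ⟨hau, hre⟩ := IsSaturated.automized_receptive hS h.sat hW₀
  obtain ⟨φ, hφ, hφW, hφN⟩ := exists_map_normalizer hS hau hre hconj
  have hWN : W ≤ normalizerIn S W := le_normalizerIn hWS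
  have hφT : img T φ = T := img_eq_of_map_le hTS hφ hTN fun t ht => cl_mem hT hφ (hTN ht) ht
  have hφ' : img (U ⊓ T) φ = U ⊓ T := img_eq_of_map_le hU'.1 hφ (hTW.trans hWN) fun t ht =>
    cl_mem hU' hφ (hWN (hTW ht)) ht
  have hφWm := hφ.mono hWN
  have hW₀U : W₀ ≤ U := by
    rw [← hφW]
    exact hφWm.img_le_of_forall fun x hx => cl_mem h.closed hφWm hx (hWU hx)
  obtain ⟨k, hk, hke⟩ := h.side₁.inv W W (autFun γ) φ le_rfl hWU ((mem_autGroup_iff hWU).1 hγ)
    (fun x hx => autFun_mem γ hx) hφWm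
  rw [hφW] at hk
  have hmem : ∀ x ∈ W, φ x ∈ W₀ := fun x hx => hφW.le (hφWm.mem_img.2 ⟨x, hx, rfl⟩)
  have hki : img W₀ k = W₀ := img_eq_of_map_le hW₀U hk le_rfl fun y hy => by
    obtain ⟨x, hx, rfl⟩ := hφWm.mem_img.1 (hφW.ge hy)
    rw [hke x hx]
    exact hmem _ (autFun_mem γ hx)
  set γ₀ := autOf hk hki with hγ₀
  have hev : ∀ x ∈ W, autFun γ₀ (φ x) = φ (autFun γ x) := fun x hx => by
    rw [hγ₀, autFun_autOf hk hki (hmem x hx), hke x hx]
  have hpow : ∀ (i : ℕ), ∀ x ∈ W, autFun (γ₀ ^ i) (φ x) = φ (autFun (γ ^ i) x) := by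
    intro i
    induction i with
    | zero => intro x hx; rw [pow_zero, pow_zero, autFun_one (hmem x hx), autFun_one hx]
    | succ i ih =>
      intro x hx
      rw [pow_succ', pow_succ', autFun_mul _ _ (hmem x hx), autFun_mul _ _ hx, ih x hx,
        hev _ (autFun_mem _ hx)]
  refine ⟨W₀, φ, γ₀, hφWm, hφW, hW₀, hW₀U, ?_, ?_, autOf_mem hk hki, ?_, ?_, ?_⟩
  · rw [← hφ']
    exact (hφWm.mono hTW).img_le_of_forall fun z hz => hmem z (hTW hz)
  · intro t ht
    obtain ⟨s, hs, rfl⟩ := (hφ.mono hTN).mem_img.1 (hφT.ge ht)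
    exact hφN s (hTN hs)
  · refine Nat.Coprime.coprime_dvd_left (orderOf_dvd_of_pow_eq_one (autFun_ext fun y hy => ?_)) hco
    obtain ⟨x, hx, rfl⟩ := hφWm.mem_img.1 (hφW.ge hy)
    rw [hpow _ x hx, pow_orderOf_eq_one, autFun_one hx, autFun_one (hmem x hx)]
  · intro z hz
    obtain ⟨x, hx, rfl⟩ := (hφWm.mono hTW).mem_img.1 (hφ'.ge hz)
    rw [hev x (hTW hx), hfix x hx]
  · rintro ⟨G, hG, hGW, hGT⟩
    have hWT : W ⊔ T ≤ normalizerIn S W := sup_le hWN hTN
    have hm := hφ.mono hWT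
    have himg : img (W ⊔ T) φ = W₀ ⊔ T := by
      refine le_antisymm (hm.img_le_of_forall fun z hz => hm.map_mem_of_sup
        (fun x hx => Subgroup.mem_sup_left (hmem x hx))
        (fun t ht => Subgroup.mem_sup_right (cl_mem hT hφ (hTN ht) ht)) hz) (sup_le ?_ ?_)
      · rw [← hφW]; exact hm.img_mono le_sup_left
      · conv_lhs => rw [← hφT]
        exact hm.img_mono le_sup_right
    obtain ⟨φ', hφi, hφ1, -⟩ := hm.exists_inv
    rw [himg] at hφi
    have hc := (hm.comp hG fun z hz => himg.le (hm.mem_img.2 ⟨z, hz, rfl⟩)).comp hφi fun z hz =>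
      hG.map_mem_of_sup (fun x hx => Subgroup.mem_sup_left (by rw [hGW x hx]; exact autFun_mem _ hx))
        (fun t ht => Subgroup.mem_sup_right (by rw [hGT t ht]; exact ht))
        (himg.le (hm.mem_img.2 ⟨z, hz, rfl⟩))
    refine ⟨φ' ∘ (G ∘ φ), hc, fun x hx => ?_, fun t ht => ?_⟩
    · show φ' (G (φ x)) = _
      rw [hGW _ (hmem x hx), hev x hx, hφ1 _ (Subgroup.mem_sup_left (autFun_mem _ hx))]
    · show φ' (G (φ t)) = t
      rw [hGT _ (cl_mem hT hφ (hTN ht) ht), hφ1 t (Subgroup.mem_sup_right ht)]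

variable (hM : M.IsNormalIn F p)
include hM

/-- Automorphisms in `M` fixing `U ⊓ T` of subgroups containing it extend fixing `T`. -/
theorem fixExt_of_fix (hWU : W ≤ U) (hTW : U ⊓ T ≤ W) (hTN : T ≤ normalizerIn S W)
    {γ : MulAut W} (hγ : γ ∈ M.autGroup W) (hco : (orderOf γ).Coprime p)
    (hfix : ∀ z ∈ U ⊓ T, autFun γ z = z) : FixExt F T W (autFun γ) := by
  have hS := h.pgroup
  have hF := h.sat
  have hUS := h.hTS
  have hUp := hS.to_le hUS
  haveI := finite_of_le hUS
  obtain ⟨Y, φ, γ₁, -, -, hY, hYU, hTY, hTNY, hγ₁, hco₁, hfix₁, hback⟩ :=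
    exists_fix_transport h hT hWU hTW hTN hγ hco hfix
  refine hback ?_
  -- extend to `Y C_U(Y)`
  have hYM := isFullyNormalized_of_stronglyClosed hS hF h.closed h.side₁.sub hYU hY
  have hYc := IsSaturated.isFullyCentralized hUp h.side₁.sat hYM
  obtain ⟨k, hk, hke⟩ := (isReceptive_iff.1 (IsSaturated.automized_receptive hUp h.side₁.sat
    hYM).2).2 Y (autFun γ₁) ((mem_autGroup_iff hYU).1 hγ₁) (img_autFun γ₁)
  have hBe : base U Y ≤ extSub U Y (autFun γ₁) := sup_le (le_extSub ((mem_autGroup_iff hYU).1 hγ₁))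
    fun c hc => ⟨centralizerIn_le_normalizerIn hc, 1, one_mem _, fun x hx => by
      rw [← Subgroup.mem_centralizer_iff.1 hc.2 x hx, mul_inv_cancel_right, one_mul, inv_one,
        mul_one]⟩
  have hkm := hk.mono hBe
  have hBU : base U Y ≤ U := base_le hYU
  have hYB : Y ≤ base U Y := le_sup_left
  have hiY : img Y k = Y := img_eq_of_map_le hYU hkm hYB fun x hx => by
    rw [hke x hx]; exact autFun_mem _ hx
  have hBi : img (base U Y) k = base U Y := img_eq_of_map_le hBU hkm le_rfl fun z hz =>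
    hkm.map_mem_of_sup (fun x hx => Subgroup.mem_sup_left (by rw [hke x hx]; exact autFun_mem _ hx))
      (fun c hc => Subgroup.mem_sup_right (hiY ▸ map_mem_centralizerIn hkm hYB
        (Subgroup.mem_sup_right hc) hc.2)) hz
  haveI := finite_of_le hBU
  haveI := finite_mulAut (P := base U Y)
  set G := autOf hkm hBi with hG
  have hGY : ∀ x ∈ Y, autFun G x = autFun γ₁ x := fun x hx => by
    rw [hG, autFun_autOf hkm hBi (hYB hx), hke x hx]
  obtain ⟨e, he⟩ := Components.exists_coprime_pow (p := p) G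
  obtain ⟨m, hm⟩ := Components.exists_pow_pow_eq hco₁ e
  set γ₂ := (G ^ p ^ e) ^ m with hγ₂
  have hγ₂Y : ∀ x ∈ Y, autFun γ₂ x = autFun γ₁ x := fun x hx => by
    rw [hγ₂, ← pow_mul, autFun_pow_eq hYB hGY _ x hx, pow_mul, hm]
  have hco₂ : (orderOf γ₂).Coprime p := Nat.Coprime.coprime_dvd_left (orderOf_pow_dvd _) he
  have hTNB : T ≤ normalizerIn S (base U Y) := by
    have hcl : ∀ t ∈ T, ∀ y ∈ base U Y, t * y * t⁻¹ ∈ base U Y := by
      intro t ht y hy
      have htN := (hTNY ht).2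
      refine (isMap_conj (F := F) (hBU.trans hUS) (hT.1 ht)).map_mem_of_sup
        (fun x hx => Subgroup.mem_sup_left ((Subgroup.mem_normalizer_iff.1 htN x).1 hx))
        (fun c hc => Subgroup.mem_sup_right
          (show t * c * t⁻¹ ∈ centralizerIn U Y from
            ⟨(Subgroup.mem_normalizer_iff.1 (h.normal (hT.1 ht)) c).1 hc.1,
              Subgroup.mem_centralizer_iff.2 fun x hx => ?_⟩)) hy
      have h1 := Subgroup.mem_centralizer_iff.1 hc.2 _
        ((Subgroup.mem_normalizer_iff.1 ((Subgroup.normalizer _).inv_mem htN) x).1 hx)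
      calc x * (t * c * t⁻¹) = t * (t⁻¹ * x * t⁻¹⁻¹ * c) * t⁻¹ := by group
        _ = t * (c * (t⁻¹ * x * t⁻¹⁻¹)) * t⁻¹ := by rw [h1]
        _ = t * c * t⁻¹ * x := by group
    refine fun t ht => ⟨hT.1 ht, Subgroup.mem_normalizer_iff.2 fun y => ⟨hcl t ht y, fun hy => ?_⟩⟩
    simpa [mul_assoc] using hcl t⁻¹ (T.inv_mem ht) _ hy
  obtain ⟨W₀, φ₂, γ₃, hφ₂, hφ₂W, hW₀, hW₀U, hTW₀, hTN₀, hγ₃, hco₃, hfix₃, hback₂⟩ :=
    exists_fix_transport h hT hBU (hTY.trans hYB) hTNB
      (pow_mem (pow_mem (autOf_mem hkm hBi) _) _) hco₂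
      (fun z hz => by rw [hγ₂Y z (hTY hz), hfix₁ z hz])
  have hWs : SelfC F U W₀ := hφ₂W ▸ (selfC_of_centric h hM.1
    (isCentric_base hUp h.side₁.sat hYc)).map h.closed hφ₂
  exact ((hback₂ (ext_fix h hM hT hW₀ hWs hTW₀ hTN₀ hγ₃ hco₃ hfix₃)).mono hYB).congr
    fun x hx => (hγ₂Y x hx).symm

end Step

variable [Finite S] [Fact p.Prime]

/-- A normal subsystem of a quasisimple system is over a central subgroup or over everything. -/
theorem le_center_of_quasisimple (hS : IsPGroup p S) (hq : F.Quasisimple p)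
    (hE : E.IsNormalIn F p) (hST : ¬ S ≤ T) : T ≤ F.center := by
  obtain ⟨hF, hhyp, hquot⟩ := hq
  have hT : F.StronglyClosed T := hE.1.2.2.2.1
  have hTS := hT.1
  haveI := finite_of_le hTS
  set Z := F.center
  have hZ : F.StronglyClosed Z :=
    stronglyClosed_of_isNormal (Components.isNormal_of_isCentral isCentral_center)
  set θ := QuotientGroup.mk' (Z.subgroupOf S) with hθ
  have hker : ∀ s : S, θ s = 1 ↔ (s : Ω) ∈ Z := fun s => by
    rw [hθ, QuotientGroup.mk'_apply, QuotientGroup.eq_one_iff, Subgroup.mem_subgroupOf]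
  have hr : θ.range = ⊤ := MonoidHom.range_eq_top.2 (QuotientGroup.mk'_surjective _)
  obtain ⟨F', hF'⟩ := exists_isFactorSystem hZ θ hker hr
  obtain ⟨hF's, hne, hsimp⟩ := hquot F' hF'
  haveI : Finite (⊤ : Subgroup (↥S ⧸ Z.subgroupOf S)) := Subtype.finite
  have hS' : IsPGroup p (⊤ : Subgroup (↥S ⧸ Z.subgroupOf S)) :=
    (hS.to_quotient _).to_subgroup _
  have hsurj := isSurjectiveMorphism_factor hS hF hZ hF'
  set θT := θ.comp (Subgroup.inclusion hTS) with hθT
  have he : ∀ x ∈ T, ext1 θT x = ext1 θ x := fun x hx => by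
    rw [ext1_apply θT hx, ext1_apply θ (hTS hx)]; rfl
  have hsub := hE.1.2.2.1
  have hTp := hS.to_le hTS
  have hW : E.StronglyClosed (Z ⊓ T) := stronglyClosed_iff.2 ⟨inf_le_right, fun R l hR hl x hx =>
    ⟨cl_mem hZ (Components.isMap_of_sub hsub hl) hx (hR hx).1, hl.mem_S hx⟩⟩
  have hkerT : ∀ s : T, θT s = 1 ↔ (s : Ω) ∈ Z ⊓ T := fun s => by
    rw [hθT, MonoidHom.comp_apply, hker]
    exact ⟨fun hs => ⟨hs, s.2⟩, fun hs => hs.1⟩
  set T' := θT.range with hT'
  obtain ⟨E', hE'⟩ := exists_isFactorSystem hW θT hkerT hT'.symm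
  have hsurjT := isSurjectiveMorphism_factor hTp hE.1.1 hW hE'
  haveI : Finite T' := finite_of_le (S := (⊤ : Subgroup (↥S ⧸ Z.subgroupOf S))) le_top
  have hsub' : E'.IsSubsystemOf F' := fun P' φ' hφ' => by
    obtain ⟨l, hl, hle⟩ := exists_lift_map hsurjT (isMap_toFun hφ')
    have hP' : P' ≤ T' := (E'.le_of_mem hφ').1
    have hlS := (hl.le).trans hTS
    obtain ⟨e, hem, hee⟩ := exists_image_map hsurj (Components.isMap_of_sub hsub hl)
    have himg : imgι θ (preimageAlong θT P') = P' := by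
      ext y
      rw [mem_imgι hlS]
      refine ⟨?_, fun hy => ?_⟩
      · rintro ⟨x, hx, rfl⟩
        rw [← he x (hl.le hx)]
        exact (mem_preimageAlong.1 hx).2
      · obtain ⟨x, hx, rfl⟩ := exists_preimage (α := θT) (P' := P') hP' hy
        exact ⟨x, hx, (he x (hl.le hx)).symm⟩
    rw [himg] at hem
    refine mem_hom_iff.2 (hem.congr fun y hy => ?_)
    obtain ⟨x, hx, rfl⟩ := exists_preimage (α := θT) (P' := P') hP' hy
    rw [← hle x hx, he x (hl.le hx), he _ (hl.mem_S hx), hee x hx]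
  have hclosed : F'.StronglyClosed T' := stronglyClosed_iff.2 ⟨le_top, fun R' l' hR' hl' y hy => by
    obtain ⟨l, hl, hle⟩ := exists_lift_map hsurj hl'
    obtain ⟨s, hs⟩ := hR' hy
    have hsR : (s : Ω) ∈ preimageAlong θ R' := mem_preimageAlong.2
      ⟨hTS s.2, by rw [← he _ s.2, ext1_coe, hs]; exact hy⟩
    have hls := cl_mem hT hl hsR s.2
    rw [← hs, ← ext1_coe θT s, he _ s.2, ← hle _ hsR, ← he _ hls]
    exact ⟨⟨_, hls⟩, (ext1_apply θT hls).symm⟩⟩
  have hinv : StrongInv E' F' := fun P' Q' f' g' hPQ hQT hf' hfQ hg' => by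
    obtain ⟨l, hl, hle⟩ := exists_lift_map hsurjT hf'
    obtain ⟨k, hk, hke⟩ := exists_lift_map hsurj hg'
    set P₁ := preimageAlong θT P'
    set Q₁ := preimageAlong θT Q'
    have hQ₁T : Q₁ ≤ T := preimageAlong_le θT Q'
    have hQ₁ : Q₁ ≤ preimageAlong θ Q' := fun x hx => mem_preimageAlong.2
      ⟨hTS (hQ₁T hx), by rw [← he x (hQ₁T hx)]; exact (mem_preimageAlong.1 hx).2⟩
    have hPQ₁ : P₁ ≤ Q₁ := fun x hx =>
      mem_preimageAlong.2 ⟨(mem_preimageAlong.1 hx).1, hPQ (mem_preimageAlong.1 hx).2⟩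
    have hlQ : ∀ x ∈ P₁, l x ∈ Q₁ := fun x hx => mem_preimageAlong.2
      ⟨hl.mem_S hx, by rw [hle x hx]; exact hfQ _ (mem_preimageAlong.1 hx).2⟩
    obtain ⟨m, hm, hme⟩ := (Side.of_weaklyNormal hS hE.1).inv P₁ Q₁ l k hPQ₁ hQ₁T hl hlQ
      (hk.mono hQ₁)
    obtain ⟨e, hem, hee⟩ := exists_image_map hsurjT hm
    have hkT : ∀ x ∈ Q₁, k x ∈ T := fun x hx => cl_mem hT hk (hQ₁ hx) (hQ₁T hx)
    have hkm := (hk.mono hQ₁).mono hPQ₁
    have himg : imgι θT (img P₁ k) = img P' g' := by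
      have hg'P := hg'.mono hPQ
      ext y
      rw [mem_imgι (hkm.img_le_of_forall fun x hx => hkT x (hPQ₁ hx)), hg'P.mem_img]
      constructor
      · rintro ⟨z, hz, rfl⟩
        obtain ⟨x, hx, rfl⟩ := hkm.mem_img.1 hz
        exact ⟨_, (mem_preimageAlong.1 hx).2, by
          rw [he x (hQ₁T (hPQ₁ hx)), ← hke x (hQ₁ (hPQ₁ hx)), he _ (hkT x (hPQ₁ hx))]⟩
      · rintro ⟨z, hz, rfl⟩
        obtain ⟨x, hx, rfl⟩ := exists_preimage (α := θT) (P' := P') (hPQ.trans hQT) hz
        exact ⟨k x, hkm.mem_img.2 ⟨x, hx, rfl⟩, by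
          rw [he _ (hkT x (hPQ₁ hx)), hke x (hQ₁ (hPQ₁ hx)), he x (hQ₁T (hPQ₁ hx))]⟩
    rw [himg] at hem
    refine ⟨e, hem, fun y hy => ?_⟩
    obtain ⟨x, hx, rfl⟩ := exists_preimage (α := θT) (P' := P') (hPQ.trans hQT) hy
    have hlx := hlQ x hx
    have h1 : g' (ext1 θT x) = ext1 θT (k x) := by
      rw [he x (hQ₁T (hPQ₁ hx)), ← hke x (hQ₁ (hPQ₁ hx)), he _ (hkT x (hPQ₁ hx))]
    rw [h1, hee _ (hkm.mem_img.2 ⟨x, hx, rfl⟩), hme x hx, he _ (hkT _ hlx), hke _ (hQ₁ hlx),
      ← hle x hx, he _ (hQ₁T hlx)]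
  have hwn : E'.IsWeaklyNormalIn F' p := ⟨isSaturated_of_isFactorSystem hTp hE.1.1 hW hE', hF's,
    (isInvariantIn_iff_strongInv hS' hF's hsub' hclosed).2 hinv⟩
  obtain ⟨D, hD⟩ := Cfsg.Agent.S5140.result p (hS'.to_le le_top) E' hwn.1
  rcases hsimp _ D (Cfsg.Agent.S5141.result p hS' F' hF's E' hwn D hD) with hb | ⟨htop, -⟩
  · intro x hx
    have h1 : ext1 θT x ∈ T' := ⟨⟨x, hx⟩, (ext1_apply θT hx).symm⟩
    rw [hb, Subgroup.mem_bot, he x hx, ext1_apply θ (hTS hx), hker] at h1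
    exact h1
  · exfalso
    have hgen : S ≤ T ⊔ Z := fun s hs => by
      obtain ⟨t, ht⟩ := htop.ge (Subgroup.mem_top (θ ⟨s, hs⟩))
      have h1 : θ ((Subgroup.inclusion hTS t)⁻¹ * ⟨s, hs⟩) = 1 := by
        rw [map_mul, map_inv, ← ht, hθT, MonoidHom.comp_apply, inv_mul_cancel]
      have h2 := (hker _).1 h1
      have h3 := mul_mem (Subgroup.mem_sup_left (T := Z) t.2) (Subgroup.mem_sup_right (S := T) h2)
      simpa using h3
    have habs : Absorbs F p T := ⟨hTS, (le_normalizerIn_of_stronglyClosed hT).trans inf_le_right,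
      fun R hR α hα x hx => by
        obtain ⟨g, hg, hgα, hgZ⟩ := (isCentral_iff.1 (isCentral_center (F := F))).2 R _
          ((mem_autGroup_iff hR).1 α.2)
        have hcz : Z ≤ Subgroup.centralizer (T : Set Ω) :=
          F.center_le_centralizer.trans (Subgroup.centralizer_le hTS)
        obtain ⟨t, ht, z, hz, rfl⟩ := mem_base hcz (hgen (hR hx))
        have hzR : z ∈ R ⊔ Z := Subgroup.mem_sup_right hz
        have htR : t ∈ R ⊔ Z := by
          simpa using mul_mem (Subgroup.mem_sup_left (T := Z) hx) (inv_mem hzR)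
        rw [← hgα _ hx, hg.map_mul htR hzR, hgZ z hz]
        have h1 : t⁻¹ * g t ∈ T := mul_mem (inv_mem ht) (cl_mem hT hg htR ht)
        have h2 := Subgroup.mem_centralizer_iff.1 (hcz hz) _ h1
        rw [show (t * z)⁻¹ * (g t * z) = z⁻¹ * (t⁻¹ * g t * z) by group, h2,
          inv_mul_cancel_left]
        exact h1⟩
    exact hST (hhyp.ge.trans (hyperfocal_le habs))

omit [Finite S] [Fact p.Prime] in
/-- A component outside a normal subsystem commutes with it. -/
theorem comp_commute {C : FusionSystem V} (hC : C.IsSubnormalIn F p) :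
    Fact p.Prime → Finite S → IsPGroup p S → F.IsSaturated p → C.Quasisimple p →
      ∀ (T : Subgroup Ω) (E : FusionSystem T), E.IsNormalIn F p → ¬ V ≤ T →
        V ≤ centralizerIn S T ∧ ∀ (P : Subgroup Ω) (f : Ω → Ω), IsMap C P f → FixExt F T P f := by
  induction hC with
  | @refl F p =>
    intro _ _ hS _ hq T E hE hVT
    have hTZ := le_center_of_quasisimple hS hq hE hVT
    refine ⟨fun x hx => ⟨hx, Subgroup.mem_centralizer_iff.2 fun t ht =>
      (Subgroup.mem_centralizer_iff.1 (F.center_le_centralizer (hTZ ht)) x hx).symm⟩,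
      fun P f hf => ?_⟩
    obtain ⟨g, hg, hgf, hgc⟩ := (isCentral_iff.1 (isCentral_center (F := F))).2 P f hf
    exact ⟨g, hg.mono (sup_le_sup_left hTZ P), hgf, fun t ht => hgc t (hTZ ht)⟩
  | @step U S C M F p hCM hMF ih =>
    intro _ _ hS hF hq T E hE hVT
    obtain ⟨M', hM'F, hM'M, -⟩ := exists_meet hS hF hMF hE
    have hUS := normal_le hMF
    have hVU := subnormal_le hCM
    have hVS := hVU.trans hUS
    haveI := finite_of_le hUS
    haveI := finite_of_le hVS
    have hT : F.StronglyClosed T := hE.1.2.2.2.1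
    have hTS := hT.1
    have hU' : F.StronglyClosed (U ⊓ T) := hM'F.1.2.2.2.1
    obtain ⟨hVc, hfix⟩ := ih ‹_› ‹_› (hS.to_le hUS) hMF.1.1 hq _ M' hM'M
      fun hle => hVT (hle.trans inf_le_right)
    have hsM := Side.of_weaklyNormal hS hMF.1
    have h : Setup F p M M U := ⟨hS, hF, hsM, hsM, inf_idem U⟩
    have hCF : C.IsSubsystemOf F := fun P φ hφ =>
      hMF.1.2.2.1 P (Components.subnormal_isSubsystemOf hCM P hφ)
    obtain ⟨n, hn⟩ := IsPGroup.iff_card.1 hS
    -- automorphisms of order prime to `p`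
    have key : ∀ X ≤ V, ∀ β : C.autGroup X, (orderOf β).Coprime p →
        FixExt F T X (autFun (β : MulAut X)) := by
      intro X hX β hβ
      obtain ⟨g, hg, hgβ, hgT⟩ := hfix X _ ((mem_autGroup_iff hX).1 β.2)
      have hXU := hX.trans hVU
      have hYU : X ⊔ U ⊓ T ≤ U := sup_le hXU inf_le_left
      have hgi : img (X ⊔ U ⊓ T) g = X ⊔ U ⊓ T := img_eq_of_map_le hYU hg le_rfl fun z hz =>
        hg.map_mem_of_sup (fun x hx => Subgroup.mem_sup_left (by rw [hgβ x hx]; exact autFun_mem _ hx))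
          (fun x hx => Subgroup.mem_sup_right (by rw [hgT x hx]; exact hx)) hz
      haveI := finite_of_le hYU
      haveI := finite_mulAut (P := X ⊔ U ⊓ T)
      set G := autOf hg hgi with hG
      obtain ⟨e, he⟩ := Components.exists_coprime_pow (p := p) G
      obtain ⟨m, hm⟩ := Components.exists_pow_pow_eq hβ e
      set γ := (G ^ p ^ e) ^ m with hγ
      have hγX : ∀ x ∈ X, autFun γ x = autFun (β : MulAut X) x := fun x hx => by
        rw [hγ, ← pow_mul, autFun_pow_eq le_sup_left (α := (β : MulAut X))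
          (fun y hy => by rw [hG, autFun_autOf hg hgi (Subgroup.mem_sup_left hy), hgβ y hy]) _ x hx,
          pow_mul, ← Subgroup.coe_pow, ← Subgroup.coe_pow, hm]
      have hγT : ∀ z ∈ U ⊓ T, autFun γ z = z := fun z hz => by
        have hzY : z ∈ X ⊔ U ⊓ T := Subgroup.mem_sup_right hz
        have h1 : autFun G z = z := by rw [hG, autFun_autOf hg hgi hzY, hgT z hz]
        have h2 : ∀ i : ℕ, autFun (G ^ i) z = z := fun i => by
          induction i with
          | zero => rw [pow_zero, autFun_one hzY]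
          | succ j ihj => rw [pow_succ', autFun_mul _ _ hzY, ihj, h1]
        rw [hγ, ← pow_mul]
        exact h2 _
      have hTN : T ≤ normalizerIn S (X ⊔ U ⊓ T) := fun t ht => ⟨hTS ht, by
        have hcl : ∀ t ∈ T, ∀ y ∈ X ⊔ U ⊓ T, t * y * t⁻¹ ∈ X ⊔ U ⊓ T := by
          intro t ht y hy
          refine (isMap_conj (F := F) (sup_le (hX.trans hVS) hU'.1) (hTS ht)).map_mem_of_sup
            (fun x hx => ?_) (fun z hz => Subgroup.mem_sup_right
              (Components.conj_mem_of_stronglyClosed hU' (hTS ht) hz)) hy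
          have hxS := hVS (hX hx)
          have h1 : x⁻¹ * (t * x * t⁻¹) ∈ U ⊓ T := ⟨U.mul_mem (U.inv_mem (hXU hx))
            ((Subgroup.mem_normalizer_iff.1 (h.normal (hTS ht)) x).1 (hXU hx)), by
              rw [show x⁻¹ * (t * x * t⁻¹) = x⁻¹ * t * x⁻¹⁻¹ * t⁻¹ by group]
              exact T.mul_mem (Components.conj_mem_of_stronglyClosed hT (S.inv_mem hxS) ht)
                (T.inv_mem ht)⟩
          rw [show t * x * t⁻¹ = x * (x⁻¹ * (t * x * t⁻¹)) by group]
          exact mul_mem (Subgroup.mem_sup_left hx) (Subgroup.mem_sup_right h1)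
        refine Subgroup.mem_normalizer_iff.2 fun y => ⟨hcl t ht y, fun hy => ?_⟩
        simpa [mul_assoc] using hcl t⁻¹ (T.inv_mem ht) _ hy⟩
      exact ((fixExt_of_fix h hT hMF hYU le_sup_right hTN
        (pow_mem (pow_mem (autOf_mem hg hgi) _) _)
        (Nat.Coprime.coprime_dvd_left (orderOf_pow_dvd _) he) hγT).mono le_sup_left).congr
        fun x hx => (hγX x hx).symm
    -- `V` centralizes `T`
    have hVT' : V ≤ centralizerIn S T := by
      have habs : Absorbs C p (V ⊓ Subgroup.centralizer (T : Set Ω)) := by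
        have hn' : ∀ s ∈ V, ∀ y ∈ V ⊓ Subgroup.centralizer (T : Set Ω),
            s * y * s⁻¹ ∈ V ⊓ Subgroup.centralizer (T : Set Ω) := fun s hs y hy => by
          refine ⟨V.mul_mem (V.mul_mem hs hy.1) (V.inv_mem hs),
            Subgroup.mem_centralizer_iff.2 fun q hq => ?_⟩
          have h1 : s⁻¹ * q * s ∈ T := by
            have := Components.conj_mem_of_stronglyClosed hT (inv_mem (hVS hs)) hq
            rwa [inv_inv] at this
          have h2 := Subgroup.mem_centralizer_iff.1 hy.2 _ h1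
          calc q * (s * y * s⁻¹) = s * (s⁻¹ * q * s * y) * s⁻¹ := by group
            _ = s * y * s⁻¹ * q := by rw [h2]; group
        refine ⟨inf_le_left, fun s hs => Subgroup.mem_normalizer_iff.2 fun y =>
          ⟨hn' s hs y, fun hy => ?_⟩, fun X hX β hβ x hx => ?_⟩
        · have h1 := hn' s⁻¹ (inv_mem hs) _ hy
          simpa [mul_assoc] using h1
        obtain ⟨g, hg, hgβ, hgQ⟩ := key X hX β hβ
        refine ⟨V.mul_mem (V.inv_mem (hX hx)) (hX (autFun_mem _ hx)),
          Subgroup.mem_centralizer_iff.2 fun q hq => ?_⟩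
        have hq' : x * q * x⁻¹ ∈ T := Components.conj_mem_of_stronglyClosed hT (hVS (hX hx)) hq
        have h1 := hgQ _ hq'
        rw [hg.map_conj (Subgroup.mem_sup_left hx) (Subgroup.mem_sup_right hq), hgQ q hq,
          hgβ x hx] at h1
        calc q * (x⁻¹ * autFun (β : MulAut X) x)
            = x⁻¹ * (x * q * x⁻¹) * autFun (β : MulAut X) x := by group
          _ = _ := by rw [← h1]; group
      have h1 := hyperfocal_le habs
      rw [hq.2.1] at h1
      exact fun v hv => ⟨hVS hv, (h1 hv).2⟩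
    refine ⟨hVT', fun P f hf => ?_⟩
    have hkey : IsMap (cSystem F V T hVT' hTS) P f := by
      refine isMap_of_autGroup_le (hS.to_le hVS) hq.1 (fun R hR α hα => ?_) hf
      have hRn : C.IsFullyNormalized R := by
        rcases hR with rfl | hR
        · exact isFullyNormalized_self
        · exact hR.2.1
      obtain ⟨s, hs, β, hβ, he⟩ := exists_conj_mul_residual
        (IsSaturated.automized_receptive (hS.to_le hVS) hq.1 hRn).1 ⟨α, hα⟩
      have hres : (β : MulAut R) ∈ (cSystem F V T hVT' hTS).autGroup R := by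
        refine Subgroup.mem_comap.1 ((Subgroup.closure_le
          (((cSystem F V T hVT' hTS).autGroup R).comap (C.autGroup R).subtype)).2
            (fun b hb => ?_) hβ)
        obtain ⟨g, hg, hgb, hgQ⟩ := key R hRn.1 b hb
        exact (mem_autGroup_iff hRn.1).2 (isMap_cSystem_iff.2
          ⟨hRn.1, fun x hx => hRn.1 (autFun_mem _ hx), g, hg, hgb, hgQ⟩)
      have h2 : conjAut s hs.2 * (β : MulAut R) ∈ (cSystem F V T hVT' hTS).autGroup R :=
        mul_mem (autInducedBy_le_autGroup hRn.1 (conjAut_mem hs.1 hs.2)) hres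
      rwa [show α = conjAut s hs.2 * (β : MulAut R) from autFun_ext fun z hz => by
        rw [show autFun α z = _ from he z hz, autFun_mul _ _ hz,
          autFun_conjAut hs.2 (autFun_mem _ hz)]]
    exact (isMap_cSystem_iff.1 hkey).2.2

end CfsgLib.Fusion.Meet
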