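import Cfsg.Agent.Lib.Fusion.System.Meet.Frattini

/-!
# Coherence of labels

A labelled identity of a self-centralizing, fully centralized subgroup extends, after correction
by an element of its centralizer, to its normalizer in `T`.
-/

set_option autoImplicit false
set_option maxHeartbeats 1000000
set_option linter.style.haveILetI false
set_option linter.unusedSectionVars false

open Subgroup
open scoped Classical Pointwise

namespace CfsgLib.Fusion.Meet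

open Cfsg (FusionSystem autInducedBy)
open Cfsg.FusionSystem (normalizerIn centralizerIn)
open CfsgLib.Fusion CfsgLib.Fusion.CentLift

universe u

variable {Ω : Type u} [Group Ω] {S T T₁ T₂ : Subgroup Ω} {F : FusionSystem S} {p : ℕ}
  {E₁ : FusionSystem T₁} {E₂ : FusionSystem T₂} {P Q R X : Subgroup Ω} {f g : Ω → Ω}
  {γ δ : MulAut T} [Finite S] [Fact p.Prime] (h : Setup F p E₁ E₂ T)
include h

theorem nu_inv {s : Ω} (hs : s ∈ S) : nu h s⁻¹ = (nu h s)⁻¹ :=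
  eq_inv_of_mul_eq_one_left (by rw [← nu_mul h (inv_mem hs) hs, inv_mul_cancel, nu_one h])

theorem Lab.mem_normalizer (hl : Lab F E₁ E₂ T p X g γ) (hQX : Q ≤ X) (hQS : Q ≤ S)
    (hgQ : ∀ q ∈ Q, g q ∈ Q) {x : Ω} (hx : x ∈ X) (hn : x ∈ Subgroup.normalizer (Q : Set Ω)) :
    g x ∈ normalizerIn T Q := by
  have h1 := map_mem_normalizerIn (hl.isMap h) hQX hx hn
  rw [img_eq_of_map_le hQS (hl.isMap h) hQX hgQ] at h1
  exact ⟨hl.mem h hx, h1.2⟩

/-- `a` on `Q` is a labelled map of `N_T(Q)` after a local automorphism. -/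
def OLab (M : LModel F p Q) (hQT : Q ≤ T) (a : Ω → Ω) (γ : MulAut T) : Prop :=
  ∃ k ∈ M.mGroup h hQT, ∃ g, Lab F E₁ E₂ T p (normalizerIn T Q) g γ ∧ (∀ q ∈ Q, g q ∈ Q) ∧
    ∀ q ∈ Q, a q = g (autFun k q)

variable (M : LModel F p Q) (hQ : F.IsFullyNormalized Q) (hQT : Q ≤ T)
include hQ

theorem OLab.congr {a b : Ω → Ω} (ha : OLab h M hQT a γ) (he : ∀ q ∈ Q, b q = a q) :
    OLab h M hQT b γ :=
  let ⟨k, hk, g, hg, hgQ, hge⟩ := ha
  ⟨k, hk, g, hg, hgQ, fun q hq => (he q hq).trans (hge q hq)⟩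

theorem OLab.of_mGroup {k : MulAut Q} (hk : k ∈ M.mGroup h hQT) :
    OLab h M hQT (autFun k) 1 :=
  ⟨k, hk, id, Lab.id' h inf_le_left, fun _ hq => hq, fun _ _ => rfl⟩

theorem OLab.comp {a b : Ω → Ω} (ha : OLab h M hQT a γ) (hb : OLab h M hQT b δ) :
    OLab h M hQT (b ∘ a) (δ * γ) := by
  obtain ⟨k, hk, g, hg, hgQ, hge⟩ := ha
  obtain ⟨k', hk', g', hg', hg'Q, hge'⟩ := hb
  have hQN : Q ≤ normalizerIn T Q := le_normalizerIn hQT
  have hgm := (hg.isMap h).mono hQN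
  have hi := img_eq_of_map_le hQ.1 hgm le_rfl hgQ
  set g0 := autOf hgm hi with hg0
  have hg0F : g0 ∈ F.autGroup Q := autOf_mem hgm hi
  have hk2 : g0⁻¹ * k' * g0 * k ∈ M.mGroup h hQT := by
    refine mul_mem ?_ hk
    have := M.conj_mem_mGroup h hQ hQT (inv_mem hg0F) hk'
    rwa [inv_inv] at this
  refine ⟨_, hk2, g' ∘ g, hg.comp hg' fun x hx => hg.mem_normalizer h hQN hQ.1 hgQ hx hx.2,
    fun q hq => hg'Q _ (hgQ q hq), fun q hq => ?_⟩
  have hkq := autFun_mem k hq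
  show b (a q) = g' (g (autFun (g0⁻¹ * k' * g0 * k) q))
  rw [hge q hq, hge' _ (hgQ _ hkq), autFun_mul _ _ hq, autFun_mul _ _ hkq,
    autFun_mul _ _ (autFun_mem g0 hkq), hg0,
    ← autFun_autOf hgm hi (autFun_mem _ (autFun_mem _ (autFun_mem _ hkq))),
    PPrime.autFun_symm' (autFun_mem _ (autFun_mem _ hkq)), autFun_autOf hgm hi hkq]

theorem OLab.inverse {a b : Ω → Ω} (ha : OLab h M hQT a γ) (hb : ∀ q ∈ Q, b (a q) = q) :
    OLab h M hQT b γ⁻¹ := by
  obtain ⟨k, hk, g, hg, hgQ, hge⟩ := ha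
  have hQN : Q ≤ normalizerIn T Q := le_normalizerIn hQT
  have hgm := (hg.isMap h).mono hQN
  have hi := img_eq_of_map_le hQ.1 hgm le_rfl hgQ
  obtain ⟨gi, hgi, h1, -⟩ := hg.exists_inv h
  have hNi : img (normalizerIn T Q) g = normalizerIn T Q := img_eq_of_map_le
    ((inf_le_left : normalizerIn T Q ≤ T).trans h.hTS) (hg.isMap h) le_rfl
    fun x hx => hg.mem_normalizer h hQN hQ.1 hgQ hx hx.2
  rw [hNi] at hgi
  set g0 := autOf hgm hi with hg0
  have hv : ∀ q ∈ Q, gi q = autFun g0⁻¹ q := fun q hq => by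
    have h2 := autFun_autOf hgm hi (autFun_mem g0⁻¹ hq)
    rw [← hg0, PPrime.autFun_symm' hq] at h2
    conv_lhs => rw [h2]
    exact h1 _ (hQN (autFun_mem g0⁻¹ hq))
  refine ⟨g0 * k⁻¹ * g0⁻¹, M.conj_mem_mGroup h hQ hQT (autOf_mem hgm hi) (inv_mem hk), gi, hgi,
    fun q hq => (hv q hq).symm ▸ autFun_mem _ hq, fun q hq => ?_⟩
  rw [hv _ (autFun_mem _ hq), ← autFun_mul _ _ hq,
    show g0⁻¹ * (g0 * k⁻¹ * g0⁻¹) = k⁻¹ * g0⁻¹ by group]
  have h3 := hge _ (autFun_mem (k⁻¹ * g0⁻¹) hq)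
  rw [← autFun_mul _ _ hq, show k * (k⁻¹ * g0⁻¹) = g0⁻¹ by group,
    ← autFun_autOf hgm hi (autFun_mem g0⁻¹ hq), ← hg0, PPrime.autFun_symm' hq] at h3
  have h4 := hb _ (autFun_mem (k⁻¹ * g0⁻¹) hq)
  rwa [h3] at h4

omit hQ

/-- The coherence property of `X`. -/
def Coh (X : Subgroup Ω) : Prop :=
  ∀ γ, Lab F E₁ E₂ T p X id γ →
    ∃ s ∈ centralizerIn S X, Lab F E₁ E₂ T p (normalizerIn T X) id ((nu h s)⁻¹ * γ)

variable (hQs : SelfC F T Q)
  (hC : ∀ Z, SelfC F T Z → F.IsFullyCentralized Z → Nat.card Q < Nat.card Z → Coh h Z)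
include hQ hQs hC

theorem lift (hQX : Q < X) (hX : X ≤ normalizerIn T Q) (hl : Lab F E₁ E₂ T p X id γ) :
    ∃ s ∈ centralizerIn S Q, Lab F E₁ E₂ T p (normalizerIn T Q) id ((nu h s)⁻¹ * γ) := by
  have hNS : normalizerIn T Q ≤ S := inf_le_left.trans h.hTS
  induction hk : Nat.card (normalizerIn T Q) - Nat.card X using Nat.strong_induction_on
    generalizing X γ with
  | _ n ih =>
  subst hk
  by_cases he : X = normalizerIn T Q
  · subst he
    exact ⟨1, one_mem _, by rwa [nu_one h, inv_one, one_mul]⟩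
  obtain ⟨s, hs, hl'⟩ := hC X (hQs.mono hQX.le (hX.trans inf_le_left))
    (isFullyCentralized_over h.pgroup h.sat h.closed hQ hQs hQX.le hX)
    (card_lt_of_lt (hX.trans hNS) hQX) γ hl
  haveI := finite_of_le hNS
  have hlt : X < normalizerIn (normalizerIn T Q) X := lt_normalizerIn (h.pgroup.to_le hNS) hX he
  have hc : Nat.card X < Nat.card (normalizerIn (normalizerIn T Q) X) :=
    card_lt_of_lt (inf_le_left.trans hNS) hlt
  have hle : Nat.card (normalizerIn (normalizerIn T Q) X) ≤ Nat.card (normalizerIn T Q) :=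
    card_le_of_le' hNS inf_le_left
  obtain ⟨s', hs', hl''⟩ := ih (Nat.card (normalizerIn T Q) -
    Nat.card (normalizerIn (normalizerIn T Q) X)) (by omega) (hQX.trans hlt) inf_le_left
    (hl'.mono (inf_le_inf_right _ inf_le_left)) rfl
  refine ⟨s * s', mul_mem ⟨hs.1, Subgroup.centralizer_le hQX.le hs.2⟩ hs', ?_⟩
  rwa [nu_mul h hs.1 hs'.1, mul_inv_rev, mul_assoc]

theorem compat (hQX : Q < X) (hX : X ≤ normalizerIn T Q) {e : Ω → Ω}
    (he : Lab F E₁ E₂ T p X e γ) (heQ : ∀ q ∈ Q, e q ∈ Q) : OLab h M hQT e γ := by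
  have hQN : Q ≤ normalizerIn T Q := le_normalizerIn hQT
  have hem := (he.isMap h).mono hQX.le
  have hei := img_eq_of_map_le hQ.1 hem le_rfl heQ
  obtain ⟨k, hk, b, hb, hbQ, hbN, hbe⟩ := exists_factor h M hQ hQs (autOf_mem hem hei)
  have hek : ∀ q ∈ Q, e q = b (autFun k q) := fun q hq =>
    (autFun_autOf hem hei hq).symm.trans (hbe q hq)
  obtain ⟨μ, hμ⟩ := exists_lab h hb inf_le_left
  obtain ⟨bi, hbi, hbi1, hbi2⟩ := hμ.exists_inv h
  have hbN' : img (normalizerIn T Q) b = normalizerIn T Q :=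
    img_eq_of_map_le (inf_le_left.trans h.hTS) hb le_rfl hbN
  rw [hbN'] at hbi hbi2
  have heN : ∀ x ∈ X, e x ∈ normalizerIn T Q := fun x hx =>
    he.mem_normalizer h hQX.le hQ.1 heQ hx (hX hx).2
  have hbie : ∀ q ∈ Q, bi (e q) = autFun k q := fun q hq => by
    rw [hek q hq, hbi1 _ (hQN (autFun_mem k hq))]
  have hl1 := he.comp hbi heN
  have hl1m := hl1.isMap h
  have hky : ∀ x ∈ X, ∀ q ∈ Q,
      autFun k (x * q * x⁻¹) = bi (e x) * autFun k q * (bi (e x))⁻¹ := fun x hx q hq => by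
    have hq' : x * q * x⁻¹ ∈ Q := (Subgroup.mem_normalizer_iff.1 (hX hx).2 q).1 hq
    rw [← hbie _ hq', ← hbie q hq]
    exact hl1m.map_conj hx (hQX.le hq)
  obtain ⟨e1, he1, he1Q⟩ := M.exists_lab_ext h hQ hQs hk hQX.le hX
    fun x hx => ⟨bi (e x), hl1.mem h hx, hky x hx⟩
  obtain ⟨e1i, he1i, h11, h12⟩ := he1.exists_inv h
  have he1m := he1.isMap h
  have hkQ : Q ≤ img X e1 := fun q hq => he1m.mem_img.2 ⟨_, hQX.le (autFun_mem k⁻¹ hq),
    by rw [he1Q _ (autFun_mem k⁻¹ hq), PPrime.autFun_symm' hq]⟩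
  have hin : ∀ x ∈ X, bi (e x) ∈ img X e1 := fun x hx => by
    have hz : (e1 x)⁻¹ * bi (e x) ∈ centralizerIn T Q := by
      refine ⟨T.mul_mem (T.inv_mem (he1.mem h hx)) (hl1.mem h hx),
        Subgroup.mem_centralizer_iff.2 fun y hy => ?_⟩
      have hq := autFun_mem k⁻¹ hy
      have hy' : y = autFun k (autFun k⁻¹ y) := (PPrime.autFun_symm' hy).symm
      have hq' : x * autFun k⁻¹ y * x⁻¹ ∈ Q := (Subgroup.mem_normalizer_iff.1 (hX hx).2 _).1 hq
      have h1 := he1m.map_conj hx (hQX.le hq)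
      rw [he1Q _ hq', he1Q _ hq, hky x hx _ hq, ← hy'] at h1
      calc y * ((e1 x)⁻¹ * bi (e x)) = (e1 x)⁻¹ * (e1 x * y * (e1 x)⁻¹) * bi (e x) := by group
        _ = (e1 x)⁻¹ * bi (e x) * y := by rw [← h1]; group
    have h2 := mul_mem (he1m.mem_img.2 ⟨x, hx, rfl⟩) (hkQ (hQs.cent h.hTS hz))
    rwa [mul_inv_cancel_left] at h2
  have hδ := hl1.comp he1i hin
  rw [inv_one, one_mul] at hδ
  set d := e1i ∘ (bi ∘ e) with hd
  have hdX : ∀ x ∈ X, d x ∈ X := fun x hx => (h12 _ (hin x hx)).1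
  have hdQ : ∀ q ∈ Q, d q = q := fun q hq => by
    show e1i (bi (e q)) = q
    rw [hbie q hq, ← he1Q q hq, h11 _ (hQX.le hq)]
  have hdi : img X d = X :=
    img_eq_of_map_le (hX.trans (inf_le_left.trans h.hTS)) (hδ.isMap h) le_rfl hdX
  obtain ⟨s, hs, hse⟩ := exists_conj_of_fix h.pgroup h.sat h.closed hQ hQs hQX.le hX
    (autOf_mem (hδ.isMap h) hdi) fun q hq => (autFun_autOf _ hdi (hQX.le hq)).trans (hdQ q hq)
  have hid : Lab F E₁ E₂ T p X id (nu h s⁻¹ * (μ⁻¹ * γ)) :=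
    (hδ.comp (Lab.of_conj h (inv_mem hs.1) (hX.trans inf_le_left)) hdX).congr fun x hx => by
      show x = s⁻¹ * d x * s⁻¹⁻¹
      rw [← autFun_autOf (hδ.isMap h) hdi hx, hse x hx]
      group
  obtain ⟨s', hs', hl2⟩ := lift h hQ hQs hC hQX hX hid
  have hw : s * s' ∈ centralizerIn S Q := mul_mem hs hs'
  have hconjN : ∀ y ∈ normalizerIn T Q, s * s' * y * (s * s')⁻¹ ∈ normalizerIn T Q := fun y hy =>
    (Subgroup.mem_normalizer_iff.1
      (conj_cent_mem h.pgroup h.sat h.closed hQ hQs hQN le_rfl hw) y).1 hy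
  have hg := ((hl2.comp (Lab.of_conj h hw.1 inf_le_left) fun y hy => hy).comp hμ hconjN)
  have hlab : μ * (nu h (s * s') * ((nu h s')⁻¹ * (nu h s⁻¹ * (μ⁻¹ * γ)))) = γ := by
    rw [nu_inv h hs.1, nu_mul h hs.1 hs'.1]; group
  rw [hlab] at hg
  refine ⟨k, hk, _, hg, fun q hq => ?_, fun q hq => ?_⟩
  · show b (s * s' * q * (s * s')⁻¹) ∈ Q
    rw [← Subgroup.mem_centralizer_iff.1 hw.2 q hq, mul_inv_cancel_right]
    exact hbQ q hq
  · show e q = b (s * s' * autFun k q * (s * s')⁻¹)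
    rw [← Subgroup.mem_centralizer_iff.1 hw.2 _ (autFun_mem k hq), mul_inv_cancel_right]
    exact hek q hq

omit hQs hC

/-- Labelled maps between normalized conjugates. -/
def Nrm (R : Subgroup Ω) (f : Ω → Ω) (γ : MulAut T) : Prop :=
  ∀ φ φ' c c', Lab F E₁ E₂ T p (normalizerIn T R) φ c →
    Lab F E₁ E₂ T p (normalizerIn T (img R f)) φ' c' → img R φ = Q → img (img R f) φ' = Q →
      ∃ a, OLab h M hQT a (c' * γ * c⁻¹) ∧ ∀ x ∈ R, a (φ x) = φ' (f x)

include hQs hC in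
theorem nrm_of_lt (hl : Lab F E₁ E₂ T p P f γ) (hR : R < P) (hRs : SelfC F T R) :
    Nrm h M hQT R f γ := by
  intro φ φ' c c' hφ hφ' hφQ hφ'Q
  have hPT := hl.le h
  set Y := normalizerIn P R with hYdef
  have hPp : IsPGroup p P := h.pgroup.to_le (hPT.trans h.hTS)
  haveI := finite_of_le (hPT.trans h.hTS)
  have hRY : R < Y := lt_normalizerIn hPp hR.le hR.ne
  have hYT : Y ≤ normalizerIn T R := inf_le_inf_right _ hPT
  have hRN : R ≤ normalizerIn T R := le_normalizerIn hRs.le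
  obtain ⟨φi, hφi, hi1, hi2⟩ := (hφ.mono hYT).exists_inv h
  have hfm := hl.isMap h
  have hfY : ∀ y ∈ Y, f y ∈ normalizerIn T (img R f) := fun y hy =>
    ⟨hl.mem h hy.1, (map_mem_normalizerIn hfm hR.le hy.1 hy.2).2⟩
  have hm : ∀ z ∈ img Y φ, φi z ∈ P := fun z hz => (hi2 z hz).1.1
  have he := (hφi.comp hl hm).comp hφ' fun z hz => hfY _ (hi2 z hz).1
  have hφm := (hφ.isMap h).mono hYT
  have hfR : ∀ x ∈ R, f x ∈ img R f := fun x hx => (hfm.mono hR.le).mem_img.2 ⟨x, hx, rfl⟩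
  have hφ'm := (hφ'.isMap h).mono (le_normalizerIn (S := T) ((hfm.mono hR.le).img_le_of_forall
    fun x hx => hl.mem h (hR.le hx)))
  have hQY : Q ≤ img Y φ := hφQ ▸ hφm.img_mono hRY.le
  have hlt : Q < img Y φ := by
    refine lt_of_le_of_ne hQY fun e => ?_
    have h1 : Nat.card R < Nat.card Y := card_lt_of_lt (inf_le_left.trans (hPT.trans h.hTS)) hRY
    rw [← hφm.card_img, ← e, ← hφQ, ((hφ.isMap h).mono hRN).card_img] at h1
    exact lt_irrefl _ h1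
  have hYN : img Y φ ≤ normalizerIn T Q := hφm.img_le_of_forall fun y hy =>
    ⟨hφ.mem h (hYT hy), hφQ ▸ (map_mem_normalizerIn (hφ.isMap h) hRN (hYT hy) hy.2).2⟩
  have hval : ∀ x ∈ R, (φ' ∘ (f ∘ φi)) (φ x) = φ' (f x) := fun x hx => by
    show φ' (f (φi (φ x))) = _
    rw [hi1 x (hRY.le hx)]
  have heQ : ∀ q ∈ Q, (φ' ∘ (f ∘ φi)) q ∈ Q := fun q hq => by
    obtain ⟨x, hx, rfl⟩ := ((hφ.isMap h).mono hRN).mem_img.1 (hφQ.ge hq)
    rw [hval x hx]
    exact hφ'Q.le (hφ'm.mem_img.2 ⟨f x, hfR x hx, rfl⟩)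
  refine ⟨_, compat h M hQ hQT hQs hC hlt hYN (γ := c' * γ * c⁻¹) ?_ heQ, hval⟩
  rwa [← mul_assoc] at he

include hQs hC in
theorem nrm (hQne : Q ≠ T) (hl : Lab F E₁ E₂ T p P f γ) :
    ∀ R ≤ P, SelfC F T R → F.IsConj R Q → Nrm h M hQT R f γ := by
  have hneT : ∀ {R : Subgroup Ω}, SelfC F T R → F.IsConj R Q → R ≠ T := fun {R} hRs hc e => by
    subst e
    exact hQne (eq_of_le_of_card_le h.hTS hQT (isConj_card hc).ge)
  induction hl with
  | top hα =>
    exact fun R hR hRs hc =>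
      nrm_of_lt h M hQ hQT hQs hC (Lab.top hα) (lt_of_le_of_ne hR (hneT hRs hc)) hRs
  | inner ht =>
    exact fun R hR hRs hc =>
      nrm_of_lt h M hQ hQT hQs hC (Lab.inner ht) (lt_of_le_of_ne hR (hneT hRs hc)) hRs
  | @good P a hs hPc hgd hco =>
    intro R hR hRs hc
    rcases lt_or_eq_of_le hR with hlt | rfl
    · exact nrm_of_lt h M hQ hQT hQs hC (Lab.good hs hPc hgd hco) hlt hRs
    intro φ φ' c c' hφ hφ' hφQ hφ'Q
    have hRS : R ≤ S := hs.le.trans h.hTS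
    have hRN : R ≤ normalizerIn T R := le_normalizerIn hs.le
    have ham := ((mem_autGroup_iff (base_le hRS)).1 hgd.1.1).mono (le_sup_left : R ≤ base S R)
    have hai : img R (autFun a) = R := img_eq_of_map_le hRS ham le_rfl
      fun x hx => stab_mem hgd.1 hx
    rw [hai] at hφ' hφ'Q
    obtain ⟨φi, hφi, hi1, hi2⟩ := hφ.exists_inv h
    have hφm := hφ.isMap h
    set X' := img (normalizerIn T R) φ with hX'
    have hQX' : Q < X' := by
      refine lt_of_le_of_ne (hφQ ▸ hφm.img_mono hRN) fun e => ?_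
      have h1 : Nat.card R < Nat.card (normalizerIn T R) :=
        card_lt_of_lt ((inf_le_left : normalizerIn T R ≤ T).trans h.hTS)
          (lt_normalizerIn_T h hs.le (hneT hs hc))
      rw [← (hφm.mono hRN).card_img, hφQ] at h1
      have h2 : Nat.card X' = Nat.card (normalizerIn T R) := hφm.card_img
      rw [← e] at h2
      omega
    have hX'N : X' ≤ normalizerIn T Q := hφm.img_le_of_forall fun y hy =>
      ⟨hφ.mem h hy, hφQ ▸ (map_mem_normalizerIn hφm hRN hy hy.2).2⟩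
    have he0 := hφi.comp hφ' fun z hz => (hi2 z hz).1
    have he0Q : ∀ q ∈ Q, (φ' ∘ φi) q ∈ Q := fun q hq => by
      obtain ⟨x, hx, rfl⟩ := (hφm.mono hRN).mem_img.1 (hφQ.ge hq)
      show φ' (φi (φ x)) ∈ Q
      rw [hi1 x (hRN hx)]
      exact hφ'Q.le (((hφ'.isMap h).mono hRN).mem_img.2 ⟨x, hx, rfl⟩)
    have ho0 := compat h M hQ hQT hQs hC hQX' hX'N he0 he0Q
    obtain ⟨g0, hg0, hg0e⟩ := exists_base_ext h.pgroup h.sat
      (IsSaturated.isFullyCentralized h.pgroup h.sat hQ) (hφm.mono hRN) hφQ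
    obtain ⟨a', ha', hae, hao⟩ := hgd.transport h hs.le hPc
      (IsSaturated.isFullyCentralized h.pgroup h.sat hQ) hg0 ((IsMap.img_congr hg0e).trans hφQ)
    haveI := M.fin
    obtain ⟨gg, hgg⟩ := M.exists_act_eq ha'.1
    obtain ⟨j, hj⟩ := Components.exists_coprime_pow (p := p) gg
    have hco' : (orderOf a').Coprime p := Nat.Coprime.coprime_dvd_left hao hco
    obtain ⟨m, hm⟩ := Components.exists_pow_pow_eq hco' j
    have hgh : gg ^ (p ^ j * m) ∈ M.hSub h hQT := by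
      refine Subgroup.subset_closure (Or.inl ⟨?_, ?_⟩)
      · rw [M.mem_kSub, M.act_pow, hgg, pow_mul, hm]; exact ha'
      · rw [pow_mul]; exact Nat.Coprime.coprime_dvd_left (orderOf_pow_dvd m) hj
    have ho1 := OLab.of_mGroup h M hQ hQT (k := M.res (gg ^ (p ^ j * m))) ⟨_, hgh, rfl⟩
    refine ⟨(φ' ∘ φi) ∘ autFun (M.res (gg ^ (p ^ j * m))), ?_, fun x hx => ?_⟩
    · rw [show c' * 1 * c⁻¹ = c' * c⁻¹ * 1 by group]
      exact OLab.comp h M hQ hQT ho1 ho0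
    · have hgx : g0 x = φ x := hg0e x hx
      have hqm : φ x ∈ Q := hφQ.le ((hφm.mono hRN).mem_img.2 ⟨x, hx, rfl⟩)
      have hax := stab_mem hgd.1 hx
      show φ' (φi (autFun (M.res (gg ^ (p ^ j * m))) (φ x))) = _
      rw [M.autFun_res _ hqm, M.act_pow, hgg, pow_mul, hm, ← hgx,
        hae x (Subgroup.mem_sup_left hx), hg0e _ hax, hi1 _ (hRN hax)]
  | @mono P P' f γ _ hP' ih => exact fun R hR hRs hc => ih R (hR.trans hP') hRs hc
  | @congr P f g γ _ he ih =>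
    intro R hR hRs hc φ φ' c c' hφ hφ' hφQ hφ'Q
    rw [IsMap.img_congr fun x hx => he x (hR hx)] at hφ' hφ'Q
    obtain ⟨a, ha, hae⟩ := ih R hR hRs hc φ φ' c c' hφ hφ' hφQ hφ'Q
    exact ⟨a, ha, fun x hx => by rw [hae x hx, he x (hR hx)]⟩
  | @comp P P' f g γ δ hf hg hm ih1 ih2 =>
    intro R hR hRs hc φ φ' c c' hφ hφ' hφQ hφ'Q
    have hfR := (hf.isMap h).mono hR
    rw [← img_img hfR] at hφ' hφ'Q
    set R' := img R f with hR'
    have hR's : SelfC F T R' := hRs.map h.closed hfR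
    have hR'P : R' ≤ P' := hfR.img_le_of_forall fun x hx => hm x (hR hx)
    have hc' : F.IsConj R' Q := isConj_trans (isConj_symm (isConj_iff.2 ⟨f, hfR, rfl⟩)) hc
    obtain ⟨hau, hre⟩ := IsSaturated.automized_receptive h.pgroup h.sat hQ
    obtain ⟨ψ, hψ, hψQ, -⟩ := exists_map_normalizer h.pgroup hau hre hc'
    obtain ⟨cm, hcm⟩ := exists_lab h (hψ.mono (normalizerIn_T_le h)) inf_le_left
    obtain ⟨a, ha, hae⟩ := ih1 R hR hRs hc φ ψ c cm hφ hcm hφQ hψQ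
    obtain ⟨b, hb, hbe⟩ := ih2 R' hR'P hR's hc' ψ φ' cm c' hcm hφ' hψQ hφ'Q
    refine ⟨b ∘ a, ?_, fun x hx => ?_⟩
    · rw [show c' * (δ * γ) * c⁻¹ = c' * δ * cm⁻¹ * (cm * γ * c⁻¹) by group]
      exact OLab.comp h M hQ hQT ha hb
    · show b (a (φ x)) = _
      rw [hae x hx, hbe _ (hfR.mem_img.2 ⟨x, hx, rfl⟩)]
      rfl
  | @inv P f f' γ hf hf' he ih =>
    intro R hR hRs hc φ φ' c c' hφ hφ' hφQ hφ'Q
    have hf'R := hf'.mono hR
    set R' := img R f' with hR'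
    have hfm := hf.isMap h
    have hv : ∀ x ∈ R, f' x ∈ P ∧ f (f' x) = x := fun x hx => by
      obtain ⟨u, hu, rfl⟩ := hfm.mem_img.1 (hR hx)
      rw [he u hu]
      exact ⟨hu, rfl⟩
    have hR'P : R' ≤ P := hf'R.img_le_of_forall fun x hx => (hv x hx).1
    have hback : img R' f = R := by
      rw [hR', img_img hf'R]
      exact (IsMap.img_congr (g := id) fun x hx => (hv x hx).2).trans img_id
    obtain ⟨a, ha, hae⟩ := ih R' hR'P (hRs.map h.closed hf'R)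
      (isConj_trans (isConj_symm (isConj_iff.2 ⟨f', hf'R, rfl⟩)) hc) φ' φ c' c hφ'
      (by rw [hback]; exact hφ) hφ'Q (by rw [hback]; exact hφQ)
    obtain ⟨φi, hφi, hi1, -⟩ := hφ.exists_inv h
    refine ⟨φ' ∘ f' ∘ φi, ?_, fun x hx => ?_⟩
    · rw [show c' * γ⁻¹ * c⁻¹ = (c * γ * c'⁻¹)⁻¹ by group]
      refine OLab.inverse h M hQ hQT ha fun q hq => ?_
      obtain ⟨u, hu, rfl⟩ := ((hφ'.isMap h).mono (le_normalizerIn
        ((hRs.map h.closed hf'R).le))).mem_img.1 (hφ'Q.ge hq)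
      obtain ⟨x, hx, rfl⟩ := hf'R.mem_img.1 hu
      show φ' (f' (φi (a (φ' (f' x))))) = _
      rw [hae _ hu, (hv x hx).2, hi1 x (le_normalizerIn hRs.le hx)]
    · show φ' (f' (φi (φ x))) = _
      rw [hi1 x (le_normalizerIn hRs.le hx)]

include hQs hC in
theorem coh_normalized (hQne : Q ≠ T) : Coh h Q := by
  intro γ hl
  obtain ⟨M⟩ := exists_lModel h.pgroup h.sat hQ
  have hQT := hQs.le
  have hQN : Q ≤ normalizerIn T Q := le_normalizerIn hQT
  have hNS : normalizerIn T Q ≤ S := inf_le_left.trans h.hTS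
  have h1 : Lab F E₁ E₂ T p (normalizerIn T Q) id 1 := Lab.id' h inf_le_left
  obtain ⟨a, ⟨k, hk, g, hg, hgQ, hge⟩, hae⟩ := nrm h M hQ hQT hQs hC hQne hl Q le_rfl hQs
    (isConj_refl hQ.1) id id 1 1 h1 (by rw [img_id]; exact h1) img_id (by rw [img_id, img_id])
  rw [show 1 * γ * (1 : MulAut T)⁻¹ = γ by group] at hg
  have hgN : ∀ y ∈ normalizerIn T Q, g y ∈ normalizerIn T Q := fun y hy =>
    hg.mem_normalizer h hQN hQ.1 hgQ hy hy.2
  obtain ⟨gi, hgi, hi1, -⟩ := hg.exists_inv h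
  rw [img_eq_of_map_le hNS (hg.isMap h) le_rfl hgN] at hgi
  have hk1 : ∀ q ∈ Q, gi q = autFun k q := fun q hq => by
    have h2 : a q = q := hae q hq
    rw [hge q hq] at h2
    conv_lhs => rw [← h2]
    exact hi1 _ (hQN (autFun_mem k hq))
  obtain ⟨e, he, hee⟩ := M.exists_lab_ext h hQ hQs hk hQN le_rfl fun y hy =>
    ⟨gi y, hgi.mem h hy, fun q hq => by
      rw [← hk1 q hq, ← hk1 _ ((Subgroup.mem_normalizer_iff.1 hy.2 q).1 hq)]
      exact (hgi.isMap h).map_conj hy (hQN hq)⟩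
  have heN : ∀ y ∈ normalizerIn T Q, e y ∈ normalizerIn T Q := fun y hy =>
    he.mem_normalizer h hQN hQ.1 (fun q hq => hee q hq ▸ autFun_mem k hq) hy hy.2
  have hd := he.comp hg heN
  rw [mul_one] at hd
  have hdN : ∀ y ∈ normalizerIn T Q, (g ∘ e) y ∈ normalizerIn T Q := fun y hy => hgN _ (heN y hy)
  have hdi := img_eq_of_map_le hNS (hd.isMap h) le_rfl hdN
  obtain ⟨s, hs, hse⟩ := exists_conj_of_fix h.pgroup h.sat h.closed hQ hQs hQN le_rfl
    (autOf_mem (hd.isMap h) hdi) fun q hq => by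
      rw [autFun_autOf _ hdi (hQN hq)]
      show g (e q) = q
      rw [hee q hq, ← hge q hq]
      exact hae q hq
  refine ⟨s, hs, ?_⟩
  rw [← nu_inv h hs.1]
  exact (hd.comp (Lab.of_conj h (inv_mem hs.1) inf_le_left) hdN).congr fun y hy => by
    show y = s⁻¹ * (g ∘ e) y * s⁻¹⁻¹
    rw [← autFun_autOf (hd.isMap h) hdi hy, hse y hy]
    group

omit hQ

/-- Coherence. -/
theorem coh (hXs : SelfC F T X) (hXc : F.IsFullyCentralized X) : Coh h X := by
  induction hk : Nat.card T - Nat.card X using Nat.strong_induction_on generalizing X with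
  | _ n ih =>
  subst hk
  intro γ hl
  by_cases hXT : X = T
  · subst hXT
    refine ⟨1, one_mem _, ?_⟩
    rw [nu_one h, inv_one, one_mul]
    exact hl.mono inf_le_left
  obtain ⟨Q, hXQ, hQ⟩ := exists_fullyNormalized (F := F) hXc.1
  obtain ⟨hau, hre⟩ := IsSaturated.automized_receptive h.pgroup h.sat hQ
  obtain ⟨φ, hφ, hφQ, -⟩ := exists_map_normalizer h.pgroup hau hre hXQ
  have hXN : X ≤ normalizerIn S X := le_normalizerIn hXc.1
  have hQs : SelfC F T Q := hφQ ▸ hXs.map h.closed (hφ.mono hXN)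
  have hQc : Nat.card Q = Nat.card X := isConj_card hXQ
  have hlt : Nat.card X < Nat.card T := card_lt_of_lt h.hTS (lt_of_le_of_ne hXs.le hXT)
  have hQne : Q ≠ T := fun e => by rw [e] at hQc; omega
  have hC : ∀ Z, SelfC F T Z → F.IsFullyCentralized Z → Nat.card Q < Nat.card Z → Coh h Z :=
    fun Z hZs hZc hZ => ih _ (by omega) hZs hZc rfl
  have hXN' : X ≤ normalizerIn T X := le_normalizerIn hXs.le
  obtain ⟨c, hc⟩ := exists_lab h (hφ.mono (normalizerIn_T_le h)) inf_le_left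
  obtain ⟨k, hk', hke⟩ := hc.conj h hl hXN' fun x hx => hXN' hx
  rw [hφQ] at hk'
  have hid : Lab F E₁ E₂ T p Q id (c * γ * c⁻¹) := hk'.congr fun q hq => by
    obtain ⟨x, hx, rfl⟩ := (hφ.mono hXN).mem_img.1 (hφQ.ge hq)
    exact (hke x hx).symm
  obtain ⟨s0, hs0, hl0⟩ := coh_normalized h hQ hQs hC hQne _ hid
  have hCN : centralizerIn S X ≤ normalizerIn S X := centralizerIn_le_normalizerIn
  have hCi : img (centralizerIn S X) φ = centralizerIn S Q := by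
    refine eq_of_le_of_card_le inf_le_left ((hφ.mono hCN).img_le_of_forall fun z hz => ?_)
      (by rw [(hφ.mono hCN).card_img]; exact hXc.2 Q hXQ)
    have h1 := map_mem_centralizerIn hφ hXN (hCN hz) hz.2
    rwa [hφQ] at h1
  rw [← hCi] at hs0
  obtain ⟨s, hs, rfl⟩ := (hφ.mono hCN).mem_img.1 hs0
  refine ⟨s, hs, ?_⟩
  obtain ⟨φi, hφi, hi1, -⟩ := hc.exists_inv h
  have hsS : φ s ∈ S := hφ.mem_S (hCN hs)
  have hφN : ∀ y ∈ normalizerIn T X, φ y ∈ normalizerIn T Q := fun y hy =>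
    ⟨hc.mem h hy, hφQ ▸ (map_mem_normalizerIn (hc.isMap h) hXN' hy hy.2).2⟩
  have hsy : ∀ y ∈ normalizerIn T X, s * y * s⁻¹ ∈ normalizerIn T X := fun y hy =>
    ⟨(Subgroup.mem_normalizer_iff.1 (h.normal hs.1) y).1 hy.1,
      Subgroup.mul_mem _ (Subgroup.mul_mem _ (hCN hs).2 hy.2) (Subgroup.inv_mem _ (hCN hs).2)⟩
  have hcs : ∀ y ∈ normalizerIn T X, φ s * φ y * (φ s)⁻¹ = φ (s * y * s⁻¹) := fun y hy =>
    (hφ.map_conj (hCN hs) (normalizerIn_T_le h hy)).symm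
  have hin : ∀ y ∈ normalizerIn T X,
      φ s * φ y * (φ s)⁻¹ ∈ img (normalizerIn T X) φ := fun y hy =>
    (hc.isMap h).mem_img.2 ⟨_, hsy y hy, (hcs y hy).symm⟩
  have hl1 := (((hc.comp hl0 hφN).comp (Lab.of_conj h hsS inf_le_left) fun y hy =>
    hφN y hy).comp hφi hin).comp (Lab.of_conj h (inv_mem hs.1) inf_le_left)
      (R := normalizerIn T X) fun y hy => by
        show φi (φ s * φ y * (φ s)⁻¹) ∈ _
        rw [hcs y hy, hi1 _ (hsy y hy)]
        exact hsy y hy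
  have hlab : nu h s⁻¹ * (c⁻¹ * (nu h (φ s) * ((nu h (φ s))⁻¹ * (c * γ * c⁻¹) * c)))
      = (nu h s)⁻¹ * γ := by
    rw [nu_inv h hs.1]; group
  rw [hlab] at hl1
  refine hl1.congr fun y hy => ?_
  show y = s⁻¹ * φi (φ s * φ y * (φ s)⁻¹) * s⁻¹⁻¹
  rw [hcs y hy, hi1 _ (hsy y hy)]
  group

end CfsgLib.Fusion.Meet
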