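import Cfsg.Agent.Lib.Fusion.System.Meet.CentralProduct
import Cfsg.Agent.Lib.Fusion.System.Meet.Commute

/-!
# Factors of central products

A normal subsystem of a factor of a central product is normal in the product.
-/

set_option autoImplicit false
set_option maxHeartbeats 1000000
set_option linter.style.haveILetI false
set_option linter.unusedSectionVars false

open Subgroup
open scoped Classical Pointwise

namespace CfsgLib.Fusion.Meet

open Cfsg (FusionSystem autInducedBy)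
open Cfsg.FusionSystem (normalizerIn centralizerIn preimageAlong)
open CfsgLib.Fusion

universe u

variable {Ω : Type u} [Group Ω] {T T₁ T₂ V : Subgroup Ω} {E₁ : FusionSystem T₁}
  {E₂ : FusionSystem T₂} {D : FusionSystem T} {C : FusionSystem V} {p : ℕ} {P : Subgroup Ω}
  {f : Ω → Ω}

/-- The intersection of the factors of a central product is central in both. -/
theorem cp_center [Finite T₁] [Finite T₂]
    (h : Cfsg.FusionSystem.IsCentralProductOf E₁ E₂ D) :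
    T₁ ⊓ T₂ ≤ E₁.center ∧ T₁ ⊓ T₂ ≤ E₂.center := by
  obtain ⟨D₀, hprod, Z, θ, hZc, -, -, hθ₁, hθ₂, hfac⟩ := h
  obtain ⟨hZS, hker, -, -⟩ := id hfac
  haveI : Finite (T₁.prod T₂) := Finite.of_equiv _ (Subgroup.prodEquiv T₁ T₂).symm.toEquiv
  have hZ : ∀ a ∈ T₁ ⊓ T₂, ((a, a⁻¹) : Ω × Ω) ∈ Z := fun a ha => by
    obtain ⟨ha1, ha2⟩ := Subgroup.mem_inf.1 ha
    have hx : ((a, 1) : Ω × Ω) ∈ T₁.prod T₂ := Subgroup.mem_prod.2 ⟨ha1, one_mem _⟩
    have hy : ((1, a⁻¹) : Ω × Ω) ∈ T₁.prod T₂ := Subgroup.mem_prod.2 ⟨one_mem _, inv_mem ha2⟩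
    have h1 : θ (⟨_, hx⟩ * ⟨_, hy⟩) = 1 := by rw [map_mul, hθ₁, hθ₂, mul_inv_cancel]
    simpa using (hker _).1 h1
  constructor
  · refine le_sSup (isCentral_iff.2 ⟨inf_le_left, fun P f hf => ?_⟩)
    have hm : IsMap D₀ (P.prod ⊥) (fun x => (f x.1, x.2)) := (ProductSat.isMap_iff hprod).2
      ⟨Subgroup.prod_mono hf.le bot_le, f, id, hf.mono (by rintro _ ⟨x, hx, rfl⟩; exact hx.1),
        isMap_id (by rintro _ ⟨x, hx, rfl⟩; exact (show x.2 ∈ T₂ by rw [Subgroup.mem_bot.1 hx.2]; exact one_mem _)), fun _ _ => rfl⟩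
    obtain ⟨g, hg, hgf, hgc⟩ := (isCentral_iff.1 (isCentral_center (F := D₀))).2 _ _ hm
    obtain ⟨-, g₁, g₂, hg₁, -, he⟩ := (ProductSat.isMap_iff hprod).1
      (hg.mono (sup_le_sup_left hZc _))
    refine ⟨g₁, hg₁.mono (sup_le (fun x hx => ⟨(x, 1), Subgroup.mem_sup_left ⟨hx, one_mem _⟩, rfl⟩)
      fun a ha => ⟨(a, a⁻¹), Subgroup.mem_sup_right (hZ a ha), rfl⟩), fun x hx => ?_, fun a ha => ?_⟩
    · have hxP : ((x, 1) : Ω × Ω) ∈ P.prod (⊥ : Subgroup Ω) := ⟨hx, one_mem _⟩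
      have h1 := (he _ (Subgroup.mem_sup_left hxP)).symm.trans (hgf _ hxP)
      exact congrArg Prod.fst h1
    · have h1 := (he _ (Subgroup.mem_sup_right (hZ a ha))).symm.trans (hgc _ (hZc (hZ a ha)))
      exact congrArg Prod.fst h1
  · refine le_sSup (isCentral_iff.2 ⟨inf_le_right, fun P f hf => ?_⟩)
    have hm : IsMap D₀ ((⊥ : Subgroup Ω).prod P) (fun x => (x.1, f x.2)) :=
      (ProductSat.isMap_iff hprod).2
      ⟨Subgroup.prod_mono bot_le hf.le, id, f, isMap_id (by rintro _ ⟨x, hx, rfl⟩; exact (show x.1 ∈ T₁ by rw [Subgroup.mem_bot.1 hx.1]; exact one_mem _)),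
        hf.mono (by rintro _ ⟨x, hx, rfl⟩; exact hx.2), fun _ _ => rfl⟩
    obtain ⟨g, hg, hgf, hgc⟩ := (isCentral_iff.1 (isCentral_center (F := D₀))).2 _ _ hm
    obtain ⟨-, g₁, g₂, -, hg₂, he⟩ := (ProductSat.isMap_iff hprod).1
      (hg.mono (sup_le_sup_left hZc _))
    refine ⟨g₂, hg₂.mono (sup_le (fun x hx => ⟨(1, x), Subgroup.mem_sup_left ⟨one_mem _, hx⟩, rfl⟩)
      fun a ha => ⟨(a⁻¹, a), Subgroup.mem_sup_right ?_, rfl⟩), fun x hx => ?_, fun a ha => ?_⟩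
    · simpa using hZ a⁻¹ (inv_mem ha)
    · have hxP : ((1, x) : Ω × Ω) ∈ (⊥ : Subgroup Ω).prod P := ⟨one_mem _, hx⟩
      have h1 := (he _ (Subgroup.mem_sup_left hxP)).symm.trans (hgf _ hxP)
      exact congrArg Prod.snd h1
    · have haZ : ((a⁻¹, a) : Ω × Ω) ∈ Z := by simpa using hZ a⁻¹ (inv_mem ha)
      have h1 := (he _ (Subgroup.mem_sup_right haZ)).symm.trans (hgc _ (hZc haZ))
      exact congrArg Prod.snd h1

theorem pair_symm (hc : ∀ x ∈ T₁, ∀ y ∈ T₂, x * y = y * x) (hf : Pair E₁ E₂ P f) :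
    Pair E₂ E₁ P f := by
  obtain ⟨hP, f₁, f₂, hf₁, hf₂, he⟩ := hf
  refine ⟨hP.trans (sup_comm T₁ T₂).le, f₂, f₁, hf₂, hf₁, fun b hb a ha hab => ?_⟩
  rw [← hc a ha b hb] at hab ⊢
  rw [he a ha b hb hab]
  exact hc _ (hf₁.mem_S (mem_pr_left ha hb hab)) _ (hf₂.mem_S (mem_pr_right ha hb hab))

variable [Finite T] [Fact p.Prime]

/-- A normal subsystem of a factor is normal in the product. -/
theorem isNormalIn_of_pair (hS : IsPGroup p T) (hDs : D.IsSaturated p) (hT : T = T₁ ⊔ T₂)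
    (hc : ∀ x ∈ T₁, ∀ y ∈ T₂, x * y = y * x) (hA : T₁ ⊓ T₂ ≤ E₁.center)
    (hD : ∀ (P : Subgroup Ω) (f : Ω → Ω), IsMap D P f ↔ Pair E₁ E₂ P f)
    (hC : C.IsNormalIn E₁ p) : C.IsNormalIn D p := by
  subst hT
  have hT₁ : T₁ ≤ T₁ ⊔ T₂ := le_sup_left
  haveI := finite_of_le hT₁
  have hT₁p : IsPGroup p T₁ := hS.to_le hT₁
  have hV₁ : E₁.StronglyClosed V := hC.1.2.2.2.1
  have hVT₁ := hV₁.1
  have hCE := hC.1.2.2.1
  have hcA : ∀ {R : Subgroup Ω} {l : Ω → Ω}, IsMap E₁ R l → ∀ a ∈ R, a ∈ T₁ ⊓ T₂ → l a = a :=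
    fun hl a ha haA => center_fixed hl ha (hA haA)
  -- maps of `D` on subgroups of `T₁` are maps of `E₁`
  have hres : ∀ {Q : Subgroup Ω} {g : Ω → Ω}, Q ≤ T₁ → IsMap D Q g → IsMap E₁ Q g := by
    intro Q g hQ hg
    obtain ⟨-, g₁, g₂, hg₁, hg₂, he⟩ := (hD _ _).1 hg
    refine (hg₁.mono fun x hx => ?_).congr fun x hx => ?_
    · exact mem_pr_left (hQ hx) (one_mem T₂) (by rwa [mul_one])
    · have h1 := he x (hQ hx) 1 (one_mem _) (by rwa [mul_one])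
      rwa [mul_one, hg₂.map_one, mul_one] at h1
  have hsub : C.IsSubsystemOf D := fun P φ hφ => by
    have hf := Components.isMap_of_sub hCE (isMap_toFun hφ)
    have hP₁ : P ≤ T₁ := hf.le
    obtain ⟨g, hg, hgf, hgc⟩ := (isCentral_iff.1 (isCentral_center (F := E₁))).2 _ _ hf
    refine mem_hom_iff.2 ((hD _ _).2 ⟨hP₁.trans hT₁, g, id, hg.mono ?_, isMap_id pr_le,
      fun a ha b hb hab => ?_⟩)
    · intro a ha
      obtain ⟨b, hb, hab⟩ := exists_of_mem_pr hc (hP₁.trans hT₁) ha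
      have ha1 := (Subgroup.mem_inf.1 ha).1
      have hb1 : b ∈ T₁ ⊓ T₂ := Subgroup.mem_inf.2
        ⟨by simpa using mul_mem (inv_mem ha1) (hP₁ hab), hb⟩
      simpa using mul_mem (Subgroup.mem_sup_left (T := E₁.center) hab)
        (Subgroup.mem_sup_right (inv_mem (hA hb1)))
    · have hb1 : b ∈ T₁ ⊓ T₂ := Subgroup.mem_inf.2
        ⟨by simpa using mul_mem (inv_mem ha) (hP₁ hab), hb⟩
      have hbZ : b ∈ P ⊔ E₁.center := Subgroup.mem_sup_right (hA hb1)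
      have haZ : a ∈ P ⊔ E₁.center := by
        simpa using mul_mem (Subgroup.mem_sup_left (T := E₁.center) hab) (inv_mem hbZ)
      rw [← hgf _ hab, hg.map_mul haZ hbZ, hgc b (hA hb1)]
      rfl
  have hclosed : D.StronglyClosed V := stronglyClosed_iff.2 ⟨hVT₁.trans hT₁, fun R l hR hl x hx =>
    cl_mem hV₁ (hres (hR.trans hVT₁) hl) hx (hR hx)⟩
  have hinv : StrongInv C D := fun P Q f g hPQ hQV hf hfQ hg =>
    (Side.of_weaklyNormal hT₁p hC.1).inv P Q f g hPQ hQV hf hfQ (hres (hQV.trans hVT₁) hg)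
  refine ⟨⟨hC.1.1, hDs, (isInvariantIn_iff_strongInv hS hDs hsub hclosed).2 hinv⟩, fun α hα => ?_⟩
  set B := V ⊔ centralizerIn T₁ V with hB
  obtain ⟨β, hβ, hβa, hβd⟩ := hC.2 α hα
  set K := V ⊔ centralizerIn (T₁ ⊔ T₂) V with hK
  have hBT : B ≤ T₁ := sup_le hVT₁ inf_le_left
  have hKS : K ≤ T₁ ⊔ T₂ := sup_le (hVT₁.trans hT₁) inf_le_left
  have hβm := (mem_autGroup_iff hBT).1 hβ
  have hAB : T₁ ⊓ T₂ ≤ B := fun a ha => Subgroup.mem_sup_right ⟨(Subgroup.mem_inf.1 ha).1,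
    Subgroup.mem_centralizer_iff.2 fun x hx => hc x (hVT₁ hx) a (Subgroup.mem_inf.1 ha).2⟩
  -- the first component of an element of `K` lies in `B`
  have hfst : ∀ a ∈ T₁, ∀ b ∈ T₂, a * b ∈ K → a ∈ B := by
    intro a ha b hb hab
    obtain ⟨v, hv, c, hcc, hvc⟩ := mem_base (C := centralizerIn (T₁ ⊔ T₂) V) inf_le_right hab
    obtain ⟨c₁, hc₁, c₂, hc₂, rfl⟩ := exists_mul_of_mem_sup hc hcc.1
    have hc₁B : c₁ ∈ centralizerIn T₁ V := ⟨hc₁, Subgroup.mem_centralizer_iff.2 fun x hx => by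
      have h1 := Subgroup.mem_centralizer_iff.1 hcc.2 x hx
      have h2 := hc x (hVT₁ hx) c₂ hc₂
      calc x * c₁ = x * (c₁ * c₂) * c₂⁻¹ := by group
        _ = c₁ * (c₂ * x) * c₂⁻¹ := by rw [h1]; group
        _ = c₁ * x := by rw [← h2]; group⟩
    have h1 : (v * c₁)⁻¹ * a = c₂ * b⁻¹ := by
      rw [show a = a * b * b⁻¹ by group, hvc]; group
    have h2 : (v * c₁)⁻¹ * a ∈ T₁ ⊓ T₂ := Subgroup.mem_inf.2
      ⟨mul_mem (inv_mem (mul_mem (hVT₁ hv) hc₁)) ha, h1 ▸ mul_mem hc₂ (inv_mem hb)⟩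
    have h3 : v * c₁ * ((v * c₁)⁻¹ * a) ∈ B :=
      mul_mem (mul_mem (Subgroup.mem_sup_left hv) (Subgroup.mem_sup_right hc₁B)) (hAB h2)
    rwa [mul_inv_cancel_left] at h3
  let k : Ω → Ω := fun z => if hz : ∃ a ∈ T₁, ∃ b ∈ T₂, z = a * b then
    autFun β hz.choose * hz.choose_spec.2.choose else 1
  have hk : ∀ a ∈ T₁, ∀ b ∈ T₂, a * b ∈ K → k (a * b) = autFun β a * b := by
    intro a ha b hb hab
    have hz : ∃ a' ∈ T₁, ∃ b' ∈ T₂, a * b = a' * b' := ⟨a, ha, b, hb, rfl⟩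
    show (if hz : ∃ a' ∈ T₁, ∃ b' ∈ T₂, a * b = a' * b' then
      autFun β hz.choose * hz.choose_spec.2.choose else 1) = _
    rw [dif_pos hz]
    obtain ⟨a', ha', b', hb', he, hval⟩ : ∃ a' ∈ T₁, ∃ b' ∈ T₂, a * b = a' * b' ∧
        autFun β hz.choose * hz.choose_spec.2.choose = autFun β a' * b' :=
      ⟨_, hz.choose_spec.1, _, hz.choose_spec.2.choose_spec.1, hz.choose_spec.2.choose_spec.2, rfl⟩
    rw [hval]
    have hw : a⁻¹ * a' ∈ T₁ ⊓ T₂ := Subgroup.mem_inf.2 ⟨mul_mem (inv_mem ha) ha', by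
      have : a⁻¹ * a' = b * b'⁻¹ := by
        rw [show a' = a' * b' * b'⁻¹ by group, ← he]; group
      exact this ▸ mul_mem hb (inv_mem hb')⟩
    have haB := hfst a ha b hb hab
    rw [show a' = a * (a⁻¹ * a') by group, hβm.map_mul haB (hAB hw), hcA hβm _ (hAB hw) hw,
      mul_assoc, show a⁻¹ * a' * b' = b by rw [mul_assoc, ← he]; group]
  have hkD : IsMap D K k := (hD _ _).2 ⟨hKS, autFun β, id, hβm.mono fun a ha => by
    obtain ⟨b, hb, hab⟩ := exists_of_mem_pr hc hKS ha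
    exact hfst a (Subgroup.mem_inf.1 ha).1 b hb hab, isMap_id pr_le, hk⟩
  have hkV : ∀ x ∈ V, k x = autFun α x := fun x hx => by
    have h1 := hk x (hVT₁ hx) 1 (one_mem _) (by rw [mul_one]; exact Subgroup.mem_sup_left hx)
    rw [mul_one, mul_one] at h1
    rw [h1, autFun_apply β (Subgroup.mem_sup_left hx), autFun_apply α hx]
    exact hβa ⟨x, hx⟩
  have hdisp : ∀ c ∈ centralizerIn (T₁ ⊔ T₂) V,
      c⁻¹ * k c ∈ V ⊓ Subgroup.centralizer (V : Set Ω) := fun c hcc => by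
    obtain ⟨a, ha, b, hb, rfl⟩ := exists_mul_of_mem_sup hc hcc.1
    have hab : a * b ∈ K := Subgroup.mem_sup_right hcc
    have haB := hfst a ha b hb hab
    have haC : a ∈ centralizerIn T₁ V := ⟨ha, Subgroup.mem_centralizer_iff.2 fun x hx => by
      have h1 := Subgroup.mem_centralizer_iff.1 hcc.2 x hx
      have h2 := hc x (hVT₁ hx) b hb
      calc x * a = x * (a * b) * b⁻¹ := by group
        _ = a * (b * x) * b⁻¹ := by rw [h1]; group
        _ = a * x := by rw [← h2]; group⟩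
    have h3 := hβd ⟨a, haB⟩ haC
    rw [← autFun_coe] at h3
    rw [hk a ha b hb hab, show (a * b)⁻¹ * (autFun β a * b) = b⁻¹ * (a⁻¹ * autFun β a * b) by group,
      hc _ (mul_mem (inv_mem ha) (hBT (autFun_mem β haB))) b hb, inv_mul_cancel_left]
    exact h3
  have hki : img K k = K := img_eq_of_map_le hKS hkD le_rfl fun z hz => hkD.map_mem_of_sup
    (fun x hx => Subgroup.mem_sup_left (by rw [hkV x hx]; exact autFun_mem α hx))
    (fun c hcc => by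
      have := mul_mem (Subgroup.mem_sup_right (S := V) hcc)
        (Subgroup.mem_sup_left (T := centralizerIn (T₁ ⊔ T₂) V) (Subgroup.mem_inf.1 (hdisp c hcc)).1)
      rwa [mul_inv_cancel_left] at this) hz
  refine ⟨autOf hkD hki, autOf_mem hkD hki, fun x => ?_, fun c hcc => ?_⟩
  · rw [← autFun_coe, Subgroup.coe_inclusion, autFun_autOf hkD hki (Subgroup.mem_sup_left x.2),
      hkV x x.2, autFun_coe]
  · rw [← autFun_coe, autFun_autOf hkD hki c.2]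
    exact hdisp c hcc

variable [Finite T₁] [Finite T₂]

/-- A normal subsystem of the first factor of a central product is normal in it. -/
theorem isNormalIn_cp_left (hS : IsPGroup p T) (hE₁ : E₁.IsSaturated p) (hE₂ : E₂.IsSaturated p)
    (h : Cfsg.FusionSystem.IsCentralProductOf E₁ E₂ D) (hC : C.IsNormalIn E₁ p) :
    C.IsNormalIn D p := by
  obtain ⟨hc, hT⟩ := cp_data h
  have h₁ : T₁ ≤ T := hT ▸ le_sup_left
  have h₂ : T₂ ≤ T := hT ▸ le_sup_right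
  obtain ⟨hDs, hD⟩ := cp_pair (hS.to_le h₁) (hS.to_le h₂) hE₁ hE₂ h
  exact isNormalIn_of_pair hS hDs hT hc (cp_center h).1 hD hC

/-- A normal subsystem of the second factor of a central product is normal in it. -/
theorem isNormalIn_cp_right (hS : IsPGroup p T) (hE₁ : E₁.IsSaturated p) (hE₂ : E₂.IsSaturated p)
    (h : Cfsg.FusionSystem.IsCentralProductOf E₁ E₂ D) (hC : C.IsNormalIn E₂ p) :
    C.IsNormalIn D p := by
  obtain ⟨hc, hT⟩ := cp_data h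
  have h₁ : T₁ ≤ T := hT ▸ le_sup_left
  have h₂ : T₂ ≤ T := hT ▸ le_sup_right
  obtain ⟨hDs, hD⟩ := cp_pair (hS.to_le h₁) (hS.to_le h₂) hE₁ hE₂ h
  have hc' : ∀ x ∈ T₂, ∀ y ∈ T₁, x * y = y * x := fun x hx y hy => (hc y hy x hx).symm
  refine isNormalIn_of_pair (E₂ := E₁) hS hDs (hT.trans (sup_comm T₁ T₂)) hc'
    (inf_comm T₁ T₂ ▸ (cp_center h).2) (fun P f => ?_) hC
  rw [hD]
  exact ⟨pair_symm hc, pair_symm hc'⟩

/-- Components of a central product are components of a factor. -/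
theorem component_of_cp (hS : IsPGroup p T) (hF : D.IsSaturated p) (hE₁ : E₁.IsSaturated p)
    (hE₂ : E₂.IsSaturated p) (h : Cfsg.FusionSystem.IsCentralProductOf E₁ E₂ D)
    (hC : C.IsComponentIn D p) : C.IsComponentIn E₁ p ∨ C.IsComponentIn E₂ p := by
  obtain ⟨hc, hT⟩ := cp_data h
  have h₁ : T₁ ≤ T := hT ▸ le_sup_left
  have h₂ : T₂ ≤ T := hT ▸ le_sup_right
  have hn₁ := isNormalIn_cp_left hS hE₁ hE₂ h (isNormalIn_self (hS.to_le h₁) hE₁)
  have hn₂ := isNormalIn_cp_right hS hE₁ hE₂ h (isNormalIn_self (hS.to_le h₂) hE₂)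
  by_cases hV₁ : V ≤ T₁
  · exact Or.inl (component_of_le hS hF hC hn₁ hV₁)
  by_cases hV₂ : V ≤ T₂
  · exact Or.inr (component_of_le hS hF hC hn₂ hV₂)
  exfalso
  have hV : V ≤ T := subnormal_le hC.1
  haveI := finite_of_le hV
  have hc₁ := (comp_commute hC.1 ‹_› ‹_› hS hF hC.2 _ _ hn₁ hV₁).1
  have hc₂ := (comp_commute hC.1 ‹_› ‹_› hS hF hC.2 _ _ hn₂ hV₂).1
  refine Cfsg.Agent.S5148.result p (hS.to_le hV) C hC.2 ⟨⟨fun a b => Subtype.ext ?_⟩⟩
  obtain ⟨u, hu, w, hw, hb⟩ := exists_mul_of_mem_sup hc (hT ▸ hV b.2)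
  have e₁ := Subgroup.mem_centralizer_iff.1 (hc₁ a.2).2 u hu
  have e₂ := Subgroup.mem_centralizer_iff.1 (hc₂ a.2).2 w hw
  show (a : Ω) * b = b * a
  rw [hb, ← mul_assoc, ← e₁, mul_assoc, ← e₂, ← mul_assoc]

end CfsgLib.Fusion.Meet
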