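import Cfsg.Agent.Lib.Fusion.System.Meet.Reduced
import Cfsg.Agent.Lib.Fusion.System.Meet.Base

/-!
# Maps of a normal subsystem extend fixing a commuting strongly closed subgroup
-/

set_option autoImplicit false
set_option maxHeartbeats 1000000
set_option linter.style.haveILetI false
set_option linter.unusedSectionVars false

open Subgroup
open scoped Classical Pointwise

namespace CfsgLib.Fusion.Meet

open Cfsg (FusionSystem autInducedBy)
open Cfsg.FusionSystem (normalizerIn centralizerIn)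
open CfsgLib.Fusion

universe u

variable {Ω : Type u} [Group Ω] {S T T₂ : Subgroup Ω} {F : FusionSystem S} {E : FusionSystem T}
  {p : ℕ} {P Q R : Subgroup Ω} {f g : Ω → Ω}

/-- `f` extends to `P T₂` as the identity on `T₂`. -/
def FixExt (F : FusionSystem S) (T₂ P : Subgroup Ω) (f : Ω → Ω) : Prop :=
  ∃ g, IsMap F (P ⊔ T₂) g ∧ (∀ x ∈ P, g x = f x) ∧ ∀ y ∈ T₂, g y = y

theorem FixExt.congr (h : FixExt F T₂ P f) (he : ∀ x ∈ P, g x = f x) : FixExt F T₂ P g := by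
  obtain ⟨k, hk, hkf, hk2⟩ := h
  exact ⟨k, hk, fun x hx => (hkf x hx).trans (he x hx).symm, hk2⟩

theorem FixExt.mono (h : FixExt F T₂ P f) (hQ : Q ≤ P) : FixExt F T₂ Q f := by
  obtain ⟨k, hk, hkf, hk2⟩ := h
  exact ⟨k, hk.mono (sup_le_sup_right hQ _), fun x hx => hkf x (hQ hx), hk2⟩

theorem FixExt.comp [Finite S] (hf : FixExt F T₂ P f) (hg : FixExt F T₂ R g)
    (hm : ∀ x ∈ P, f x ∈ R) : FixExt F T₂ P (g ∘ f) := by
  obtain ⟨k, hk, hkf, hk2⟩ := hf
  obtain ⟨l, hl, hlg, hl2⟩ := hg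
  refine ⟨l ∘ k, hk.comp hl fun z hz => hk.map_mem_of_sup
      (fun x hx => Subgroup.mem_sup_left (hkf x hx ▸ hm x hx))
      (fun y hy => Subgroup.mem_sup_right ((hk2 y hy).symm ▸ hy)) hz,
    fun x hx => ?_, fun y hy => ?_⟩
  · show l (k x) = g (f x)
    rw [hkf x hx, hlg _ (hm x hx)]
  · show l (k y) = y
    rw [hk2 y hy, hl2 y hy]

theorem fixExt_conj (hPT : P ≤ T) (hTS : T ≤ S) (hT₂ : T₂ ≤ S)
    (hc : ∀ x ∈ T, ∀ y ∈ T₂, x * y = y * x) {t : Ω} (ht : t ∈ T) :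
    FixExt F T₂ P (fun x => t * x * t⁻¹) :=
  ⟨_, isMap_conj (sup_le (hPT.trans hTS) hT₂) (hTS ht), fun _ _ => rfl, fun y hy => by
    rw [hc t ht y hy, mul_inv_cancel_right]⟩

variable [Finite S] [Fact p.Prime]

/-- `p`-elements of automizers extend fixing `T₂`. -/
theorem fixExt_pElement (hS : IsPGroup p S) (hF : F.IsSaturated p) (h : Side F p E)
    (h₂ : F.StronglyClosed T₂) (hc : ∀ x ∈ T, ∀ y ∈ T₂, x * y = y * x) (hR : R ≤ T)
    {β : MulAut R} (hβ : β ∈ E.autGroup R) {k : ℕ} (hk : β ^ p ^ k = 1) :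
    FixExt F T₂ R (autFun β) := by
  have hTS := h.le
  haveI := finite_of_le hTS
  have hTp : IsPGroup p T := hS.to_le hTS
  obtain ⟨R', hRR', hR'⟩ := exists_fullyNormalized (F := F) (hR.trans hTS)
  obtain ⟨hau, hre⟩ := IsSaturated.automized_receptive hS hF hR'
  obtain ⟨φ, hφ, hφR, hφN⟩ := exists_map_normalizer hS hau hre hRR'
  have hRN : R ≤ normalizerIn S R := le_normalizerIn (hR.trans hTS)
  have hT₂N : T₂ ≤ normalizerIn S R := fun y hy => ⟨h₂.1 hy,
    Subgroup.centralizer_le_normalizer _ (Subgroup.mem_centralizer_iff.2 fun x hx =>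
      hc x (hR hx) y hy)⟩
  have hφ₂ : img T₂ φ = T₂ := img_eq_of_map_le h₂.1 hφ hT₂N fun y hy =>
    cl_mem h₂ hφ (hT₂N hy) hy
  have hR'T : R' ≤ T := hφR ▸ (hφ.mono hRN).img_le_of_forall fun x hx =>
    h.map_mem hφ (hRN hx) (hR hx)
  have hR'S := hR'T.trans hTS
  haveI := finite_of_le hR'T
  haveI := finite_mulAut (P := R')
  -- the conjugate element
  obtain ⟨b₀, hb₀, hb₀e⟩ := h.inv R R (autFun β) φ le_rfl hR ((mem_autGroup_iff hR).1 hβ)
    (fun x hx => autFun_mem β hx) (hφ.mono hRN)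
  rw [hφR] at hb₀
  have hmemR : ∀ x ∈ R, φ x ∈ R' := fun x hx =>
    hφR.le ((hφ.mono hRN).mem_img.2 ⟨x, hx, rfl⟩)
  have hb₀i : img R' b₀ = R' := img_eq_of_map_le hR'T hb₀ le_rfl fun z hz => by
    obtain ⟨x, hx, rfl⟩ := (hφ.mono hRN).mem_img.1 (hφR.ge hz)
    rw [hb₀e x hx]
    exact hmemR _ (autFun_mem β hx)
  set b := autOf hb₀ hb₀i with hbd
  have hb : b ∈ E.autGroup R' := autOf_mem hb₀ hb₀i
  have hbe : ∀ x ∈ R, autFun b (φ x) = φ (autFun β x) := fun x hx => by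
    rw [hbd, autFun_autOf hb₀ hb₀i (hmemR x hx), hb₀e x hx]
  have hbpow : ∀ i : ℕ, ∀ x ∈ R, autFun (b ^ i) (φ x) = φ (autFun (β ^ i) x) := by
    intro i
    induction i with
    | zero => intro x hx; rw [pow_zero, pow_zero, autFun_one (hmemR x hx), autFun_one hx]
    | succ i ih =>
      intro x hx
      rw [pow_succ', pow_succ', autFun_mul _ _ (hmemR x hx), ih x hx, hbe _ (autFun_mem _ hx),
        autFun_mul _ _ hx]
  have hbk : b ^ p ^ k = 1 := autFun_ext fun z hz => by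
    obtain ⟨x, hx, rfl⟩ := (hφ.mono hRN).mem_img.1 (hφR.ge hz)
    rw [hbpow _ x hx, hk, autFun_one hx, autFun_one hz]
  -- it is conjugate to a conjugation
  obtain ⟨-, hi⟩ := (isFullyAutomized_iff hTp).1 (IsSaturated.automized_receptive hTp h.sat
    (isFullyNormalized_of_stronglyClosed hS hF h.closed h.sub hR'T hR')).1
  obtain ⟨δ, hδ, hδA⟩ := exists_conj_le_of_not_dvd_relIndex (isPGroup_autInducedBy hTp)
    (autInducedBy_le_autGroup hR'T) hi (isPGroup_zpowers_of_pow hbk) (Subgroup.zpowers_le.2 hb)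
  obtain ⟨t, ht, hte⟩ := mem_autInducedBy_iff.1 (hδA (conj_mem_conjBy (Subgroup.mem_zpowers b)))
  have hδF : IsMap F R' (autFun δ) := ((mem_autGroup_iff hR'T).1 hδ).ofSubsystem h.sub
  obtain ⟨g, hg, hgδ⟩ := exists_base_ext hS hF (IsSaturated.isFullyCentralized hS hF hR') hδF
    (img_autFun δ)
  set W := R' ⊔ T₂ with hW
  have hT₂B : T₂ ≤ CentLift.base S R' := fun y hy => Subgroup.mem_sup_right
    ⟨h₂.1 hy, Subgroup.mem_centralizer_iff.2 fun x hx => hc x (hR'T hx) y hy⟩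
  have hWS : W ≤ S := sup_le hR'S h₂.1
  have hgW := hg.mono (sup_le le_sup_left hT₂B : W ≤ CentLift.base S R')
  have hgi : img W g = W := img_eq_of_map_le hWS hgW le_rfl fun z hz => hgW.map_mem_of_sup
    (fun x hx => Subgroup.mem_sup_left (by rw [hgδ x hx]; exact autFun_mem δ hx))
    (fun y hy => Subgroup.mem_sup_right (cl_mem h₂ hg (hT₂B hy) hy)) hz
  set G := autOf hgW hgi with hGd
  have hG : G ∈ F.autGroup W := autOf_mem hgW hgi
  have hGe : ∀ x ∈ R', autFun G x = autFun δ x := fun x hx => by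
    rw [hGd, autFun_autOf hgW hgi (Subgroup.mem_sup_left hx), hgδ x hx]
  have hG2 : ∀ y ∈ T₂, autFun G y ∈ T₂ := fun y hy =>
    cl_mem h₂ ((mem_autGroup_iff hWS).1 hG) (Subgroup.mem_sup_right hy) hy
  have htR : ∀ x ∈ R', t * x * t⁻¹ ∈ R' := fun x hx => by
    rw [← hte x hx]; exact autFun_mem _ hx
  have htW : ∀ z ∈ W, t * z * t⁻¹ ∈ W := fun z hz =>
    (isMap_conj (F := F) hWS (hTS ht)).map_mem_of_sup (fun x hx => Subgroup.mem_sup_left (htR x hx))
      (fun y hy => Subgroup.mem_sup_right (by rw [hc t ht y hy, mul_inv_cancel_right]; exact hy)) hz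
  -- back to `R`
  have hle : R ⊔ T₂ ≤ normalizerIn S R := sup_le hRN hT₂N
  have hφW := hφ.mono hle
  have hφi : img (R ⊔ T₂) φ = W := le_antisymm
    (hφW.img_le_of_forall fun z hz => hφW.map_mem_of_sup
      (fun x hx => Subgroup.mem_sup_left (hmemR x hx))
      (fun y hy => Subgroup.mem_sup_right (cl_mem h₂ hφ (hT₂N hy) hy)) hz)
    (sup_le (hφR.ge.trans (hφW.img_mono le_sup_left)) (hφ₂.ge.trans (hφW.img_mono le_sup_right)))
  obtain ⟨φ', hφ', hφ'1, -⟩ := hφW.exists_inv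
  rw [hφi] at hφ'
  have hmW : ∀ z ∈ R ⊔ T₂, φ z ∈ W := fun z hz => hφi.le (hφW.mem_img.2 ⟨z, hz, rfl⟩)
  have hGm := (mem_autGroup_iff hWS).1 hG
  have hGm' := (mem_autGroup_iff hWS).1 (inv_mem hG)
  refine ⟨_, (((hφW.comp hGm hmW).comp (isMap_conj hWS (hTS ht))
      fun z hz => autFun_mem G (hmW z hz)).comp hGm'
      fun z hz => htW _ (autFun_mem G (hmW z hz))).comp hφ'
      fun z hz => autFun_mem _ (htW _ (autFun_mem G (hmW z hz))), fun x hx => ?_, fun y hy => ?_⟩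
  · show φ' (autFun G⁻¹ (t * autFun G (φ x) * t⁻¹)) = _
    have hx' := hmemR x hx
    have h1 := hte _ (autFun_mem δ hx')
    rw [autFun_mul _ _ (autFun_mem δ hx'), PPrime.autFun_symm hx', autFun_mul _ _ hx',
      hbe x hx] at h1
    rw [hGe _ hx', ← h1, ← hGe _ (hmemR _ (autFun_mem β hx)),
      PPrime.autFun_symm (Subgroup.mem_sup_left (hmemR _ (autFun_mem β hx))),
      hφ'1 _ (Subgroup.mem_sup_left (autFun_mem β hx))]
  · show φ' (autFun G⁻¹ (t * autFun G (φ y) * t⁻¹)) = _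
    have hy' : φ y ∈ T₂ := hφ₂.le ((hφ.mono hT₂N).mem_img.2 ⟨y, hy, rfl⟩)
    rw [hc t ht _ (hG2 _ hy'), mul_inv_cancel_right, PPrime.autFun_symm (Subgroup.mem_sup_right hy'),
      hφ'1 y (Subgroup.mem_sup_right hy)]

/-- The composites of `p`-elements extend fixing `T₂`. -/
theorem fixExt_eMap (hS : IsPGroup p S) (hF : F.IsSaturated p) (h : Side F p E)
    (h₂ : F.StronglyClosed T₂) (hc : ∀ x ∈ T, ∀ y ∈ T₂, x * y = y * x) {𝒞 : Set (Subgroup Ω)}
    (hf : PPrime.EMap E p 𝒞 P f) : FixExt F T₂ P f := by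
  induction hf with
  | base hC hle hR hβ hk => exact (fixExt_pElement hS hF h h₂ hc hR hβ hk).mono hle
  | conj hP hs => exact fixExt_conj hP h.le h₂.1 hc hs
  | comp _ _ hm h1 h2 => exact h1.comp h2 hm
  | congr _ he h1 => exact h1.congr he

/-- The automorphisms of `T` in `E` extend to `T T₂ C_S(T T₂)` fixing `T₂`, trivially modulo
`Z(T)` on the centralizer. -/
theorem exists_top_ext (hS : IsPGroup p S) (hE : E.IsNormalIn F p) (h₂ : F.StronglyClosed T₂)
    (hc : ∀ x ∈ T, ∀ y ∈ T₂, x * y = y * x) (hZ : T ⊓ T₂ ≤ E.center) {α : MulAut T}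
    (hα : α ∈ E.autGroup T) :
    ∃ h, IsMap F (T ⊔ T₂ ⊔ centralizerIn S (T ⊔ T₂)) h ∧ (∀ x ∈ T, h x = autFun α x) ∧
      (∀ y ∈ T₂, h y = y) ∧ ∀ c ∈ centralizerIn S (T ⊔ T₂),
        c⁻¹ * h c ∈ T ⊓ Subgroup.centralizer (T : Set Ω) := by
  have hTcl := hE.1.2.2.2.1
  have hTS := hTcl.1
  haveI := finite_of_le hTS
  haveI := finite_mulAut (P := T)
  have hTp : IsPGroup p T := hS.to_le hTS
  set U := T ⊔ T₂ with hU
  set C := centralizerIn S U with hC
  have hUS : U ≤ S := sup_le hTS h₂.1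
  have hKS : U ⊔ C ≤ S := sup_le hUS inf_le_left
  set Z := T ⊓ Subgroup.centralizer (T : Set Ω) with hZd
  obtain ⟨i, j, e, hij, hi, hj⟩ := ConstrainedNormalSub.exists_decomp (p := p) α
  obtain ⟨t, ht, hte⟩ := Components.exists_mem_of_pElement_top hTp hE.1.1 (pow_mem hα i) hi
  -- the part of order prime to `p`
  set B := T ⊔ centralizerIn S T with hB
  obtain ⟨β, hβ, hβα, hβc⟩ := hE.2 _ (pow_mem hα j)
  have hBS : B ≤ S := sup_le hTS inf_le_left
  have hT₂C : T₂ ≤ centralizerIn S T := fun y hy =>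
    ⟨h₂.1 hy, Subgroup.mem_centralizer_iff.2 fun x hx => hc x hx y hy⟩
  have hCC : C ≤ centralizerIn S T := fun c hc' =>
    ⟨hc'.1, Subgroup.centralizer_le (le_sup_left : T ≤ U) hc'.2⟩
  have hKB : U ⊔ C ≤ B := sup_le (sup_le le_sup_left (hT₂C.trans le_sup_right))
    (hCC.trans le_sup_right)
  have hβm := (mem_autGroup_iff hBS).1 hβ
  have hβT : ∀ x ∈ T, autFun β x = autFun (α ^ j) x := fun x hx => by
    rw [autFun_apply β (Subgroup.mem_sup_left hx), autFun_apply _ hx]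
    exact hβα ⟨x, hx⟩
  have hβd : ∀ c ∈ centralizerIn S T, c⁻¹ * autFun β c ∈ Z := fun c hc' => by
    rw [autFun_apply β (Subgroup.mem_sup_right hc')]
    exact hβc ⟨c, Subgroup.mem_sup_right hc'⟩ hc'
  have hαZ : ∀ z ∈ Z, autFun (α ^ j) z ∈ Z := fun z hz => by
    refine Subgroup.mem_inf.2 ⟨autFun_mem _ hz.1, Subgroup.mem_centralizer_iff.2 fun x hx => ?_⟩
    have hx' := autFun_mem (α ^ j)⁻¹ hx
    have hm := (mem_autGroup_iff le_rfl).1 (pow_mem hα j)
    rw [← PPrime.autFun_symm' (α := α ^ j) hx, ← hm.map_mul hx' hz.1,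
      Subgroup.mem_centralizer_iff.1 hz.2 _ hx', hm.map_mul hz.1 hx']
  have hA : ∀ z ∈ T ⊓ T₂, autFun β z = z := fun z hz => by
    rw [hβT z hz.1]
    exact center_fixed ((mem_autGroup_iff le_rfl).1 (pow_mem hα j)) hz.1 (hZ hz)
  have hdisp : ∀ m : ℕ, ∀ c ∈ centralizerIn S T, c⁻¹ * autFun (β ^ m) c ∈ Z := by
    intro m
    induction m with
    | zero =>
      intro c hc'
      rw [pow_zero, autFun_one (Subgroup.mem_sup_right hc'), inv_mul_cancel]
      exact one_mem _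
    | succ m ih =>
      intro c hc'
      have hz := ih c hc'
      set z := c⁻¹ * autFun (β ^ m) c with hzd
      rw [pow_succ', autFun_mul _ _ (Subgroup.mem_sup_right hc'),
        show autFun (β ^ m) c = c * z by rw [hzd, mul_inv_cancel_left],
        autFun_map_mul β (Subgroup.mem_sup_right hc') (Subgroup.mem_sup_left hz.1), hβT z hz.1,
        ← mul_assoc]
      exact mul_mem (hβd c hc') (hαZ z hz)
  obtain ⟨n, hn⟩ := IsPGroup.iff_card.1 hS
  have hfix : ∀ y ∈ T₂, autFun (β ^ p ^ n) y = y :=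
    pow_fix_step hBS hn (hT₂C.trans le_sup_right) (M := T ⊓ T₂)
      (inf_le_left.trans le_sup_left) hA fun y hy =>
      Subgroup.mem_inf.2 ⟨(hβd y (hT₂C hy)).1, T₂.mul_mem (T₂.inv_mem hy)
        (cl_mem h₂ hβm (Subgroup.mem_sup_right (hT₂C hy)) hy)⟩
  obtain ⟨m, hm⟩ := Components.exists_pow_pow_eq hj n
  set γ := (β ^ p ^ n) ^ m with hγd
  have hγT : ∀ x ∈ T, autFun γ x = autFun (α ^ j) x := fun x hx => by
    rw [hγd, ← pow_mul, autFun_pow_eq le_sup_left hβT _ x hx, pow_mul, hm]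
  have hγ₂ : ∀ y ∈ T₂, autFun γ y = y := fun y hy => by
    have hyB : y ∈ B := Subgroup.mem_sup_right (hT₂C hy)
    have hind : ∀ k : ℕ, autFun ((β ^ p ^ n) ^ k) y = y := fun k => by
      induction k with
      | zero => rw [pow_zero, autFun_one hyB]
      | succ k ih => rw [pow_succ', autFun_mul _ _ hyB, ih, hfix y hy]
    exact hind m
  have hγm : IsMap F (U ⊔ C) (autFun γ) :=
    ((mem_autGroup_iff hBS).1 (pow_mem (pow_mem hβ _) _)).mono hKB
  refine ⟨_, hγm.comp (isMap_conj le_rfl (hTS ht)) fun z hz => hγm.mem_S hz, fun x hx => ?_,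
    fun y hy => ?_, fun c hc' => ?_⟩
  · show t * autFun γ x * t⁻¹ = _
    rw [hγT x hx, ← hte _ (autFun_mem _ hx), ← autFun_mul _ _ hx, ← hij]
  · show t * autFun γ y * t⁻¹ = _
    rw [hγ₂ y hy, hc t ht y hy, mul_inv_cancel_right]
  · show c⁻¹ * (t * autFun γ c * t⁻¹) ∈ Z
    have hd := hdisp (p ^ n * m) c (hCC hc')
    rw [pow_mul, ← hγd] at hd
    set z := c⁻¹ * autFun γ c with hzd
    rw [show autFun γ c = c * z by rw [hzd, mul_inv_cancel_left]]
    have h1 := Subgroup.mem_centralizer_iff.1 (hCC hc').2 t ht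
    have h2 := Subgroup.mem_centralizer_iff.1 hd.2 t ht
    rw [show c⁻¹ * (t * (c * z) * t⁻¹) = z by
      rw [← mul_assoc t, h1, mul_assoc c, h2]; group]
    exact hd

/-- The maps of a normal subsystem extend fixing `T₂`. -/
theorem fixExt_of_normal (hS : IsPGroup p S) (hE : E.IsNormalIn F p) (h₂ : F.StronglyClosed T₂)
    (hc : ∀ x ∈ T, ∀ y ∈ T₂, x * y = y * x) (hZ : T ⊓ T₂ ≤ E.center) (hf : IsMap E P f) :
    FixExt F T₂ P f := by
  have hs := Side.of_weaklyNormal hS hE.1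
  haveI := finite_of_le hs.le
  obtain ⟨α, hα, e, he, hfe⟩ := PPrime.frattini (𝒞 := {R | E.IsCentric R})
    (fun R hR R' hc' => isCentric_of_isConj hR hc') (hS.to_le hs.le) hs.sat
    (fun R hR => hR.1) hf
  obtain ⟨h, hh, hhα, hh2, -⟩ := exists_top_ext hS hE h₂ hc hZ hα
  have hA : FixExt F T₂ T (autFun α) := ⟨h, hh.mono le_sup_left, hhα, hh2⟩
  exact ((fixExt_eMap hS hE.1.2.1 hs h₂ hc he).comp hA fun x hx => he.isMap.mem_S hx).congr hfe

end CfsgLib.Fusion.Meet
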