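import Cfsg.Agent.Lib.Fusion.System.Meet.Lift
import Cfsg.Agent.Lib.Fusion.System.Meet.FixExt

/-!
# Extending automorphisms of a normal subsystem across a strongly closed subgroup

If `M` is normal over `U` and `T` is strongly closed, an automorphism of order prime to `p` in `M`
of a fully normalized self-centralizing `W ≤ U` with `U ⊓ T ≤ W` and `T ≤ N_S(W)`, fixing `U ⊓ T`
pointwise, extends to `W T` fixing `T` pointwise.
-/

set_option autoImplicit false
set_option maxHeartbeats 1000000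
set_option linter.style.haveILetI false
set_option linter.unusedSectionVars false

open Subgroup
open scoped Classical Pointwise

namespace CfsgLib.Fusion.Meet

open Cfsg (FusionSystem autInducedBy)
open Cfsg.FusionSystem (normalizerIn centralizerIn)
open CfsgLib.Fusion CfsgLib.Fusion.CentLift

universe u

variable {Ω : Type u} [Group Ω] {S U T : Subgroup Ω} {F : FusionSystem S} {M : FusionSystem U}
  {p : ℕ} {W : Subgroup Ω} {f g : Ω → Ω} [Finite S] [Fact p.Prime]

/-- A normal `p`-subgroup of the stabilizer of `Q C_S(Q)` is induced by `N_S(Q)`. -/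
theorem LModel.exists_conj_of_normal (L : LModel F p W) {D : Subgroup (MulAut (base S W))}
    (hD : D ≤ stabR F W) (hn : ∀ a ∈ stabR F W, ∀ b ∈ D, a * b * a⁻¹ ∈ D) (hp : IsPGroup p D)
    {b : MulAut (base S W)} (hb : b ∈ D) :
    ∃ s ∈ normalizerIn S W, IsConjBy b s := by
  obtain ⟨Y, hY⟩ := L.sylow
  let φ : L.G →* stabR F W := L.actHom.codRestrict _ L.act_stab
  have hφ : Function.Surjective φ := fun a => by
    obtain ⟨g, hg⟩ := L.exists_act_eq a.2
    exact ⟨g, Subtype.ext hg⟩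
  haveI : Finite (stabR F W) := Finite.of_surjective φ hφ
  haveI : (D.subgroupOf (stabR F W)).Normal := ⟨fun x hx a => hn _ a.2 _ hx⟩
  have h1 := (hp.of_equiv (Subgroup.subgroupOfEquivOfLe hD).symm).le_sylow_of_normal
    (Y.mapSurjective hφ) (show (⟨b, hD hb⟩ : stabR F W) ∈ D.subgroupOf (stabR F W) from hb)
  rw [Sylow.coe_mapSurjective] at h1
  obtain ⟨z, hz, hze⟩ := h1
  obtain ⟨⟨s, hs⟩, rfl⟩ := hY.le hz
  refine ⟨s, hs, fun x hx => ?_⟩
  have h2 : L.act (L.e s) = b := by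
    have := congrArg Subtype.val hze
    rw [LModel.e, ext1_apply L.ι hs]
    exact this
  rw [← h2, L.act_e hs, autFun_conjAut _ hx]

variable (h : Setup F p M M U) (hM : M.IsNormalIn F p) (hT : F.StronglyClosed T)
include h hM hT

/-- Automorphisms in `M` fixing `U ⊓ T` extend fixing `T`. -/
theorem ext_fix (hW : F.IsFullyNormalized W) (hWs : SelfC F U W) (hTW : U ⊓ T ≤ W)
    (hTN : T ≤ normalizerIn S W) {γ : MulAut W} (hγ : γ ∈ M.autGroup W)
    (hco : (orderOf γ).Coprime p) (hfix : ∀ z ∈ U ⊓ T, autFun γ z = z) :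
    FixExt F T W (autFun γ) := by
  have hS := h.pgroup
  have hF := h.sat
  have hTS := hT.1
  have hUS := h.hTS
  have hWU := hWs.le
  have hWS := hW.1
  have hWc := IsSaturated.isFullyCentralized hS hF hW
  have hU'S : F.StronglyClosed (U ⊓ T) := stronglyClosed_inf h.closed hT
  obtain ⟨a, ha, had, hae⟩ := dlift h hM hWs hWc hγ
  have hRS := base_le (S := S) hWS
  have hWR : W ≤ base S W := le_sup_left
  have hCR : centralizerIn S W ≤ base S W := le_sup_right
  haveI := finite_of_le hUS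
  haveI := finite_of_le hRS
  haveI := finite_mulAut (P := base S W)
  have hsm : ∀ b ∈ stabR F W, IsMap F (base S W) (autFun b) := fun b hb =>
    (mem_autGroup_iff hRS).1 hb.1
  have hcl : ∀ b ∈ stabR F W, ∀ z ∈ U ⊓ T, autFun b z ∈ U ⊓ T := fun b hb z hz =>
    cl_mem hU'S (hsm b hb) (hWR (hTW hz)) hz
  -- the displacement subgroups
  let D1 : Subgroup (MulAut (base S W)) :=
    { carrier := {b | b ∈ stabR F W ∧ ∀ x ∈ W, x⁻¹ * autFun b x ∈ U ⊓ T}
      one_mem' := ⟨one_mem _, fun x hx => by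
        rw [autFun_one (hWR hx), inv_mul_cancel]; exact one_mem _⟩
      mul_mem' := fun {b c} hb hc => ⟨mul_mem hb.1 hc.1, fun x hx => by
        have hz := hc.2 x hx
        rw [autFun_mul _ _ (hWR hx), show autFun c x = x * (x⁻¹ * autFun c x) by group,
          autFun_map_mul b (hWR hx) (hWR (hTW hz)), ← mul_assoc]
        exact mul_mem (hb.2 x hx) (hcl b hb.1 _ hz)⟩
      inv_mem' := fun {b} hb => ⟨inv_mem hb.1, fun x hx => by
        have h1 := hb.2 _ (stab_mem (inv_mem hb.1) hx)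
        rw [PPrime.autFun_symm' (hWR hx)] at h1
        have h2 := inv_mem h1
        rwa [mul_inv_rev, inv_inv] at h2⟩ }
  have hD1n : ∀ c ∈ stabR F W, ∀ b ∈ D1, c * b * c⁻¹ ∈ D1 := fun c hc b hb => by
    refine ⟨mul_mem (mul_mem hc hb.1) (inv_mem hc), fun x hx => ?_⟩
    have hy := stab_mem (inv_mem hc) hx
    have hz := hb.2 _ hy
    have h1 := hcl c hc _ hz
    rw [(hsm c hc).map_mul (inv_mem (hWR hy)) (autFun_mem b (hWR hy)),
      (hsm c hc).map_inv (hWR hy), PPrime.autFun_symm' (hWR hx)] at h1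
    rwa [autFun_mul _ _ (hWR hx), autFun_mul _ _ (autFun_mem _ (hWR hx))]
  let NR : Subgroup (MulAut (base S W)) :=
    { carrier := {b | b ∈ D1 ∧ b ∈ dispU F U W hWS h.closed ∧ ∀ z ∈ U ⊓ T, autFun b z = z}
      one_mem' := ⟨one_mem _, one_mem _, fun z hz => autFun_one (hWR (hTW hz))⟩
      mul_mem' := fun {b c} hb hc => ⟨mul_mem hb.1 hc.1, mul_mem hb.2.1 hc.2.1, fun z hz => by
        rw [autFun_mul _ _ (hWR (hTW hz)), hc.2.2 z hz, hb.2.2 z hz]⟩
      inv_mem' := fun {b} hb => ⟨inv_mem hb.1, inv_mem hb.2.1, fun z hz => by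
        conv_lhs => rw [← hb.2.2 z hz, PPrime.autFun_symm (hWR (hTW hz))]⟩ }
  have hNn : ∀ c ∈ stabR F W, ∀ b ∈ NR, c * b * c⁻¹ ∈ NR := fun c hc b hb =>
    ⟨hD1n c hc b hb.1, dispU_conj hc hb.2.1, fun z hz => by
      have hzR := hWR (hTW hz)
      rw [autFun_mul _ _ hzR, autFun_mul _ _ (autFun_mem _ hzR),
        hb.2.2 _ (hcl _ (inv_mem hc) z hz), PPrime.autFun_symm' hzR]⟩
  obtain ⟨n, hn⟩ := IsPGroup.iff_card.1 hS
  have hNp : IsPGroup p NR := fun b => ⟨n + n, Subtype.ext <| autFun_ext fun x hx => by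
    obtain ⟨b, hb⟩ := b
    have h1 : ∀ y ∈ W, autFun (b ^ p ^ n) y = y :=
      pow_fix_step hRS hn hWR (hTW.trans hWR) hb.2.2 hb.1.2
    have h2 : b ^ p ^ n ∈ dispU F U W hWS h.closed := pow_mem hb.2.1 _
    rw [SubmonoidClass.coe_pow, pow_add, pow_mul, OneMemClass.coe_one, autFun_one hx]
    exact pow_fix_step hRS hn le_rfl hWR h1 (fun y hy =>
      mem_of_mem_base hUS hWs (mul_mem (inv_mem hy) (autFun_mem _ hy)) (h2.2 y hy)) x hx⟩
  obtain ⟨L⟩ := exists_lModel hS hF hW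
  have haM : a ∈ dispU F U W hWS h.closed := ⟨ha, had⟩
  have hafix : ∀ z ∈ U ⊓ T, autFun a z = z := fun z hz => by rw [hae z (hTW hz), hfix z hz]
  have hainv : ∀ z ∈ U ⊓ T, autFun a⁻¹ z = z := fun z hz => by
    conv_lhs => rw [← hafix z hz, PPrime.autFun_symm (hWR (hTW hz))]
  have hnormT : ∀ t ∈ T, ∀ z ∈ U ⊓ T, t * z * t⁻¹ ∈ U ⊓ T := fun t ht z hz =>
    ⟨(Subgroup.mem_normalizer_iff.1 (h.normal (hTS ht)) z).1 hz.1,
      T.mul_mem (T.mul_mem ht hz.2) (T.inv_mem ht)⟩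
  have hdispT : ∀ t ∈ T, ∀ x ∈ W, x⁻¹ * (t * x * t⁻¹) ∈ U ⊓ T := fun t ht x hx =>
    ⟨U.mul_mem (U.inv_mem (hWU hx))
        ((Subgroup.mem_normalizer_iff.1 (h.normal (hTS ht)) x).1 (hWU hx)),
      by
        rw [show x⁻¹ * (t * x * t⁻¹) = x⁻¹ * t * x⁻¹⁻¹ * t⁻¹ by group]
        exact T.mul_mem ((Subgroup.mem_normalizer_iff.1 ((le_normalizerIn_of_stronglyClosed hT
          (S.inv_mem (hWS hx))).2) t).1 ht) (T.inv_mem ht)⟩
  -- `T` normalises the lift
  have key : ∀ t ∈ T, ∃ s ∈ normalizerIn S W, (∃ u ∈ normalizerIn U W,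
      u⁻¹ * s ∈ centralizerIn S W) ∧
      ∀ x ∈ base S W, autFun a (t * x * t⁻¹) = s * t * autFun a x * (s * t)⁻¹ := by
    intro t ht
    have htN := hTN ht
    set ct := conjAut t (mem_normalizer_base le_rfl htN) with hct
    have hcts : ct ∈ stabR F W := conjAut_mem_stabR hWS htN
    have hctD : ct ∈ D1 := ⟨hcts, fun x hx => by
      rw [hct, autFun_conjAut _ (hWR hx)]; exact hdispT t ht x hx⟩
    set δ := a * ct * a⁻¹ * ct⁻¹ with hδd
    have hδ : δ ∈ NR := by
      refine ⟨mul_mem (hD1n a ha ct hctD) (inv_mem hctD), ?_, fun z hz => ?_⟩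
      · rw [hδd, show a * ct * a⁻¹ * ct⁻¹ = a * (ct * a⁻¹ * ct⁻¹) by group]
        exact mul_mem haM (dispU_conj hcts (inv_mem haM))
      · have hzR := hWR (hTW hz)
        have hw : autFun ct⁻¹ z ∈ U ⊓ T := hcl _ (inv_mem hcts) z hz
        rw [hδd, autFun_mul _ _ hzR, autFun_mul _ _ (autFun_mem _ hzR),
          autFun_mul _ _ (autFun_mem _ (autFun_mem _ hzR)), hainv _ hw,
          PPrime.autFun_symm' hzR, hafix z hz]
    obtain ⟨s, hs, hse⟩ := L.exists_conj_of_normal (D := NR) (fun b hb => hb.1.1) hNn hNp hδ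
    -- on `W` it lies in `M`
    set ctW := conjAut t htN.2 with hctW
    have hctWF : ctW ∈ F.autGroup W := autInducedBy_le_autGroup hWS (conjAut_mem htN.1 htN.2)
    have hM1 : γ * ctW * γ⁻¹ * ctW⁻¹ ∈ M.autGroup W := by
      rw [show γ * ctW * γ⁻¹ * ctW⁻¹ = γ * (ctW * γ⁻¹ * ctW⁻¹) by group]
      exact mul_mem hγ (conj_mem_autGroup h.side₁ hWU hctWF (inv_mem hγ))
    have hres : ∀ x ∈ W, autFun (γ * ctW * γ⁻¹ * ctW⁻¹) x = s * x * s⁻¹ := fun x hx => by
      have hc1 : ∀ z ∈ W, autFun ct z = autFun ctW z := fun z hz => by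
        rw [hct, autFun_conjAut _ (hWR hz), hctW, autFun_conjAut _ hz]
      have hc2 : ∀ z ∈ W, autFun ct⁻¹ z = autFun ctW⁻¹ z := fun z hz => by
        conv_lhs => rw [← PPrime.autFun_symm' (α := ctW) hz, ← hc1 _ (autFun_mem _ hz),
          PPrime.autFun_symm (hWR (autFun_mem _ hz))]
      have ha2 : ∀ z ∈ W, autFun a⁻¹ z = autFun γ⁻¹ z := fun z hz => by
        conv_lhs => rw [← PPrime.autFun_symm' (α := γ) hz, ← hae _ (autFun_mem _ hz),
          PPrime.autFun_symm (hWR (autFun_mem _ hz))]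
      have hxR := hWR hx
      rw [← hse x hxR, hδd, autFun_mul _ _ hxR, autFun_mul _ _ (autFun_mem _ hxR),
        autFun_mul _ _ (autFun_mem _ (autFun_mem _ hxR)), hc2 x hx, ha2 _ (autFun_mem _ hx),
        hc1 _ (autFun_mem _ (autFun_mem _ hx)), hae _ (autFun_mem _ (autFun_mem _ (autFun_mem _ hx))),
        autFun_mul _ _ hx, autFun_mul _ _ (autFun_mem _ hx),
        autFun_mul _ _ (autFun_mem _ (autFun_mem _ hx))]
    have hMM := isNormalIn_self (hS.to_le hUS) h.side₁.sat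
    have hlab : Lab F M M U p W (fun x => s * x * s⁻¹) 1 :=
      ((isMap_meetSys h).1 (Components.isMap_of_sub (sub_meetSys h hM hMM hMM)
        ((mem_autGroup_iff hWU).1 hM1))).congr fun x hx => (hres x hx).symm
    obtain ⟨u, hu, hue⟩ := exists_T_of_lab_conj h hWs hWc hs hlab
    have huN : u ∈ Subgroup.normalizer (W : Set Ω) :=
      mem_normalizer_of_autFun (α := conjAut s hs.2) fun x hx => by
        rw [autFun_conjAut _ hx, hue x hx]
    refine ⟨s, hs, ⟨u, ⟨hu, huN⟩, S.mul_mem (S.inv_mem (hUS hu)) hs.1,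
      Subgroup.mem_centralizer_iff.2 fun x hx => ?_⟩, fun x hx => ?_⟩
    · calc x * (u⁻¹ * s) = u⁻¹ * (u * x * u⁻¹) * s := by group
        _ = u⁻¹ * (s * x * s⁻¹) * s := by rw [hue x hx]
        _ = u⁻¹ * s * x := by group
    · have hax := autFun_mem a hx
      have htx : t * x * t⁻¹ = autFun ct x := by rw [hct, autFun_conjAut _ hx]
      have h1 : autFun δ (autFun ct (autFun a x)) = autFun a (autFun ct x) := by
        rw [hδd, autFun_mul _ _ (autFun_mem _ hax), PPrime.autFun_symm hax,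
          autFun_mul _ _ hax, autFun_mul _ _ (autFun_mem _ hax), PPrime.autFun_symm hx]
      rw [htx, ← h1, hse _ (autFun_mem _ hax), hct, autFun_conjAut _ hax]
      group
  -- the extension to `R T`
  have ham := hsm a ha
  obtain ⟨G, hG, hGe⟩ := (isReceptive_iff.1 (IsSaturated.isReceptive hS hF
    (isFullyCentralized_of_isCentric (isCentric_base hS hF hWc)))).2 (base S W) (autFun a) ham
      (img_autFun a)
  set Y := base S W ⊔ T with hY
  have hYS : Y ≤ S := sup_le hRS hTS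
  have hYe : Y ≤ extSub S (base S W) (autFun a) := sup_le (le_extSub ham) fun t ht => by
    obtain ⟨s, hs, -, he⟩ := key t ht
    exact ⟨⟨hTS ht, mem_normalizer_base le_rfl (hTN ht)⟩, s * t, mul_mem hs.1 (hTS ht), he⟩
  have hGY := hG.mono hYe
  have hRY : base S W ≤ Y := le_sup_left
  have hTY : T ≤ Y := le_sup_right
  have hGT : ∀ t ∈ T, G t ∈ T := fun t ht => cl_mem hT hGY (hTY ht) ht
  have hGi : img Y G = Y := img_eq_of_map_le hYS hGY le_rfl fun z hz => hGY.map_mem_of_sup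
    (fun x hx => Subgroup.mem_sup_left (by rw [hGe x hx]; exact autFun_mem a hx))
    (fun t ht => Subgroup.mem_sup_right (hGT t ht)) hz
  set b := autOf hGY hGi with hb
  have hbe : ∀ x ∈ Y, autFun b x = G x := fun x hx => autFun_autOf hGY hGi hx
  have hbT : ∀ t ∈ T, autFun b t ∈ T := fun t ht => by rw [hbe t (hTY ht)]; exact hGT t ht
  have hbfix : ∀ z ∈ U ⊓ T, autFun b z = z := fun z hz => by
    rw [hbe z (hTY hz.2), hGe z (hWR (hTW hz)), hafix z hz]
  let L1 : Subgroup Ω :=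
    { carrier := {x | x ∈ T ∧ x⁻¹ * autFun b x ∈ U ⊓ T}
      one_mem' := ⟨one_mem _, by rw [autFun_map_one, inv_one, one_mul]; exact one_mem _⟩
      mul_mem' := fun {x y} hx hy => ⟨mul_mem hx.1 hy.1, by
        rw [autFun_map_mul b (hTY hx.1) (hTY hy.1),
          show (x * y)⁻¹ * (autFun b x * autFun b y) =
            y⁻¹ * (x⁻¹ * autFun b x) * y⁻¹⁻¹ * (y⁻¹ * autFun b y) by group]
        exact mul_mem (hnormT _ (inv_mem hy.1) _ hx.2) hy.2⟩
      inv_mem' := fun {x} hx => ⟨inv_mem hx.1, by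
        rw [(((mem_autGroup_iff hYS).1 (autOf_mem hGY hGi))).map_inv (hTY hx.1),
          show x⁻¹⁻¹ * (autFun b x)⁻¹ = x * (x⁻¹ * autFun b x)⁻¹ * x⁻¹ by group]
        exact hnormT _ hx.1 _ (inv_mem hx.2)⟩ }
  have hL1Y : L1 ≤ Y := fun x hx => hTY hx.1
  have hdisp : ∀ t ∈ T, t⁻¹ * autFun b t ∈ L1 := fun t ht => by
    obtain ⟨s, hs, ⟨u, hu, huC⟩, he⟩ := key t ht
    have htY := hTY ht
    have hGt : t⁻¹ * autFun b t ∈ T := mul_mem (inv_mem ht) (hbT t ht)
    refine ⟨hGt, ?_, T.mul_mem (T.inv_mem hGt) (hbT _ hGt)⟩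
    set z := (s * t)⁻¹ * G t with hzd
    have hzR : z ∈ centralizerIn S W := by
      refine ⟨S.mul_mem (S.inv_mem (mul_mem hs.1 (hTS ht))) (hGY.mem_S htY),
        Subgroup.mem_centralizer_iff.2 fun w hw => ?_⟩
      have hwR := hWR hw
      have hv : autFun a⁻¹ w ∈ W := stab_mem (inv_mem ha) hw
      have h1 := he _ (hWR hv)
      have h2 : G t * w * (G t)⁻¹ = s * t * w * (s * t)⁻¹ := by
        rw [PPrime.autFun_symm' hwR] at h1
        rw [← h1, ← hGe _ ((Subgroup.mem_normalizer_iff.1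
          (mem_normalizer_base le_rfl (hTN ht)) _).1 (hWR hv)),
          hGY.map_conj htY (hRY (hWR hv)), hGe _ (hWR hv), PPrime.autFun_symm' hwR]
      calc w * ((s * t)⁻¹ * G t) = (s * t)⁻¹ * (s * t * w * (s * t)⁻¹) * G t := by group
        _ = (s * t)⁻¹ * G t * w := by rw [← h2]; group
    set v := t⁻¹ * u * t with hvd
    set c := v⁻¹ * (t⁻¹ * autFun b t) with hcd
    have hc : c ∈ centralizerIn S W := by
      rw [hcd, hvd, hbe t htY, show (t⁻¹ * u * t)⁻¹ * (t⁻¹ * G t) =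
        t⁻¹ * (u⁻¹ * s) * t⁻¹⁻¹ * ((s * t)⁻¹ * G t) by group]
      refine mul_mem ⟨S.mul_mem (S.mul_mem (S.inv_mem (hTS ht)) huC.1) (S.inv_mem (S.inv_mem (hTS ht))),
        Subgroup.mem_centralizer_iff.2 fun w hw => ?_⟩ hzR
      have h1 := Subgroup.mem_centralizer_iff.1 huC.2 _
        ((Subgroup.mem_normalizer_iff.1 (hTN ht).2 w).1 hw)
      calc w * (t⁻¹ * (u⁻¹ * s) * t⁻¹⁻¹) = t⁻¹ * (t * w * t⁻¹ * (u⁻¹ * s)) * t := by group
        _ = t⁻¹ * (u⁻¹ * s * (t * w * t⁻¹)) * t := by rw [h1]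
        _ = t⁻¹ * (u⁻¹ * s) * t⁻¹⁻¹ * w := by group
    have hvU : v ∈ U := by
      have h1 := (Subgroup.mem_normalizer_iff.1 (h.normal (inv_mem (hTS ht))) u).1 hu.1
      rwa [inv_inv] at h1
    have hcY : c ∈ Y := hRY (hCR hc)
    have hvY : v ∈ Y := by
      have : v = t⁻¹ * autFun b t * c⁻¹ := by rw [hcd]; group
      exact this ▸ mul_mem (hTY hGt) (inv_mem hcY)
    rw [show t⁻¹ * autFun b t = v * c by rw [hcd]; group, autFun_map_mul b hvY hcY,
      show (v * c)⁻¹ * (autFun b v * autFun b c) =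
        c⁻¹ * (v⁻¹ * autFun b v) * c⁻¹⁻¹ * (c⁻¹ * autFun b c) by group]
    refine mul_mem ((Subgroup.mem_normalizer_iff.1 (h.normal (inv_mem hc.1)) _).1 ?_) ?_
    · rw [hbe v hvY]
      exact mul_mem (inv_mem hvU) (cl_mem h.closed hGY hvY hvU)
    · rw [hbe c hcY, hGe c (hCR hc)]
      exact had c (hCR hc)
  have hbL : ∀ x ∈ L1, autFun b x ∈ L1 := fun x hx => by
    refine ⟨hbT x hx.1, ?_⟩
    have h1 := hbfix _ hx.2
    rw [autFun_map_mul b (inv_mem (hTY hx.1)) (autFun_mem b (hTY hx.1)),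
      ((mem_autGroup_iff hYS).1 (autOf_mem hGY hGi)).map_inv (hTY hx.1)] at h1
    rw [h1]
    exact hx.2
  have hpow : ∀ k : ℕ, ∀ t ∈ T, t⁻¹ * autFun (b ^ k) t ∈ L1 := by
    intro k
    induction k with
    | zero => intro t ht; rw [pow_zero, autFun_one (hTY ht), inv_mul_cancel]; exact one_mem _
    | succ k ih =>
      intro t ht
      have hz := ih t ht
      rw [pow_succ', autFun_mul _ _ (hTY ht),
        show autFun (b ^ k) t = t * (t⁻¹ * autFun (b ^ k) t) by group,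
        autFun_map_mul b (hTY ht) (hL1Y hz), ← mul_assoc]
      exact mul_mem (hdisp t ht) (hbL _ hz)
  have h1 : ∀ x ∈ L1, autFun (b ^ p ^ n) x = x :=
    pow_fix_step hYS hn hL1Y (inf_le_right.trans hTY) hbfix fun x hx => hx.2
  have h2 : ∀ t ∈ T, autFun ((b ^ p ^ n) ^ p ^ n) t = t :=
    pow_fix_step hYS hn hTY hL1Y h1 (hpow _)
  have hbW : ∀ x ∈ W, autFun b x = autFun γ x := fun x hx => by
    rw [hbe x (hRY (hWR hx)), hGe x (hWR hx), hae x hx]
  obtain ⟨m, hm⟩ := Components.exists_pow_pow_eq hco (n + n)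
  refine ⟨autFun (((b ^ p ^ n) ^ p ^ n) ^ m), ((mem_autGroup_iff hYS).1 (pow_mem (pow_mem
    (pow_mem (autOf_mem hGY hGi) _) _) _)).mono (sup_le (hWR.trans hRY) hTY), fun x hx => ?_,
    fun t ht => ?_⟩
  · have h3 := autFun_pow_eq (hWR.trans hRY) hbW (p ^ (n + n) * m) x hx
    rw [← pow_mul, ← pow_mul, ← mul_assoc, ← pow_add, h3, pow_mul γ, hm]
  · clear hm
    induction m with
    | zero => rw [pow_zero, autFun_one (hTY ht)]
    | succ k ih => rw [pow_succ, autFun_mul _ _ (hTY ht), h2 t ht, ih]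

end CfsgLib.Fusion.Meet
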