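import Cfsg.Agent.Lib.Fusion.System.Meet.Rec
import Cfsg.Agent.Lib.Fusion.System.SubsystemCentric

/-!
# Every map inside `T` has a label
-/

set_option autoImplicit false
set_option maxHeartbeats 1000000
set_option linter.style.haveILetI false
set_option linter.unusedSectionVars false

open Subgroup
open scoped Classical Pointwise

namespace CfsgLib.Fusion.Meet

open Cfsg (FusionSystem autInducedBy)
open Cfsg.FusionSystem (normalizerIn centralizerIn)
open CfsgLib.Fusion CfsgLib.Fusion.CentLift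

universe u

variable {Ω : Type u} [Group Ω] {S T T₁ T₂ : Subgroup Ω} {F : FusionSystem S} {p : ℕ}
  {E₁ : FusionSystem T₁} {E₂ : FusionSystem T₂} {P Q R X : Subgroup Ω} {f g : Ω → Ω}
  [Finite S] [Fact p.Prime] (h : Setup F p E₁ E₂ T)
include h

theorem selfC_T : SelfC F T T :=
  ⟨le_rfl, fun f hf => by
    have hi : img T f = T := img_eq_of_map_le h.hTS hf le_rfl
      ((stronglyClosed_iff.1 h.closed).2 T f le_rfl hf)
    rw [hi]; exact inf_le_left⟩

theorem mem_T_of_map (hf : IsMap F R f) {x : Ω} (hx : x ∈ R) (hxT : x ∈ T) : f x ∈ T :=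
  cl_mem h.closed hf hx hxT

theorem normalizerIn_T_le : normalizerIn T P ≤ normalizerIn S P := inf_le_inf_right _ h.hTS

theorem lt_normalizerIn_T (hPT : P ≤ T) (hne : P ≠ T) : P < normalizerIn T P := by
  haveI := finite_of_le h.hTS
  exact lt_normalizerIn (h.pgroup.to_le h.hTS) hPT hne

theorem card_T_sub_lt (hPT : P ≤ T) (hne : P ≠ T) (hRT : R ≤ T)
    (hR : Nat.card (normalizerIn T P) ≤ Nat.card R) :
    Nat.card T - Nat.card R < Nat.card T - Nat.card P := by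
  have h1 : Nat.card P < Nat.card (normalizerIn T P) := card_lt_of_lt
    ((inf_le_left : normalizerIn T P ≤ T).trans h.hTS) (lt_normalizerIn_T h hPT hne)
  have h2 : Nat.card R ≤ Nat.card T := card_le_of_le' h.hTS hRT
  omega

/-- An automorphism of `Q` is one normalizing `Aut_T(Q)` after a local one. -/
theorem exists_factor (M : LModel F p Q) (hQ : F.IsFullyNormalized Q) (hQs : SelfC F T Q)
    {a : MulAut Q} (ha : a ∈ F.autGroup Q) :
    ∃ k ∈ M.mGroup h hQs.le, ∃ b, IsMap F (normalizerIn T Q) b ∧ (∀ q ∈ Q, b q ∈ Q) ∧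
      (∀ x ∈ normalizerIn T Q, b x ∈ normalizerIn T Q) ∧
        ∀ q ∈ Q, autFun a q = b (autFun k q) := by
  have hQS := hQ.1
  have hQT := hQs.le
  haveI := finite_of_le hQS
  haveI := finite_mulAut (P := Q)
  set A := autInducedBy T Q with hA
  set Mg := M.mGroup h hQT with hMg
  have hAM : A ≤ Mg := M.autInducedBy_le_mGroup h hQT
  have hAp : IsPGroup p A := (isPGroup_autInducedBy h.pgroup).to_le (autInducedBy_mono h.hTS)
  have hconj : conjBy a A ≤ Mg :=
    conjBy_le_iff.2 fun x hx => M.conj_mem_mGroup h hQ hQT ha (hAM hx)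
  obtain ⟨m, hm, hmA⟩ := exists_conj_le_of_not_dvd_relIndex hAp hAM
    (M.not_dvd_relIndex_mGroup h hQ hQT) (isPGroup_conjBy a hAp) hconj
  have hmF := M.mGroup_le h hQT hm
  set g := m * a with hg
  have hgF : g ∈ F.autGroup Q := mul_mem hmF ha
  set k := g⁻¹ * m⁻¹ * g with hk
  have hkM : k ∈ Mg := by
    have := M.conj_mem_mGroup h hQ hQT (inv_mem hgF) (inv_mem hm)
    rwa [inv_inv] at this
  obtain ⟨b, hb, hbe⟩ := (isReceptive_iff.1 (IsSaturated.automized_receptive h.pgroup h.sat hQ).2).2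
    Q (autFun g) ((mem_autGroup_iff hQS).1 hgF) (img_autFun g)
  have hNe : normalizerIn T Q ≤ extSub S Q (autFun g) := fun x hx => by
    have h1 := hmA (conj_mem_conjBy (g := m) (conj_mem_conjBy (g := a) (conjAut_mem hx.1 hx.2)))
    obtain ⟨t, ht, hte⟩ := mem_autInducedBy_iff.1 h1
    refine ⟨⟨h.hTS hx.1, hx.2⟩, t, h.hTS ht, fun q hq => ?_⟩
    have h2 := hte _ (autFun_mem g hq)
    rw [show m * (a * conjAut x hx.2 * a⁻¹) * m⁻¹ = g * conjAut x hx.2 * g⁻¹ by rw [hg]; group,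
      autFun_mul _ _ (autFun_mem g hq), PPrime.autFun_symm hq, autFun_mul _ _ hq,
      autFun_conjAut hx.2 hq] at h2
    exact h2
  have hbm := hb.mono hNe
  have hbQ : ∀ q ∈ Q, b q ∈ Q := fun q hq => by rw [hbe q hq]; exact autFun_mem g hq
  have hib : img Q b = Q := img_eq_of_map_le hQS hbm (le_normalizerIn hQT) hbQ
  refine ⟨k, hkM, b, hbm, hbQ, fun x hx => ?_, fun q hq => ?_⟩
  · have h1 := map_mem_normalizerIn hbm (le_normalizerIn hQT) hx hx.2
    rw [hib] at h1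
    exact ⟨mem_T_of_map h hbm hx hx.1, h1.2⟩
  · rw [hbe _ (autFun_mem k hq), ← autFun_mul _ _ hq,
      show g * k = a by rw [hk, hg]; group]

/-- A local automorphism of `Q` is labelled by `1`. -/
theorem lab_of_mGroup (M : LModel F p Q) (hQ : F.IsFullyNormalized Q) (hQs : SelfC F T Q)
    {k : MulAut Q} (hk : k ∈ M.mGroup h hQs.le) : Lab F E₁ E₂ T p Q (autFun k) 1 := by
  have hkm := (mem_autGroup_iff hQ.1).1 (M.mGroup_le h hQs.le hk)
  obtain ⟨e, he, hee⟩ := M.exists_lab_ext h hQ hQs hk le_rfl (le_normalizerIn hQs.le)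
    fun y hy => ⟨autFun k y, hQs.le (autFun_mem k hy), fun q hq => hkm.map_conj hy hq⟩
  exact he.congr fun q hq => (hee q hq).symm

theorem exists_lab_selfC (hf : IsMap F P f) (hP : SelfC F T P) :
    ∃ γ, Lab F E₁ E₂ T p P f γ := by
  induction hk : Nat.card T - Nat.card P using Nat.strong_induction_on generalizing P f with
  | _ n ih =>
  subst hk
  by_cases hPT : P = T
  · subst hPT
    have hi : img P f = P := img_eq_of_map_le h.hTS hf le_rfl
      ((stronglyClosed_iff.1 h.closed).2 P f le_rfl hf)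
    exact ⟨autOf hf hi, (Lab.top (autOf_mem hf hi)).congr fun x hx => (autFun_autOf hf hi hx).symm⟩
  obtain ⟨Q, hPQ, hQ⟩ := exists_fullyNormalized (F := F) hf.le
  obtain ⟨hau, hre⟩ := IsSaturated.automized_receptive h.pgroup h.sat hQ
  obtain ⟨φ, hφ, hφQ, hφN⟩ := exists_map_normalizer h.pgroup hau hre hPQ
  obtain ⟨φ', hφ', hφ'Q, -⟩ := exists_map_normalizer h.pgroup hau hre
    (isConj_trans (isConj_symm (isConj_iff.2 ⟨f, hf, rfl⟩)) hPQ)
  have hPf := hP.map h.closed hf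
  have hPN : P ≤ normalizerIn S P := le_normalizerIn hf.le
  have hfN : img P f ≤ normalizerIn S (img P f) := le_normalizerIn hf.img_le
  have hQs : SelfC F T Q := hφQ ▸ hP.map h.closed (hφ.mono hPN)
  have hcard : Nat.card (img P f) = Nat.card P := hf.card_img
  have hfT : img P f ≠ T := fun e => hPT (eq_of_le_of_card_le h.hTS hP.le (by rw [← hcard, e]))
  have hQc : Nat.card Q = Nat.card P := isConj_card hPQ
  have hQT' : Q ≠ T := fun e => hPT (eq_of_le_of_card_le h.hTS hP.le (by rw [← hQc, e]))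
  have key : ∀ {R : Subgroup Ω}, Nat.card R = Nat.card P → R ≠ T → SelfC F T R → ∀ {b : Ω → Ω},
      IsMap F (normalizerIn T R) b → ∃ γ, Lab F E₁ E₂ T p R b γ := by
    intro R hR hRT hRs b hb
    obtain ⟨γ, hγ⟩ := ih _ (hR ▸ card_T_sub_lt h hRs.le hRT inf_le_left le_rfl) hb
      (hRs.mono (le_normalizerIn hRs.le) inf_le_left) rfl
    exact ⟨γ, hγ.mono (le_normalizerIn hRs.le)⟩
  obtain ⟨c, hc⟩ := key rfl hPT hP (hφ.mono (normalizerIn_T_le h))
  obtain ⟨c', hc'⟩ := key hcard hfT hPf (hφ'.mono (normalizerIn_T_le h))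
  obtain ⟨φi, hφi, hφi1, hφi2⟩ := (hφ.mono hPN).exists_inv
  rw [hφQ] at hφi hφi2
  have hmf : ∀ x ∈ P, f x ∈ img P f := fun x hx => hf.mem_img.2 ⟨x, hx, rfl⟩
  have hφ'P := hφ'.mono hfN
  have hm : ∀ x ∈ P, φ' (f x) ∈ Q := fun x hx =>
    hφ'Q.le (hφ'P.mem_img.2 ⟨f x, hmf x hx, rfl⟩)
  have ha0 : IsMap F Q (φ' ∘ f ∘ φi) :=
    (hφi.comp hf fun y hy => (hφi2 y hy).1).comp hφ'P fun y hy => hmf _ (hφi2 y hy).1
  have hai : img Q (φ' ∘ f ∘ φi) = Q :=
    img_eq_of_map_le hQ.1 ha0 le_rfl fun y hy => hm _ (hφi2 y hy).1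
  obtain ⟨M⟩ := exists_lModel h.pgroup h.sat hQ
  obtain ⟨k, hk, b, hb, hbQ, -, hbe⟩ := exists_factor h M hQ hQs (autOf_mem ha0 hai)
  obtain ⟨μ, hμ⟩ := key hQc hQT' hQs hb
  have hφm : ∀ x ∈ P, φ x ∈ Q := fun x hx => hφQ.le ((hφ.mono hPN).mem_img.2 ⟨x, hx, rfl⟩)
  have hak := hc.comp ((lab_of_mGroup h M hQ hQs hk).comp hμ fun q hq => autFun_mem k hq) hφm
  obtain ⟨φ'i, hφ'i, hφ'i1, -⟩ := hc'.exists_inv h
  rw [hφ'Q] at hφ'i
  refine ⟨_, (hak.comp hφ'i fun x hx => hbQ _ (autFun_mem k (hφm x hx))).congr fun x hx => ?_⟩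
  show f x = φ'i (b (autFun k (φ x)))
  rw [← hbe _ (hφm x hx), autFun_autOf ha0 hai (hφm x hx)]
  show f x = φ'i (φ' (f (φi (φ x))))
  rw [hφi1 x hx, hφ'i1 _ (hmf x hx)]

/-- All maps of `F`, seen as a system on `T`. -/
noncomputable def fullSys : FusionSystem T :=
  mkSystem F T (fun P f => IsMap F P f ∧ P ≤ T)
    (fun P f hf => ⟨hf.1, hf.2, fun x hx => (stronglyClosed_iff.1 h.closed).2 P f hf.2 hf.1 x hx⟩)
    (fun P f g hf he => ⟨hf.1.congr he, hf.2⟩)
    (fun P t hP ht => ⟨isMap_conj (hP.trans h.hTS) (h.hTS ht), hP⟩)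
    (fun P R f g hf hg hm => ⟨hf.1.comp hg.1 hm, hf.2⟩)
    (fun P f f' hf hf' _ => ⟨hf', hf.1.img_le_of_forall fun x hx =>
      (stronglyClosed_iff.1 h.closed).2 P f hf.2 hf.1 x hx⟩)

theorem fullSys_sub : (fullSys h).IsSubsystemOf F := fun _ _ hφ =>
  mem_hom_iff.2 ((isMap_mkSystem_iff _).1 (isMap_toFun hφ)).1

theorem selfC_of_isCentric (hc : (fullSys h).IsCentric P) : SelfC F T P :=
  ⟨hc.1, fun f hf => hc.2 _ (isConj_iff.2 ⟨f, (isMap_mkSystem_iff _).2 ⟨hf, hc.1⟩, rfl⟩)⟩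

theorem img_inf_T (hf : IsMap F P f) : img P f ⊓ T = img (P ⊓ T) f := by
  refine le_antisymm (fun y hy => ?_) (le_inf (hf.img_mono inf_le_left)
    ((hf.mono inf_le_left).img_le_of_forall fun x hx => mem_T_of_map h hf hx.1 hx.2))
  obtain ⟨f', hf', h1, -⟩ := hf.exists_inv
  obtain ⟨x, hx, rfl⟩ := hf.mem_img.1 hy.1
  refine (hf.mono inf_le_left).mem_img.2 ⟨x, ⟨hx, ?_⟩, rfl⟩
  have := mem_T_of_map h hf' hy.1 hy.2
  rwa [h1 x hx] at this

/-- Every map of `F` inside `T` has a label. -/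
theorem exists_lab (hf : IsMap F P f) (hP : P ≤ T) : ∃ γ, Lab F E₁ E₂ T p P f γ := by
  let EL : FusionSystem S := mkSystem F S
    (fun P f => IsMap F P f ∧ ∃ γ, Lab F E₁ E₂ T p (P ⊓ T) f γ)
    (fun P f hf => ⟨hf.1, hf.1.le, fun x hx => hf.1.mem_S hx⟩)
    (fun P f g ⟨hf, γ, hl⟩ he => ⟨hf.congr he, γ, hl.congr fun x hx => he x hx.1⟩)
    (fun P t hP ht => ⟨isMap_conj hP ht, _, Lab.of_conj h ht inf_le_right⟩)
    (fun P R f g ⟨hf, γ, hl⟩ ⟨hg, δ, hl'⟩ hm => ⟨hf.comp hg hm, _,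
      hl.comp hl' fun x hx => ⟨hm x hx.1, hl.mem h hx⟩⟩)
    (fun P f f' ⟨hf, γ, hl⟩ hf' he => ⟨hf', _, by
      rw [img_inf_T h hf]
      exact hl.inv (hf'.mono (hf.img_mono inf_le_left)) fun x hx => he x hx.1⟩)
  have key : IsMap EL P f := by
    refine isMap_of_autGroup_le h.pgroup h.sat (fun R hR α hα => ?_) hf
    have hRS : R ≤ S := hR.elim (fun e => e.le) fun hR => hR.1.1
    have hs : SelfC F T (R ⊓ T) := by
      rcases hR with rfl | hR
      · rw [inf_eq_right.2 h.hTS]; exact selfC_T h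
      by_contra hns
      obtain ⟨Q, hRQ, n, hn, hnQ⟩ := SubsystemCentric.exists_inO_of_not_centric h.pgroup h.sat
        h.closed (fullSys_sub h) hRS fun hc => hns (selfC_of_isCentric h hc)
      obtain ⟨hau, hre⟩ := IsSaturated.automized_receptive h.pgroup h.sat hR.2.1
      obtain ⟨g, hg, hgR, -⟩ := exists_map_normalizer h.pgroup hau hre (isConj_symm hRQ)
      have hnN := FamilySat.rSub_le hn
      have hO := (FamilySat.mem_rSub.1 hn).2.map hg (le_normalizerIn (isConj_le hRQ).2) hnN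
      rw [hgR] at hO
      obtain ⟨a, ha, hae⟩ := hO
      have ha' : a ∈ autInducedBy R R := by
        rw [← inn_eq_autInducedBy, ← (isRadical_of_isEssential h.pgroup hR).2]
        exact ha
      obtain ⟨r, hr, hre'⟩ := mem_autInducedBy_iff.1 ha'
      have hgn : g n ∈ S := hg.mem_S hnN
      have hc : r⁻¹ * g n ∈ centralizerIn S R := by
        refine ⟨S.mul_mem (S.inv_mem (hRS hr)) hgn, Subgroup.mem_centralizer_iff.2 fun x hx => ?_⟩
        have h1 := (hre' x hx).symm.trans (hae x hx)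
        calc x * (r⁻¹ * g n) = r⁻¹ * (r * x * r⁻¹) * g n := by group
          _ = r⁻¹ * g n * x := by rw [h1]; group
      have hgnR : g n ∈ R := by
        have := R.mul_mem hr (centralizerIn_le_of_isCentric hR.1 hc)
        rwa [mul_inv_cancel_left] at this
      refine hnQ (hg.mem_of_mem_img (le_normalizerIn (isConj_le hRQ).2) hnN ?_)
      rw [hgR]; exact hgnR
    have hαm := (mem_autGroup_iff hRS).1 hα
    obtain ⟨γ, hγ⟩ := exists_lab_selfC h (hαm.mono inf_le_left) hs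
    exact (mem_autGroup_iff hRS).2 ((isMap_mkSystem_iff _).2 ⟨hαm, γ, hγ⟩)
  obtain ⟨-, γ, hγ⟩ := (isMap_mkSystem_iff _).1 key
  rw [inf_eq_left.2 hP] at hγ
  exact ⟨γ, hγ⟩

end CfsgLib.Fusion.Meet
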