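import Cfsg.Agent.Lib.Fusion.System.Meet.System

/-!
# The meet contains every common normal subsystem over `T`
-/

set_option autoImplicit false
set_option maxHeartbeats 1000000
set_option linter.style.haveILetI false
set_option linter.unusedSectionVars false

open Subgroup
open scoped Classical Pointwise

namespace CfsgLib.Fusion.Meet

open Cfsg (FusionSystem autInducedBy)
open Cfsg.FusionSystem (normalizerIn centralizerIn)
open CfsgLib.Fusion CfsgLib.Fusion.CentLift

universe u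

variable {Ω : Type u} [Group Ω] {S T T' T₁ T₂ : Subgroup Ω} {F : FusionSystem S} {p : ℕ}
  {E : FusionSystem T'} {E₁ : FusionSystem T₁} {E₂ : FusionSystem T₂} {D : FusionSystem T}
  {P Q R : Subgroup Ω} {f : Ω → Ω} [Finite S] [Fact p.Prime]

theorem autFun_pow_agree {A B : Subgroup Ω} (hAB : A ≤ B) {a : MulAut A} {b : MulAut B}
    (h : ∀ x ∈ A, autFun b x = autFun a x) :
    ∀ (n : ℕ), ∀ x ∈ A, autFun (b ^ n) x = autFun (a ^ n) x := by
  intro n
  induction n with
  | zero => intro x hx; rw [pow_zero, pow_zero, autFun_one (hAB hx), autFun_one hx]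
  | succ n ih =>
    intro x hx
    rw [pow_succ', pow_succ', autFun_mul _ _ (hAB hx), autFun_mul _ _ hx, ih x hx,
      h _ (autFun_mem _ hx)]

/-- The side part of an extension of an automorphism of `T` of order prime to `p`. -/
theorem isMap_ext_side (hS : IsPGroup p S) (hs : Side F p E) (hTT : T ≤ T')
    (hD : D.IsNormalIn E p) {α : MulAut T} (hα : α ∈ D.autGroup T) {β : MulAut (base S T)}
    (hβ : β ∈ stabR F T) (hβT : ∀ x ∈ T, autFun β x = autFun α x)
    (hβd : ∀ y ∈ base S T, y⁻¹ * autFun β y ∈ T) (hco : (orderOf β).Coprime p) :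
    IsMap E (ubase T' T) (autFun β) := by
  have hTS := hTT.trans hs.le
  haveI := finite_of_le hs.le
  set U := ubase T' T with hU
  have hUB : U ≤ base S T := ubase_le_base hs.le
  have hUT' : U ≤ T' := ubase_le hTT
  have hTU : T ≤ U := le_sup_left
  have hm := ((mem_autGroup_iff (base_le hTS)).1 hβ.1).mono hUB
  have hi : img U (autFun β) = U :=
    img_eq_of_map_le (hUT'.trans hs.le) hm le_rfl fun x hx => stab_ubase hs hTT hβ hx
  set a := autOf hm hi with ha
  have hae : ∀ x ∈ U, autFun a x = autFun β x := fun x hx => autFun_autOf hm hi hx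
  have hao : (orderOf a).Coprime p := Nat.Coprime.coprime_dvd_left
    (orderOf_dvd_of_pow_eq_one (autFun_ext fun x hx => by
      rw [← autFun_pow_agree hUB (fun y hy => (hae y hy).symm) _ x hx, pow_orderOf_eq_one,
        autFun_one (hUB hx), autFun_one hx])) hco
  obtain ⟨b, hb, hbT, hbd⟩ := hD.2 α hα
  have hbT' : ∀ x ∈ T, autFun b x = autFun α x := fun x hx => by
    rw [autFun_apply b (hTU hx), autFun_apply α hx]
    exact hbT ⟨x, hx⟩
  have hbi : ∀ x ∈ T, autFun b⁻¹ x = autFun α⁻¹ x := fun x hx => by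
    conv_lhs => rw [← PPrime.autFun_symm' (α := α) hx, ← hbT' _ (autFun_mem _ hx)]
    exact PPrime.autFun_symm (hTU (autFun_mem _ hx))
  have hbF : b ∈ F.autGroup U := (mem_autGroup_iff (hUT'.trans hs.le)).2
    (((mem_autGroup_iff hUT').1 hb).ofSubsystem hs.sub)
  set δ := b⁻¹ * a with hδ
  have hfix : ∀ x ∈ T, autFun δ x = x := fun x hx => by
    rw [hδ, autFun_mul _ _ (hTU hx), hae x (hTU hx), hβT x hx, hbi _ (autFun_mem α hx),
      PPrime.autFun_symm hx]
  have hstab : ∀ x ∈ U, x⁻¹ * autFun δ x ∈ T := fun x hx => by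
    obtain ⟨t, ht, c, hc, rfl⟩ := mem_base (C := centralizerIn T' T) inf_le_right hx
    have hcU : c ∈ U := Subgroup.mem_sup_right hc
    rw [autFun_map_mul δ (hTU ht) hcU, hfix t ht,
      show (t * c)⁻¹ * (t * autFun δ c) = c⁻¹ * autFun δ c by group]
    have hτ₁ := hβd c (hUB hcU)
    have hτ₂ : c⁻¹ * autFun b c ∈ T := by
      rw [autFun_apply b hcU]
      exact (hbd ⟨c, hcU⟩ hc).1
    set τ₂ := c⁻¹ * autFun b c with hτ₂'
    have e1 : autFun b⁻¹ c * autFun b⁻¹ τ₂ = c := by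
      rw [← autFun_map_mul _ hcU (hTU hτ₂), hτ₂', mul_inv_cancel_left, PPrime.autFun_symm hcU]
    have e2 : autFun δ c = autFun b⁻¹ c * autFun b⁻¹ (c⁻¹ * autFun β c) := by
      rw [← autFun_map_mul _ hcU (hTU hτ₁), mul_inv_cancel_left, hδ, autFun_mul _ _ hcU,
        hae c hcU]
    rw [e2, show autFun b⁻¹ c = c * (autFun b⁻¹ τ₂)⁻¹ from eq_mul_inv_of_mul_eq e1, hbi _ hτ₂,
      hbi _ hτ₁,
      show c⁻¹ * (c * (autFun α⁻¹ τ₂)⁻¹ * autFun α⁻¹ (c⁻¹ * autFun β c)) =
        (autFun α⁻¹ τ₂)⁻¹ * autFun α⁻¹ (c⁻¹ * autFun β c) by group]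
    exact mul_mem (inv_mem (autFun_mem _ hτ₂)) (autFun_mem _ hτ₁)
  obtain ⟨n, hn⟩ := IsPGroup.iff_card.1 hS
  have hpow : δ ^ p ^ n = 1 := autFun_ext fun x hx => by
    rw [pow_fix_step (hUT'.trans hs.le) hn le_rfl hTU hfix hstab x hx, autFun_one hx]
  have hmem : a ∈ E.autGroup U := by
    refine mem_of_coprime_of_pow (fun x hx => conj_mem_autGroup hs hUT' (autOf_mem hm hi) hx)
      (hao.pow_right n) hpow ?_
    have h3 := conj_mem_autGroup hs hUT' (autOf_mem hm hi) hb
    rw [show a * (b⁻¹ * a)⁻¹ = b by group]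
    exact hb
  exact ((mem_autGroup_iff hUT').1 hmem).congr fun x hx => (hae x hx).symm

variable (h : Setup F p E₁ E₂ T)
include h

theorem selfC_of_centric (hF' : D.IsWeaklyNormalIn F p) (hc : D.IsCentric P) : SelfC F T P := by
  refine ⟨hc.1, fun f hf => ?_⟩
  obtain ⟨α, hα, k, hk, hke⟩ := decomp_of_strongInv h.pgroup h.sat h.closed hF'.2.2.1
    ((isInvariantIn_iff_strongInv h.pgroup h.sat hF'.2.2.1 h.closed).1 hF'.2.2) hf hc.1
  have hTm := (mem_autGroup_iff h.hTS).1 hα
  intro z hz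
  have hn : autFun α⁻¹ z ∈ centralizerIn T (img P k) :=
    ⟨autFun_mem _ hz.1, Subgroup.mem_centralizer_iff.2 fun y hy => by
      obtain ⟨x, hx, rfl⟩ := hk.mem_img.1 hy
      refine hTm.inj (mul_mem (hk.mem_S hx) (autFun_mem _ hz.1))
        (mul_mem (autFun_mem _ hz.1) (hk.mem_S hx)) ?_
      rw [hTm.map_mul (hk.mem_S hx) (autFun_mem _ hz.1),
        hTm.map_mul (autFun_mem _ hz.1) (hk.mem_S hx), PPrime.autFun_symm' hz.1, ← hke x hx]
      exact Subgroup.mem_centralizer_iff.1 hz.2 _ (hf.mem_img.2 ⟨x, hx, rfl⟩)⟩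
  obtain ⟨x, hx, hxn⟩ := hk.mem_img.1 (hc.2 _ (isConj_iff.2 ⟨k, hk, rfl⟩) hn)
  exact hf.mem_img.2 ⟨x, hx, by rw [hke x hx, hxn, PPrime.autFun_symm' hz.1]⟩

theorem autGroup_top_le (hD : D.IsNormalIn F p) (hD₁ : D.IsNormalIn E₁ p)
    (hD₂ : D.IsNormalIn E₂ p) : D.autGroup T ≤ (meetSys h).autGroup T := by
  haveI := finite_of_le h.hTS
  haveI := finite_mulAut (P := T)
  have hTp := h.pgroup.to_le h.hTS
  have hBS := base_le (S := S) h.hTS
  haveI := finite_of_le hBS
  haveI := finite_mulAut (P := base S T)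
  have hn : D.IsFullyNormalized T :=
    ⟨le_rfl, fun R _ => card_le_of_le' inf_le_left (inf_le_left.trans (le_normalizerIn le_rfl))⟩
  obtain ⟨P0, hP0⟩ := ((IsSaturated.automized_receptive hTp hD.1.1 hn).1).2
  have hgen := pResidual_sup_sylow (p := p) (G := D.autGroup T) P0
  suffices key : (⊤ : Subgroup (D.autGroup T)) ≤
      ((meetSys h).autGroup T).subgroupOf (D.autGroup T) from fun a ha =>
    key (Subgroup.mem_top (⟨a, ha⟩ : D.autGroup T))
  rw [← hgen]
  refine sup_le ((Subgroup.closure_le _).2 fun α hα => ?_) fun α hα => ?_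
  · rw [SetLike.mem_coe, Subgroup.mem_subgroupOf, mem_autGroup_iff le_rfl, isMap_meetSys]
    obtain ⟨b, hb, hbT, hbd⟩ := hD.2 (α : MulAut T) α.2
    have hbT' : ∀ x ∈ T, autFun b x = autFun (α : MulAut T) x := fun x hx => by
      rw [autFun_apply b (Subgroup.mem_sup_left hx), autFun_apply _ hx]
      exact hbT ⟨x, hx⟩
    have hbst : b ∈ stabR F T := ⟨hb, fun x hx => by
      refine ⟨fun hxT => hbT' x hxT ▸ autFun_mem _ hxT, fun hbx => ?_⟩
      have h1 := autFun_mem (α : MulAut T)⁻¹ hbx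
      rwa [((mem_autGroup_iff hBS).1 hb).inj hx (Subgroup.mem_sup_left h1)
        (by rw [hbT' _ h1, PPrime.autFun_symm' hbx])]⟩
    have hd1 : ∀ y ∈ base S T, y⁻¹ * autFun b y ∈ T := fun y hy => by
      obtain ⟨t, ht, c, hc, rfl⟩ := mem_base (C := centralizerIn S T) inf_le_right hy
      rw [autFun_map_mul b (Subgroup.mem_sup_left ht) (Subgroup.mem_sup_right hc), hbT' t ht,
        show (t * c)⁻¹ * (autFun (α : MulAut T) t * autFun b c) =
          c⁻¹ * (t⁻¹ * autFun (α : MulAut T) t) * c⁻¹⁻¹ * (c⁻¹ * autFun b c) by group]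
      refine mul_mem ((Subgroup.mem_normalizer_iff.1 (h.normal (inv_mem hc.1)) _).1
        (mul_mem (inv_mem ht) (autFun_mem _ ht))) ?_
      rw [autFun_apply b (Subgroup.mem_sup_right hc)]
      exact (hbd ⟨c, Subgroup.mem_sup_right hc⟩ hc).1
    have hdn : ∀ (n : ℕ), ∀ y ∈ base S T, y⁻¹ * autFun (b ^ n) y ∈ T := by
      intro n
      induction n with
      | zero => intro y hy; rw [pow_zero, autFun_one hy, inv_mul_cancel]; exact one_mem _
      | succ n ih =>
        intro y hy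
        rw [pow_succ', autFun_mul _ _ hy, show y⁻¹ * autFun b (autFun (b ^ n) y) =
          y⁻¹ * autFun (b ^ n) y * ((autFun (b ^ n) y)⁻¹ * autFun b (autFun (b ^ n) y)) by group]
        exact mul_mem (ih y hy) (hd1 _ (autFun_mem _ hy))
    have hαco : (orderOf (α : MulAut T)).Coprime p := by
      have h1 : Nat.Coprime (orderOf α) p := hα
      rwa [← Subgroup.orderOf_coe] at h1
    obtain ⟨k, hk⟩ := Components.exists_coprime_pow (p := p) b
    obtain ⟨m, hm⟩ := Components.exists_pow_pow_eq hαco k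
    set β := b ^ (p ^ k * m) with hβ
    have hβco : (orderOf β).Coprime p := by
      rw [hβ, pow_mul]; exact Nat.Coprime.coprime_dvd_left (orderOf_pow_dvd m) hk
    have hβT : ∀ x ∈ T, autFun β x = autFun (α : MulAut T) x := fun x hx => by
      rw [hβ, autFun_pow_agree (le_sup_left : T ≤ base S T) hbT' _ x hx, pow_mul, hm]
    have hβst : β ∈ stabR F T := pow_mem hbst _
    refine (Lab.good (selfC_T h) (IsSaturated.isFullyCentralized h.pgroup h.sat
      (isFullyNormalized_T h)) ⟨hβst, hdn _,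
        isMap_ext_side h.pgroup h.side₁ h.le₁ hD₁ α.2 hβst hβT (hdn _) hβco,
        isMap_ext_side h.pgroup h.side₂ h.le₂ hD₂ α.2 hβst hβT (hdn _) hβco⟩ hβco).congr
      fun x hx => (hβT x hx).symm
  · obtain ⟨t, ht, hte⟩ := mem_autInducedBy_iff.1 (Subgroup.mem_subgroupOf.1 (hP0.le hα))
    rw [Subgroup.mem_subgroupOf, mem_autGroup_iff le_rfl]
    exact (isMap_conj le_rfl ht).congr fun x hx => hte x hx

theorem autGroup_le (hD : D.IsNormalIn F p) (hD₁ : D.IsNormalIn E₁ p)
    (hD₂ : D.IsNormalIn E₂ p) (hRs : SelfC F T R) :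
    D.autGroup R ≤ (meetSys h).autGroup R := by
  have hTp := h.pgroup.to_le h.hTS
  haveI := finite_of_le h.hTS
  have hDinv := (isInvariantIn_iff_strongInv h.pgroup h.sat hD.1.2.2.1 h.closed).1 hD.1.2.2
  induction hk : Nat.card T - Nat.card R using Nat.strong_induction_on generalizing R with
  | _ n ih =>
  subst hk
  by_cases hRT : R = T
  · subst hRT; exact autGroup_top_le h hD hD₁ hD₂
  have hRcard : Nat.card R < Nat.card T := card_lt_of_lt h.hTS (lt_of_le_of_ne hRs.le hRT)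
  have habove : ∀ {P : Subgroup Ω} {g : Ω → Ω}, Nat.card R < Nat.card P → IsMap D P g →
      Lab F E₁ E₂ T p P g 1 := fun {P g} hP hg =>
    (isMap_meetSys h).1 (isMap_of_autGroup_le_above hTp hD.1.1 (E := meetSys h) (fun Z hZ hZe => by
      have hZs : SelfC F T Z := by
        rcases hZe with rfl | hZe
        · exact selfC_T h
        · exact selfC_of_centric h hD.1 hZe.1
      refine ih _ ?_ hZs rfl
      have : Nat.card Z ≤ Nat.card T := card_le_of_le' h.hTS hZs.le
      omega) hg)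
  obtain ⟨Q, hRQ, hQ⟩ := exists_fullyNormalized (F := F) (hRs.le.trans h.hTS)
  obtain ⟨hau, hre⟩ := IsSaturated.automized_receptive h.pgroup h.sat hQ
  obtain ⟨φ, hφ, hφQ, -⟩ := exists_map_normalizer h.pgroup hau hre hRQ
  have hRN : R ≤ normalizerIn S R := le_normalizerIn (hRs.le.trans h.hTS)
  have hQs : SelfC F T Q := hφQ ▸ hRs.map h.closed (hφ.mono hRN)
  have hQT := hQs.le
  have hQS := hQ.1
  haveI := finite_of_le hQS
  haveI := finite_mulAut (P := Q)
  obtain ⟨M⟩ := exists_lModel h.pgroup h.sat hQ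
  -- at the fully normalized conjugate
  have key : D.autGroup Q ≤ (meetSys h).autGroup Q := by
    intro a ha
    set A := D.autGroup Q ⊓ M.mGroup h hQT with hAdef
    set AT := autInducedBy T Q with hAT
    have hATA : AT ≤ A := le_inf (autInducedBy_le_autGroup hQT) (M.autInducedBy_le_mGroup h hQT)
    have hi : ¬ p ∣ AT.relIndex A := fun hd => M.not_dvd_relIndex_mGroup h hQ hQT
      (hd.trans (Dvd.intro _ (Subgroup.relIndex_mul_relIndex _ _ _ hATA inf_le_right)))
    have hAp : IsPGroup p AT :=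
      (isPGroup_autInducedBy h.pgroup).to_le (autInducedBy_mono h.hTS)
    have haF : a ∈ F.autGroup Q := (mem_autGroup_iff hQS).2
      (((mem_autGroup_iff hQT).1 ha).ofSubsystem hD.1.2.2.1)
    have hconj : conjBy a AT ≤ A := conjBy_le_iff.2 fun x hx => Subgroup.mem_inf.2
      ⟨mul_mem (mul_mem ha (hATA hx).1) (inv_mem ha),
        M.conj_mem_mGroup h hQ hQT haF (hATA hx).2⟩
    obtain ⟨m, hm, hmA⟩ :=
      exists_conj_le_of_not_dvd_relIndex hAp hATA hi (isPGroup_conjBy a hAp) hconj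
    set b := m * a with hb
    have hbD : b ∈ D.autGroup Q := mul_mem (Subgroup.mem_inf.1 hm).1 ha
    have hDn : D.IsFullyNormalized Q :=
      isFullyNormalized_of_stronglyClosed h.pgroup h.sat h.closed hD.1.2.2.1 hQT hQ
    obtain ⟨g, hg, hge⟩ := (isReceptive_iff.1 (IsSaturated.automized_receptive hTp hD.1.1 hDn).2).2
      Q (autFun b) ((mem_autGroup_iff hQT).1 hbD) (img_autFun b)
    have hNe : normalizerIn T Q ≤ extSub T Q (autFun b) := fun x hx => by
      have h1 := hmA (conj_mem_conjBy (g := m) (conj_mem_conjBy (g := a) (conjAut_mem hx.1 hx.2)))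
      obtain ⟨t, ht, hte⟩ := mem_autInducedBy_iff.1 h1
      refine ⟨hx, t, ht, fun q hq => ?_⟩
      have h2 := hte _ (autFun_mem b hq)
      rw [show m * (a * conjAut x hx.2 * a⁻¹) * m⁻¹ = b * conjAut x hx.2 * b⁻¹ by rw [hb]; group,
        autFun_mul _ _ (autFun_mem b hq), PPrime.autFun_symm hq, autFun_mul _ _ hq,
        autFun_conjAut hx.2 hq] at h2
      exact h2
    have hlt : Nat.card R < Nat.card (normalizerIn T Q) := by
      rw [← isConj_card hRQ]
      refine card_lt_of_lt ((inf_le_left : normalizerIn T Q ≤ T).trans h.hTS)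
        (lt_normalizerIn_T h hQT fun e => ?_)
      rw [← isConj_card hRQ, e] at hRcard
      exact lt_irrefl _ hRcard
    have hbl : b ∈ (meetSys h).autGroup Q := (mem_autGroup_iff hQT).2 ((isMap_meetSys h).2
      (((habove hlt (hg.mono hNe)).mono (le_normalizerIn hQT)).congr
        fun q hq => (hge q hq).symm))
    have hml : m ∈ (meetSys h).autGroup Q := (mem_autGroup_iff hQT).2 ((isMap_meetSys h).2
      (lab_of_mGroup h M hQ hQs (Subgroup.mem_inf.1 hm).2))
    have := mul_mem (inv_mem hml) hbl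
    rwa [hb, inv_mul_cancel_left] at this
  intro a ha
  obtain ⟨c, hc⟩ := exists_lab h (hφ.mono (normalizerIn_T_le h)) inf_le_left
  have hRN' : R ≤ normalizerIn T R := le_normalizerIn hRs.le
  have hcR := hc.mono hRN'
  obtain ⟨k, hk, hke⟩ := hDinv R R (autFun a) φ le_rfl hRs.le ((mem_autGroup_iff hRs.le).1 ha)
    (fun x hx => autFun_mem a hx) (hφ.mono hRN)
  rw [hφQ] at hk
  have hki : img Q k = Q := img_eq_of_map_le hQS (hk.ofSubsystem hD.1.2.2.1) le_rfl fun q hq => by
    obtain ⟨x, hx, rfl⟩ := (hφ.mono hRN).mem_img.1 (hφQ.ge hq)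
    rw [hke x hx]
    exact hφQ.le ((hφ.mono hRN).mem_img.2 ⟨_, autFun_mem a hx, rfl⟩)
  have hkl : Lab F E₁ E₂ T p Q k 1 :=
    ((isMap_meetSys h).1 ((mem_autGroup_iff hQT).1 (key (autOf_mem hk hki)))).congr
      fun q hq => (autFun_autOf hk hki hq).symm
  obtain ⟨φi, hφi, hi1, -⟩ := hcR.exists_inv h
  rw [hφQ] at hφi
  have h3 := (hcR.comp hkl fun x hx => hφQ.le ((hφ.mono hRN).mem_img.2 ⟨x, hx, rfl⟩)).comp hφi
    fun x hx => hki.le ((hkl.isMap h).mem_img.2
      ⟨φ x, hφQ.le ((hφ.mono hRN).mem_img.2 ⟨x, hx, rfl⟩), rfl⟩)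
  rw [one_mul, inv_mul_cancel] at h3
  refine (mem_autGroup_iff hRs.le).2 ((isMap_meetSys h).2 (h3.congr fun x hx => ?_))
  show autFun a x = φi (k (φ x))
  rw [hke x hx, hi1 _ (autFun_mem a hx)]

/-- The meet contains every common normal subsystem over `T`. -/
theorem sub_meetSys (hD : D.IsNormalIn F p) (hD₁ : D.IsNormalIn E₁ p)
    (hD₂ : D.IsNormalIn E₂ p) : D.IsSubsystemOf (meetSys h) := fun P φ hφ => by
  haveI := finite_of_le h.hTS
  refine le_of_autGroup_le (h.pgroup.to_le h.hTS) hD.1.1 (fun Z hZ => ?_) P hφ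
  refine autGroup_le h hD hD₁ hD₂ ?_
  rcases hZ with rfl | hZ
  · exact selfC_T h
  · exact selfC_of_centric h hD.1 hZ.1

end CfsgLib.Fusion.Meet
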