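import Cfsg.Agent.Lib.Fusion.System.Meet.Over

/-!
# Labelled maps

`Lab P f γ` says that `f` on `P` is composed of automorphisms of `T` and good automorphisms of
order prime to `p`; the label `γ` is the product of the automorphisms of `T` used.
-/

set_option autoImplicit false
set_option maxHeartbeats 1000000
set_option linter.style.haveILetI false
set_option linter.unusedSectionVars false

open Subgroup
open scoped Classical Pointwise

namespace CfsgLib.Fusion.Meet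

open Cfsg (FusionSystem autInducedBy)
open Cfsg.FusionSystem (normalizerIn centralizerIn)
open CfsgLib.Fusion CfsgLib.Fusion.CentLift

universe u

variable {Ω : Type u} [Group Ω] {S T T₁ T₂ T' : Subgroup Ω} {F : FusionSystem S} {p : ℕ}
  {E₁ : FusionSystem T₁} {E₂ : FusionSystem T₂} {P Q R : Subgroup Ω} {f g : Ω → Ω}
  {γ δ : MulAut T}

/-- Maps with labels. -/
inductive Lab (F : FusionSystem S) (E₁ : FusionSystem T₁) (E₂ : FusionSystem T₂) (T : Subgroup Ω)
    (p : ℕ) : Subgroup Ω → (Ω → Ω) → MulAut T → Prop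
  | top {α : MulAut T} : α ∈ F.autGroup T → Lab F E₁ E₂ T p T (autFun α) α
  | inner {t : Ω} : t ∈ T → Lab F E₁ E₂ T p T (fun x => t * x * t⁻¹) 1
  | good {P : Subgroup Ω} {a : MulAut (base S P)} : SelfC F T P → F.IsFullyCentralized P →
      Good F E₁ E₂ T P a → (orderOf a).Coprime p → Lab F E₁ E₂ T p P (autFun a) 1
  | mono {P R : Subgroup Ω} {f : Ω → Ω} {γ : MulAut T} : Lab F E₁ E₂ T p P f γ → R ≤ P →
      Lab F E₁ E₂ T p R f γ
  | congr {P : Subgroup Ω} {f g : Ω → Ω} {γ : MulAut T} : Lab F E₁ E₂ T p P f γ →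
      (∀ x ∈ P, g x = f x) → Lab F E₁ E₂ T p P g γ
  | comp {P R : Subgroup Ω} {f g : Ω → Ω} {γ δ : MulAut T} : Lab F E₁ E₂ T p P f γ →
      Lab F E₁ E₂ T p R g δ → (∀ x ∈ P, f x ∈ R) → Lab F E₁ E₂ T p P (g ∘ f) (δ * γ)
  | inv {P : Subgroup Ω} {f f' : Ω → Ω} {γ : MulAut T} : Lab F E₁ E₂ T p P f γ →
      IsMap F (img P f) f' → (∀ x ∈ P, f' (f x) = x) → Lab F E₁ E₂ T p (img P f) f' γ⁻¹

variable (h : Setup F p E₁ E₂ T)
include h

theorem Lab.spec (hl : Lab F E₁ E₂ T p P f γ) :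
    IsMap F P f ∧ P ≤ T ∧ (∀ x ∈ P, f x ∈ T) ∧ γ ∈ F.autGroup T := by
  induction hl with
  | top hα => exact ⟨(mem_autGroup_iff h.hTS).1 hα, le_rfl, fun x hx => autFun_mem _ hx, hα⟩
  | inner ht =>
    exact ⟨isMap_conj h.hTS (h.hTS ht), le_rfl,
      fun x hx => T.mul_mem (T.mul_mem ht hx) (T.inv_mem ht), one_mem _⟩
  | good hs _ ha _ =>
    exact ⟨((mem_autGroup_iff (base_le (hs.le.trans h.hTS))).1 ha.1.1).mono le_sup_left, hs.le,
      fun x hx => hs.le (stab_mem ha.1 hx), one_mem _⟩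
  | mono _ hR ih => exact ⟨ih.1.mono hR, hR.trans ih.2.1, fun x hx => ih.2.2.1 x (hR hx), ih.2.2.2⟩
  | congr _ he ih =>
    exact ⟨ih.1.congr he, ih.2.1, fun x hx => by rw [he x hx]; exact ih.2.2.1 x hx, ih.2.2.2⟩
  | comp _ _ hm ih1 ih2 =>
    exact ⟨ih1.1.comp ih2.1 hm, ih1.2.1, fun x hx => ih2.2.2.1 _ (hm x hx),
      mul_mem ih2.2.2.2 ih1.2.2.2⟩
  | inv _ hf he ih =>
    refine ⟨hf, ih.1.img_le_of_forall ih.2.2.1, fun y hy => ?_, inv_mem ih.2.2.2⟩
    obtain ⟨x, hx, rfl⟩ := ih.1.mem_img.1 hy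
    rw [he x hx]
    exact ih.2.1 hx

theorem Lab.isMap (hl : Lab F E₁ E₂ T p P f γ) : IsMap F P f := (hl.spec h).1
theorem Lab.le (hl : Lab F E₁ E₂ T p P f γ) : P ≤ T := (hl.spec h).2.1
theorem Lab.mem (hl : Lab F E₁ E₂ T p P f γ) {x : Ω} (hx : x ∈ P) : f x ∈ T :=
  (hl.spec h).2.2.1 x hx
theorem Lab.label_mem (hl : Lab F E₁ E₂ T p P f γ) : γ ∈ F.autGroup T := (hl.spec h).2.2.2
theorem Lab.img_le (hl : Lab F E₁ E₂ T p P f γ) : img P f ≤ T :=
  (hl.isMap h).img_le_of_forall fun _ hx => hl.mem h hx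

theorem Lab.exists_inv (hl : Lab F E₁ E₂ T p P f γ) :
    ∃ f', Lab F E₁ E₂ T p (img P f) f' γ⁻¹ ∧ (∀ x ∈ P, f' (f x) = x) ∧
      ∀ y ∈ img P f, f' y ∈ P ∧ f (f' y) = y := by
  obtain ⟨f', hf', h1, h2⟩ := (hl.isMap h).exists_inv
  exact ⟨f', hl.inv hf' h1, h1, h2⟩

/-- The labelled inner automorphism of `T` given by an element of `S`. -/
noncomputable def nu (s : Ω) : MulAut T :=
  if hs : s ∈ S then conjAut s (h.normal hs) else 1

theorem autFun_nu {s : Ω} (hs : s ∈ S) {x : Ω} (hx : x ∈ T) :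
    autFun (nu h s) x = s * x * s⁻¹ := by
  rw [nu, dif_pos hs, autFun_conjAut _ hx]

theorem nu_mem (s : Ω) : nu h s ∈ F.autGroup T := by
  by_cases hs : s ∈ S
  · exact (mem_autGroup_iff h.hTS).2 ((isMap_conj h.hTS hs).congr fun x hx => autFun_nu h hs hx)
  · rw [nu, dif_neg hs]; exact one_mem _

theorem nu_mul {s t : Ω} (hs : s ∈ S) (ht : t ∈ S) : nu h (s * t) = nu h s * nu h t :=
  autFun_ext fun x hx => by
    rw [autFun_nu h (mul_mem hs ht) hx, autFun_mul _ _ hx, autFun_nu h ht hx,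
      autFun_nu h hs ((Subgroup.mem_normalizer_iff.1 (h.normal ht) x).1 hx)]
    group

theorem nu_one : nu h 1 = 1 := autFun_ext fun x hx => by
  rw [autFun_nu h (one_mem _) hx, autFun_one hx]
  group

theorem Lab.of_conj {s : Ω} (hs : s ∈ S) (hP : P ≤ T) :
    Lab F E₁ E₂ T p P (fun x => s * x * s⁻¹) (nu h s) :=
  ((Lab.top (nu_mem h s)).congr fun x hx => (autFun_nu h hs hx).symm).mono hP

theorem Lab.id' (hP : P ≤ T) : Lab F E₁ E₂ T p P id 1 :=
  ((Lab.top (one_mem _)).congr fun x hx => (autFun_one hx).symm).mono hP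

theorem Lab.of_T {t : Ω} (ht : t ∈ T) (hP : P ≤ T) :
    Lab F E₁ E₂ T p P (fun x => t * x * t⁻¹) 1 := (Lab.inner ht).mono hP

/-- Conjugation of a labelled map by a labelled map. -/
theorem Lab.conj {c : MulAut T} (hg : Lab F E₁ E₂ T p Q g c) (hf : Lab F E₁ E₂ T p P f γ)
    (hPQ : P ≤ Q) (hfQ : ∀ x ∈ P, f x ∈ Q) :
    ∃ k, Lab F E₁ E₂ T p (img P g) k (c * γ * c⁻¹) ∧ ∀ x ∈ P, k (g x) = g (f x) := by
  obtain ⟨g', hg', h1, h2⟩ := (hg.mono hPQ).exists_inv h
  refine ⟨g ∘ (f ∘ g'), ?_, fun x hx => ?_⟩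
  · exact ((hg'.comp hf fun y hy => (h2 y hy).1).comp hg fun y hy => hfQ _ (h2 y hy).1).congr
      (fun _ _ => rfl) |> fun hl => by rwa [mul_assoc] 
  · show g (f (g' (g x))) = _
    rw [h1 x hx]

/-- A labelled map is its label after a composite of conjugates of the generators. -/
theorem Lab.conjDec {E : FusionSystem T'} (hTT : T ≤ T')
    (hI : ∀ t ∈ T, IsMap E T fun x => t * x * t⁻¹)
    (hG : ∀ (P : Subgroup Ω) (a : MulAut (base S P)), SelfC F T P → F.IsFullyCentralized P →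
      Good F E₁ E₂ T P a → (orderOf a).Coprime p → ∀ β ∈ F.autGroup T,
        ∃ k, IsMap E (img P (autFun β)) k ∧
          ∀ x ∈ P, k (autFun β x) = autFun β (autFun a x))
    (hl : Lab F E₁ E₂ T p P f γ) : ∀ β ∈ F.autGroup T,
      ∃ k, IsMap E (img P (autFun β)) k ∧
        ∀ x ∈ P, k (autFun β x) = autFun β (autFun γ⁻¹ (f x)) := by
  have hTS := h.hTS
  induction hl with
  | @top α _ =>
    intro β hβ
    refine ⟨id, isMap_id ((img_autFun β).le.trans hTT), fun x hx => ?_⟩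
    rw [PPrime.autFun_symm hx]
    rfl
  | @inner t ht =>
    intro β hβ
    refine ⟨fun y => autFun β t * y * (autFun β t)⁻¹,
      (img_autFun β).symm ▸ hI _ (autFun_mem β ht), fun x hx => ?_⟩
    have hm := (mem_autGroup_iff hTS).1 hβ
    rw [inv_one, autFun_one (T.mul_mem (T.mul_mem ht hx) (T.inv_mem ht)), hm.map_conj ht hx]
  | @good P a hs hc ha hco =>
    intro β hβ
    obtain ⟨k, hk, hke⟩ := hG P a hs hc ha hco β hβ
    refine ⟨k, hk, fun x hx => ?_⟩
    rw [hke x hx, inv_one, autFun_one (hs.le (stab_mem ha.1 hx))]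
  | @mono P R f γ _ hR ih =>
    intro β hβ
    obtain ⟨k, hk, hke⟩ := ih β hβ
    exact ⟨k, hk.mono (Subgroup.closure_mono (Set.image_mono hR)), fun x hx => hke x (hR hx)⟩
  | @congr P f g γ _ he ih =>
    intro β hβ
    obtain ⟨k, hk, hke⟩ := ih β hβ
    exact ⟨k, hk, fun x hx => by rw [hke x hx, he x hx]⟩
  | @comp P R f g γ δ hf hg hm ih1 ih2 =>
    intro β hβ
    obtain ⟨k, hk, hke⟩ := ih1 β hβ
    obtain ⟨l, hl', hle⟩ := ih2 (β * γ⁻¹) (mul_mem hβ (inv_mem (hf.label_mem h)))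
    have hPT := hf.le h
    have hmP := ((mem_autGroup_iff hTS).1 hβ).mono hPT
    have hmR := ((mem_autGroup_iff hTS).1
      (mul_mem hβ (inv_mem (hf.label_mem h)))).mono (hg.le h)
    refine ⟨l ∘ k, hk.comp hl' fun y hy => ?_, fun x hx => ?_⟩
    · obtain ⟨x, hx, rfl⟩ := hmP.mem_img.1 hy
      exact hmR.mem_img.2 ⟨f x, hm x hx, by rw [hke x hx, autFun_mul _ _ (hf.mem h hx)]⟩
    · show l (k (autFun β x)) = _
      have hgm := hg.mem h (hm x hx)
      rw [hke x hx, ← autFun_mul _ _ (hf.mem h hx), hle _ (hm x hx),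
        ← autFun_mul _ _ hgm]
      show autFun (β * γ⁻¹ * δ⁻¹) (g (f x)) = autFun β (autFun (δ * γ)⁻¹ (g (f x)))
      rw [← autFun_mul _ _ hgm, mul_inv_rev, mul_assoc]
  | @inv P f f' γ hf hf' he ih =>
    intro β hβ
    have hγ := hf.label_mem h
    have hPT := hf.le h
    obtain ⟨k, hk, hke⟩ := ih (β * γ) (mul_mem hβ hγ)
    obtain ⟨k', hk', h1, -⟩ := hk.exists_inv
    have hm' := ((mem_autGroup_iff hTS).1 (mul_mem hβ hγ)).mono hPT
    have hkv : ∀ x ∈ P, k (autFun (β * γ) x) = autFun β (f x) := fun x hx => by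
      rw [hke x hx, ← autFun_mul _ _ (hf.mem h hx), mul_inv_cancel_right]
    have hi : img (img P (autFun (β * γ))) k = img (img P f) (autFun β) := by
      rw [img_img hm', img_img (hf.isMap h)]
      exact IsMap.img_congr hkv
    refine ⟨k', hi ▸ hk', fun y hy => ?_⟩
    obtain ⟨x, hx, rfl⟩ := (hf.isMap h).mem_img.1 hy
    rw [← hkv x hx, h1 _ (hm'.mem_img.2 ⟨x, hx, rfl⟩), he x hx, inv_inv,
      ← autFun_mul _ _ (hPT hx)]

theorem side_gen {E : FusionSystem T'} (hs : Side F p E) (hTT : T ≤ T')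
    (hE : ∀ (P : Subgroup Ω) (a : MulAut (base S P)), Good F E₁ E₂ T P a →
      IsMap E (ubase T' P) (autFun a))
    (P : Subgroup Ω) (a : MulAut (base S P)) (hsc : SelfC F T P) (ha : Good F E₁ E₂ T P a)
    (β : MulAut T) (hβ : β ∈ F.autGroup T) : ∃ k, IsMap E (img P (autFun β)) k ∧
      ∀ x ∈ P, k (autFun β x) = autFun β (autFun a x) :=
  hs.inv P T (autFun a) (autFun β) hsc.le hTT ((hE P a ha).mono le_sup_left)
    (fun x hx => hsc.le (stab_mem ha.1 hx)) ((mem_autGroup_iff h.hTS).1 hβ)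

/-- Maps of label `1` are in both subsystems. -/
theorem Lab.isMap_sides (hl : Lab F E₁ E₂ T p P f 1) : IsMap E₁ P f ∧ IsMap E₂ P f := by
  constructor
  · obtain ⟨k, hk, hke⟩ := hl.conjDec h (E := E₁) h.le₁
      (fun t ht => isMap_conj h.le₁ (h.le₁ ht))
      (fun P a hs _ ha _ => side_gen h h.side₁ h.le₁ (fun _ _ ha => ha.2.2.1) P a hs ha) 1
      (one_mem _)
    rw [img_eq_self_of_fix fun x hx => autFun_one (hl.le h hx)] at hk
    refine hk.congr fun x hx => ?_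
    have h1 := hke x hx
    rw [autFun_one (hl.le h hx), inv_one, autFun_one (hl.mem h hx),
      autFun_one (hl.mem h hx)] at h1
    exact h1.symm
  · obtain ⟨k, hk, hke⟩ := hl.conjDec h (E := E₂) h.le₂
      (fun t ht => isMap_conj h.le₂ (h.le₂ ht))
      (fun P a hs _ ha _ => side_gen h h.side₂ h.le₂ (fun _ _ ha => ha.2.2.2) P a hs ha) 1
      (one_mem _)
    rw [img_eq_self_of_fix fun x hx => autFun_one (hl.le h hx)] at hk
    refine hk.congr fun x hx => ?_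
    have h1 := hke x hx
    rw [autFun_one (hl.le h hx), inv_one, autFun_one (hl.mem h hx),
      autFun_one (hl.mem h hx)] at h1
    exact h1.symm

end CfsgLib.Fusion.Meet
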