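import Cfsg.Agent.Lib.Fusion.System.Meet.Factor
import Cfsg.Agent.Lib.Fusion.System.Meet.FittingNormal
import Cfsg.Agent.Lib.Fusion.System.Components.Fitting

/-!
# Components are normal in the layer

The layer of a normal subsystem is normal; a component is normal in a system that is its own layer,
hence in the generalized Fitting subsystem.
-/

set_option autoImplicit false
set_option maxHeartbeats 1000000
set_option linter.style.haveILetI false
set_option linter.unusedSectionVars false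

open Subgroup
open scoped Classical Pointwise

namespace CfsgLib.Fusion.Meet

open Cfsg (FusionSystem autInducedBy)
open Cfsg.FusionSystem (normalizerIn centralizerIn)
open CfsgLib.Fusion
open CfsgLib.Fusion.Transport (IsAut SysIso)

universe u

variable {Ω : Type u} [Group Ω] {S T U W V : Subgroup Ω} {F : FusionSystem S} {G : FusionSystem S}
  {N : FusionSystem W} {L : FusionSystem T} {p : ℕ}

theorem isNormalIn_congr {D : FusionSystem U} {C : FusionSystem V} (h : U = S)
    (h₁ : D.IsSubsystemOf G) (h₂ : G.IsSubsystemOf D) (hC : C.IsNormalIn D p) :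
    C.IsNormalIn G p := by
  subst h
  rwa [← eq_of_sub h₁ h₂]

variable [Finite S] [Fact p.Prime]

/-- The layer of a normal subsystem is normal. -/
theorem layer_normal (hS : IsPGroup p S) (hG : G.IsSaturated p) (hN : N.IsNormalIn G p)
    (hL : L.IsLayerOf N p) : L.IsNormalIn G p := by
  have hWS := normal_le hN
  haveI := finite_of_le hWS
  have hWp := hS.to_le hWS
  have hTW := normal_le hL.1
  have hTS := hTW.trans hWS
  haveI := finite_of_le hTS
  have hW := hN.1.2.2.2.1
  have hLN := hL.1.1.2.2.1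
  have hTcl := hL.1.1.2.2.2.1
  -- automorphisms of `W` in `G` stabilize the layer
  have aut : ∀ a, IsAut G W a → ∃ a', SysIso N N a a' ∧ Transport.im a T = T ∧
      ∀ P f, IsMap L P f → IsMap L (Transport.im a P) (a ∘ f ∘ a') := by
    intro a ha
    obtain ⟨a', hI⟩ := Transport.sysIso_of_invariant hN ha
    obtain ⟨E₁, h₁, hs₁⟩ := Transport.layer_le_image hWp hI hL
    obtain ⟨E₂, h₂, hs₂⟩ := Transport.layer_le_image hWp hI.symm hL
    have g := hI.giso
    exact ⟨a', hI, le_antisymm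
      ((g.im_mono (Transport.subsystem_le hs₂)).trans (g.symm.im_im hTW).le)
      (Transport.subsystem_le hs₁),
      fun P f hf => h₂.bwd P f (Transport.isMap_le_of_subsystem hs₂ hf)⟩
  have hsub : L.IsSubsystemOf G := fun P φ hφ => hN.1.2.2.1 P (hLN P hφ)
  have hfrat := (Transport.normalData_iff.1 hN).frat
  have hclosed : G.StronglyClosed T := stronglyClosed_iff.2 ⟨hTS, fun R f hR hf x hx => by
    obtain ⟨a, f₀, ha, hf₀, he⟩ := hfrat R f (hR.trans hTW) hf
    obtain ⟨a', hI, hT, -⟩ := aut a ha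
    rw [he x hx, ← hT]
    exact hI.giso.mem_im_of_mem hTW ((stronglyClosed_iff.1 hTcl).2 R f₀ hR hf₀ x hx)⟩
  have hinv : StrongInv L G := fun P Q f g hPQ hQT hf hfQ hg => by
    obtain ⟨a, g₀, ha, hg₀, he⟩ := hfrat Q g (hQT.trans hTW) hg
    obtain ⟨h₀, hh₀, hh₀e⟩ :=
      (Side.of_weaklyNormal hWp hL.1.1).inv P Q f g₀ hPQ hQT hf hfQ hg₀
    obtain ⟨a', hI, -, hmap⟩ := aut a ha
    have h1 := hmap _ _ hh₀
    rw [show Transport.im a (img P g₀) = img P g by
      show img (img P g₀) a = img P g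
      rw [img_img (hg₀.mono hPQ)]
      exact (IsMap.img_congr fun x hx => he x (hPQ hx)).symm] at h1
    refine ⟨_, h1, fun x hx => ?_⟩
    show a (h₀ (a' (g x))) = g (f x)
    rw [he x (hPQ hx), hI.giso.left _ (hg₀.mem_S (hPQ hx)), hh₀e x hx, he _ (hfQ x hx)]
  have hwn : L.IsWeaklyNormalIn G p :=
    ⟨hL.1.1.1, hG, (isInvariantIn_iff_strongInv hS hG hsub hclosed).2 hinv⟩
  obtain ⟨D, hD⟩ := Cfsg.Agent.S5140.result p (hS.to_le hTS) L hL.1.1.1
  have hDn := Cfsg.Agent.S5141.result p hS G hG L hwn D hD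
  rwa [eq_of_sub hD.2.1.1 (layer_reduced hWp hN.1.1 hL D hD.1 hD.2.1)] at hDn

/-- A layer is its own layer. -/
theorem layer_self (hS : IsPGroup p S) (hF : F.IsSaturated p) (hL : L.IsLayerOf F p) :
    L.IsLayerOf L p := by
  have hTS := normal_le hL.1
  haveI := finite_of_le hTS
  have hTp := hS.to_le hTS
  refine ⟨isNormalIn_self hTp hL.1.1.1,
    fun U C hC => Components.subnormal_isSubsystemOf hC.1, fun R D hD hDc => ?_⟩
  obtain ⟨T₁, L₁, hL₁, -⟩ := exists_layer hTp hL.1.1.1
  have h1 := hL.2.2 T₁ L₁ (layer_normal hS hF hL.1 hL₁) fun U C hC =>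
    hL₁.2.1 U C (component_of_le hS hF hC hL.1 (le_of_sub (hL.2.1 U C hC)))
  exact fun P φ hφ => hL₁.2.2 R D hD hDc P (h1 P hφ)

omit [Finite S] [Fact p.Prime] in
/-- A subnormal subsystem of a reduced system is normal or lies in a smaller normal subsystem. -/
theorem exists_proper {C : FusionSystem V} (hC : C.IsSubnormalIn F p) :
    Fact p.Prime → Finite S → IsPGroup p S → F.IsSaturated p → Reduced p F →
      C.IsNormalIn F p ∨ ∃ (U : Subgroup Ω) (M : FusionSystem U),
        M.IsNormalIn F p ∧ U < S ∧ C.IsSubnormalIn M p := by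
  induction hC with
  | refl F p => intro _ _ hS hF _; exact Or.inl (isNormalIn_self hS hF)
  | @step U S C M F p hCM hMF ih =>
    intro hp hfin hS hF hr
    by_cases hU : U = S
    · subst hU
      rw [eq_of_weaklyNormal_top hS hr hMF.1] at hCM ih
      exact ih hp hfin hS hF hr
    · exact Or.inr ⟨U, M, hMF, lt_of_le_of_ne (normal_le hMF) hU, hCM⟩

omit [Finite S] in
/-- Components of a system that is its own layer are normal in it. -/
theorem component_normal_aux (n : ℕ) : ∀ (S : Subgroup Ω) (G : FusionSystem S), Finite S →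
    Nat.card S = n → IsPGroup p S → G.IsLayerOf G p → ∀ (V : Subgroup Ω) (C : FusionSystem V),
      C.IsComponentIn G p → C.IsNormalIn G p := by
  induction n using Nat.strong_induction_on with
  | _ n ih =>
  intro S G hfin hcard hS hG V C hC
  haveI := hfin
  have hGs := hG.1.1.2.1
  obtain hn | ⟨U, M, hM, hUS, hCM⟩ :=
    exists_proper hC.1 ‹_› hfin hS hGs (layer_reduced hS hGs hG)
  · exact hn
  haveI := finite_of_le hUS.le
  obtain ⟨W, L, hL, -⟩ := exists_layer (hS.to_le hUS.le) hM.1.1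
  have hWU := normal_le hL.1
  have hWS := hWU.trans hUS.le
  haveI := finite_of_le hWS
  have hWp := hS.to_le hWS
  have hVW : V ≤ W := le_of_sub (hL.2.1 V C ⟨hCM, hC.2⟩)
  have hLn : L.IsNormalIn G p := layer_normal hS hGs hM hL
  have hlt : Nat.card W < n := hcard ▸ card_lt_of_lt le_rfl (lt_of_le_of_lt hWU hUS)
  have hCL : C.IsNormalIn L p := ih _ hlt W L ‹_› rfl hWp
    (layer_self (hS.to_le hUS.le) hM.1.1 hL) V C (component_of_le hS hGs hC hLn hVW)
  have hLr : Reduced p L := layer_reduced (hS.to_le hUS.le) hM.1.1 hL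
  -- the centralizer of `L`
  set Y := CentFocal.cent G L with hY
  have hYC : Y ≤ centralizerIn S W := CentFocal.cent_le
  have hYcl := CentFocal.stronglyClosed_cent hS hGs hLn
  obtain ⟨D₀, hD₀, -⟩ := CentFocal.exists_normal_of_focal_le hS hGs hLn.1.2.2.2.1 hYC hYcl
    (CentFocal.focal_le_cent hS hGs hLn)
  obtain ⟨E, hE, hEr⟩ := exists_reduced_normal hS hGs hD₀
  have hYS := hYcl.1
  haveI := finite_of_le hYS
  have hcomm : ∀ x ∈ W, ∀ y ∈ Y, x * y = y * x := fun x hx y hy =>
    Subgroup.mem_centralizer_iff.1 (hYC hy).2 x hx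
  have hz₁ := le_center_of_reduced hS hGs (Side.of_weaklyNormal hS hLn.1) hYcl hcomm hLr
  have hz₂ := le_center_of_reduced hS hGs (Side.of_weaklyNormal hS hE.1) hLn.1.2.2.2.1
    (fun x hx y hy => (hcomm y hy x hx).symm) hEr
  rw [inf_comm] at hz₂
  have hYp := hS.to_le hYS
  obtain ⟨D, hD⟩ := exists_cp hWp hYp hcomm hz₁ hz₂
  have hDn := cp_isNormalIn ⟨hS, hGs, hLn, hE, hcomm, hz₁, hz₂⟩ hD
  have hWYS : W ⊔ Y ≤ S := sup_le hWS hYS
  haveI := finite_of_le hWYS
  have hWYp := hS.to_le hWYS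
  have hLD := isNormalIn_cp_left hWYp hLn.1.1 hE.1.1 hD (isNormalIn_self hWp hLn.1.1)
  have hED := isNormalIn_cp_right hWYp hLn.1.1 hE.1.1 hD (isNormalIn_self hYp hE.1.1)
  -- `D` contains all components
  have hall : ∀ (V' : Subgroup Ω) (C' : FusionSystem V'), C'.IsComponentIn G p →
      C'.IsSubsystemOf D := by
    intro V' C' hC'
    by_cases hV' : V' ≤ W
    · exact fun P φ hφ => hLD.1.2.2.1 P (component_sub hS hGs hC' hLn hV' P hφ)
    obtain ⟨hVc, hfix⟩ := comp_commute hC'.1 ‹_› hfin hS hGs hC'.2 W L hLn hV'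
    have hV'S : V' ≤ S := hVc.trans inf_le_left
    haveI := finite_of_le hV'S
    have habs : Absorbs C' p (V' ⊓ Y) := by
      have hn' : ∀ s ∈ V', ∀ y ∈ V' ⊓ Y, s * y * s⁻¹ ∈ V' ⊓ Y := fun s hs y hy =>
        ⟨V'.mul_mem (V'.mul_mem hs hy.1) (V'.inv_mem hs),
          Components.conj_mem_of_stronglyClosed hYcl (hV'S hs) hy.2⟩
      refine ⟨inf_le_left, fun s hs => Subgroup.mem_normalizer_iff.2 fun y =>
        ⟨hn' s hs y, fun hy => ?_⟩, fun X hX β _ x hx => ?_⟩
      · simpa [mul_assoc] using hn' s⁻¹ (inv_mem hs) _ hy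
      refine ⟨V'.mul_mem (V'.inv_mem (hX hx)) (hX (autFun_mem _ hx)), ?_⟩
      obtain ⟨g, hg, hgβ, hgW⟩ := hfix X _ ((mem_autGroup_iff hX).1 β.2)
      refine CentFocal.focal_le_cent hS hGs hLn (Subgroup.subset_closure ⟨x, hVc (hX hx), g,
        hg.mono (sup_le_sup_right (Subgroup.zpowers_le.2 hx) _), hgW, ?_⟩)
      rw [hgβ x hx]
    have hV'Y : V' ≤ Y := fun v hv => by
      have h1 := hyperfocal_le habs
      rw [hC'.2.2.1] at h1
      exact (h1 hv).2
    exact fun P φ hφ => hED.1.2.2.1 P (component_sub hS hGs hC' hE hV'Y P hφ)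
  have hGD := hG.2.2 _ D hDn hall
  have hDG := hDn.1.2.2.1
  exact isNormalIn_congr (le_antisymm hWYS (le_of_sub hGD)) hDG hGD
    (isNormalIn_cp_left hWYp hLn.1.1 hE.1.1 hD hCL)

/-- A component is normal in every generalized Fitting subsystem. -/
theorem component_normal_fitting (hS : IsPGroup p S) (hF : F.IsSaturated p)
    {C : FusionSystem V} (hC : C.IsComponentIn F p) {D : FusionSystem U}
    (hD : D.IsGeneralizedFittingOf F p) : C.IsNormalIn D p := by
  obtain ⟨T, E, hE, hcp⟩ := hD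
  have h := comm_core_layer hS hF hE
  obtain ⟨-, hU⟩ := cp_data hcp
  haveI := finite_of_le h.cl₁.1
  haveI := finite_of_le h.cl₂.1
  have hUS : U ≤ S := hU ▸ sup_le h.cl₁.1 h.cl₂.1
  haveI := finite_of_le hUS
  have hCE := component_normal_aux (p := p) _ T E ‹_› rfl (hS.to_le h.cl₂.1)
    (layer_self hS hF hE) V C
    (component_of_le hS hF hC hE.1 (le_of_sub (hE.2.1 V C hC)))
  exact isNormalIn_cp_right (hS.to_le hUS) h.nor₁.1.1 h.nor₂.1.1 hcp hCE

end CfsgLib.Fusion.Meet
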