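import Cfsg.Agent.Lib.Fusion.System.Components.Existence
import Cfsg.Agent.Lib.Fusion.System.Components.CoreLayer
import Cfsg.Agent.Lib.Fusion.System.TransportComponent
import Cfsg.Agent.Lib.Fusion.System.Puig

/-!
# Reduced systems: quasisimple systems are their own `p'`-residual

A system is reduced when it is contained in each of its saturated subsystems of index prime to `p`.
-/

set_option autoImplicit false
set_option maxHeartbeats 1000000
set_option linter.style.haveILetI false
set_option linter.unusedSectionVars false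

open Subgroup
open scoped Classical Pointwise

namespace CfsgLib.Fusion.Meet

open Cfsg (FusionSystem autInducedBy)
open Cfsg.FusionSystem (normalizerIn centralizerIn preimageAlong)
open CfsgLib.Fusion

universe u

variable {Ω : Type u} [Group Ω] {S T : Subgroup Ω} {F C : FusionSystem S} {E : FusionSystem T}
  {p : ℕ} {P R : Subgroup Ω} {f : Ω → Ω}

/-- `C` is contained in each of its saturated subsystems of index prime to `p`. -/
def Reduced (p : ℕ) (C : FusionSystem S) : Prop :=
  ∀ D : FusionSystem S, D.IsSaturated p → D.HasPrimeToPIndexIn C p → C.IsSubsystemOf D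

theorem isSubsystemOf_refl (F : FusionSystem S) : F.IsSubsystemOf F := fun _ _ h => h

theorem eq_of_sub {D : FusionSystem S} (h₁ : C.IsSubsystemOf D) (h₂ : D.IsSubsystemOf C) : C = D :=
  Transport.eq_of_sameMaps fun P => Set.Subset.antisymm (h₁ P) (h₂ P)

/-- Elements of `p`-power order lie in a subsystem of index prime to `p`. -/
theorem mem_of_pElement [Fact p.Prime] {D : FusionSystem S} (hi : D.HasPrimeToPIndexIn C p)
    (hR : R ≤ S) {β : MulAut R} (hβ : β ∈ C.autGroup R) {k : ℕ} (hk : β ^ p ^ k = 1) :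
    β ∈ D.autGroup R := by
  obtain ⟨j, -, hj⟩ := (Nat.dvd_prime_pow (Fact.out : p.Prime)).1 (orderOf_dvd_of_pow_eq_one hk)
  exact hi.2 R hR ⟨⟨β, hβ⟩, Subgroup.subset_closure
    ⟨j, by rw [← hj]; exact Subgroup.orderOf_mk _ _⟩, rfl⟩

/-- The `p'`-residual is reduced. -/
theorem reduced_residual (hC : F.IsPPrimeResidual p C) : Reduced p C := by
  intro D hD hDi
  refine hC.2.2 D hD ⟨fun P φ hφ => hC.2.1.1 P (hDi.1 P hφ), fun P hP => ?_⟩
  refine Subgroup.map_le_iff_le_comap.2 ((Subgroup.closure_le _).2 ?_)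
  rintro a ⟨k, hk⟩
  have h1 : (a : MulAut P) ∈ C.autGroup P :=
    hC.2.1.2 P hP ⟨a, Subgroup.subset_closure ⟨k, hk⟩, rfl⟩
  refine hDi.2 P hP ⟨⟨a, h1⟩, Subgroup.subset_closure ⟨k, ?_⟩, rfl⟩
  rw [Subgroup.orderOf_mk, ← hk, Subgroup.orderOf_coe]

variable [Finite S] [Fact p.Prime]

/-- A weakly normal subsystem over the whole group of a reduced system is the system. -/
theorem eq_of_weaklyNormal_top (hS : IsPGroup p S) (hr : Reduced p C) {D : FusionSystem S}
    (hD : D.IsWeaklyNormalIn C p) : D = C :=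
  eq_of_sub hD.2.2.1 fun _ _ hφ =>
    mem_hom_iff.2 (Components.isMap_of_weaklyNormal_top hS hr rfl hD (isMap_toFun hφ))

/-- A system is normal in itself. -/
theorem isNormalIn_self (hS : IsPGroup p S) (hF : F.IsSaturated p) : F.IsNormalIn F p := by
  refine ⟨Components.isWeaklyNormalIn_self hS hF, fun α hα => ?_⟩
  have hB : S ⊔ centralizerIn S S = S := sup_eq_left.2 inf_le_left
  have hm := ((mem_autGroup_iff le_rfl).1 hα).mono hB.le
  have hi : img (S ⊔ centralizerIn S S) (autFun α) = S ⊔ centralizerIn S S :=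
    img_eq_of_map_le hB.le hm le_rfl fun x hx => hB.ge (autFun_mem α (hB.le hx))
  refine ⟨autOf hm hi, autOf_mem hm hi, fun x => ?_, fun c hc => ?_⟩
  · rw [← autFun_coe, Subgroup.coe_inclusion, autFun_autOf hm hi (Subgroup.mem_sup_left x.2),
      autFun_coe]
  · rw [← autFun_coe, autFun_autOf hm hi c.2]
    have hcS : (c : Ω) ∈ S := hc.1
    have hcC : (c : Ω) ∈ Subgroup.centralizer (S : Set Ω) := hc.2
    refine Subgroup.mem_inf.2 ⟨mul_mem (inv_mem hcS) (autFun_mem α hcS),
      mul_mem (inv_mem hcC) (Subgroup.mem_centralizer_iff.2 fun s hs => ?_)⟩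
    have hmS := (mem_autGroup_iff le_rfl).1 hα
    have hs' := autFun_mem α⁻¹ hs
    rw [← PPrime.autFun_symm' (α := α) hs, ← hmS.map_mul hs' hcS,
      Subgroup.mem_centralizer_iff.1 hcC _ hs', hmS.map_mul hcS hs']

/-- Quasisimple systems are reduced. -/
theorem reduced_of_quasisimple (hS : IsPGroup p S) (hq : C.Quasisimple p) : Reduced p C := by
  obtain ⟨hC, hhyp, hquot⟩ := hq
  obtain ⟨C0, hC0⟩ := Cfsg.Agent.S5140.result p hS C hC
  obtain ⟨hC0s, hC0i, hC0m⟩ := hC0
  suffices hle : C.IsSubsystemOf C0 from fun D hD hDi P φ hφ => hC0m D hD hDi P (hle P hφ)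
  set Z := C.center with hZd
  have hZsc : C.StronglyClosed Z :=
    stronglyClosed_of_isNormal (Components.isNormal_of_isCentral isCentral_center)
  have hZsc0 : C0.StronglyClosed Z :=
    ⟨hZsc.1, fun R hR φ hφ => hZsc.2 R hR φ (hC0i.1 R hφ)⟩
  set θ := QuotientGroup.mk' (Z.subgroupOf S) with hθ
  have hker : ∀ s : S, θ s = 1 ↔ (s : Ω) ∈ Z := fun s => by
    rw [hθ, QuotientGroup.mk'_apply, QuotientGroup.eq_one_iff, Subgroup.mem_subgroupOf]
  have hr : θ.range = ⊤ := MonoidHom.range_eq_top.2 (QuotientGroup.mk'_surjective _)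
  obtain ⟨E, hE⟩ := exists_isFactorSystem hZsc θ hker hr
  obtain ⟨E0, hE0⟩ := exists_isFactorSystem hZsc0 θ hker hr
  obtain ⟨hEs, hne, hsimp⟩ := hquot E hE
  haveI : Finite (⊤ : Subgroup (↥S ⧸ Z.subgroupOf S)) := Subtype.finite
  have hS' : IsPGroup p (⊤ : Subgroup (↥S ⧸ Z.subgroupOf S)) :=
    (hS.to_quotient _).to_subgroup _
  have hsurj := isSurjectiveMorphism_factor hS hC hZsc hE
  have hsurj0 := isSurjectiveMorphism_factor hS hC0s hZsc0 hE0
  have hbot : preimageAlong θ ⊥ = Z := PerfectCenter.preimage_bot hE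
  -- `E0` has index prime to `p` in `E`
  have hsub : E0.IsSubsystemOf E := fun P' φ' hφ' => by
    obtain ⟨hP', φ, hφ, hind⟩ := (hE0.2.2.2 P' φ').1 hφ'
    exact (hE.2.2.2 P' φ').2 ⟨hP', φ, hC0i.1 _ hφ, hind⟩
  have hE0i : E0.HasPrimeToPIndexIn E p := by
    refine Components.hasPrimeToPIndex_of_pElement hS' hEs hsub fun R' hR' β hβ k hk => ?_
    obtain ⟨l, hl, hle⟩ := exists_lift_map hsurj ((mem_autGroup_iff le_top).1 hβ)
    set P := preimageAlong θ R' with hPd
    have hPS : P ≤ S := preimageAlong_le θ R'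
    have hi : img P l = P := img_eq_of_map_le hPS hl le_rfl fun x hx => mem_preimageAlong.2
      ⟨hl.mem_S hx, by rw [hle x hx]; exact autFun_mem β (mem_preimageAlong.1 hx).2⟩
    haveI := finite_of_le hPS
    haveI := finite_mulAut (P := P)
    set α := autOf hl hi with hαd
    have hα : α ∈ C.autGroup P := autOf_mem hl hi
    have hαe : ∀ x ∈ P, ext1 θ (autFun α x) = autFun β (ext1 θ x) := fun x hx => by
      rw [hαd, autFun_autOf hl hi hx, hle x hx]
    have hpow : ∀ i : ℕ, ∀ x ∈ P, ext1 θ (autFun (α ^ i) x) = autFun (β ^ i) (ext1 θ x) := by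
      intro i
      induction i with
      | zero =>
        intro x hx
        rw [pow_zero, pow_zero, autFun_one hx, autFun_one (mem_preimageAlong.1 hx).2]
      | succ i ih =>
        intro x hx
        rw [pow_succ', pow_succ', autFun_mul _ _ hx, autFun_mul _ _ (mem_preimageAlong.1 hx).2,
          hαe _ (autFun_mem _ hx), ih x hx]
    set m := orderOf α / p ^ (orderOf α).factorization p with hm
    set v := (orderOf α).factorization p
    have hmp : Nat.Coprime p m := Nat.coprime_ordCompl Fact.out (orderOf_pos α).ne'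
    obtain ⟨r, hr'⟩ := exists_pow_eq_self_of_coprime (x := β) (n := m)
      (Nat.Coprime.symm ((Nat.Coprime.pow_left k hmp).coprime_dvd_left (orderOf_dvd_of_pow_eq_one hk)))
    have hγ : (α ^ m) ^ r ∈ C0.autGroup P := by
      refine pow_mem (mem_of_pElement hC0i hPS (pow_mem hα m) (k := v) ?_) r
      rw [← pow_mul, hm, Nat.div_mul_cancel (Nat.ordProj_dvd _ p)]
      exact pow_orderOf_eq_one α
    obtain ⟨e, he, hee⟩ := exists_image_map hsurj0 ((mem_autGroup_iff hPS).1 hγ)
    rw [imgι_preimageAlong (le_top.trans hr.ge)] at he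
    refine he.congr fun y hy => ?_
    obtain ⟨x, hx, rfl⟩ := exists_preimage (α := θ) (P' := R') (le_top.trans hr.ge) hy
    rw [hee x hx, ← pow_mul, hpow _ x hx, pow_mul, hr']
  -- so it is `E`
  obtain ⟨D, hD⟩ := Cfsg.Agent.S5140.result p hS' E hEs
  have hDn := Cfsg.Agent.S5141.result p hS' E hEs E (Components.isWeaklyNormalIn_self hS' hEs) D hD
  have hED : E.IsSubsystemOf E0 := by
    rcases hsimp _ D hDn with h | ⟨-, h⟩
    · exact absurd h hne
    · exact fun P φ hφ => hD.2.2 E0 (isSaturated_of_isFactorSystem hS hC0s hZsc0 hE0) hE0i P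
        ((h P).ge hφ)
  -- back to `C`
  refine le_of_autGroup_le hS hC fun R hR => ?_
  have hRc : C.IsCentric R := by
    rcases hR with rfl | hR
    · exact isCentric_self C
    · exact hR.1
  intro a ha
  have hRS := hRc.1
  have hZR : Z ≤ R := fun z hz => centralizerIn_le_of_isCentric hRc ⟨hZsc.1 hz,
    Subgroup.mem_centralizer_iff.2 fun x hx =>
      Subgroup.mem_centralizer_iff.1 (C.center_le_centralizer hz) x (hRS hx)⟩
  have hpre : preimageAlong θ (imgι θ R) = R := preimageAlong_imgι hRS (hbot.le.trans hZR)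
  have ha' := (mem_autGroup_iff hRS).1 ha
  obtain ⟨e, he, hee⟩ := exists_image_map hsurj ha'
  obtain ⟨c, hc, hce⟩ := exists_lift_map hsurj0 (Components.isMap_of_sub hED he)
  rw [hpre] at hc hce
  have hcR : ∀ x ∈ R, (autFun a x)⁻¹ * c x ∈ Z := fun x hx => by
    rw [← hbot, mem_preimageAlong]
    have h1 := hRS (autFun_mem a hx)
    refine ⟨mul_mem (inv_mem h1) (hc.mem_S hx), ?_⟩
    rw [Subgroup.mem_bot, ext1_mul θ (inv_mem h1) (hc.mem_S hx), ext1_inv θ h1, hce x hx, hee x hx,
      inv_mul_cancel]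
  have hci : img R c = R := img_eq_of_map_le hRS (Components.isMap_of_sub hC0i.1 hc) le_rfl fun x hx => by
    have := mul_mem (autFun_mem a hx) (hZR (hcR x hx))
    rwa [mul_inv_cancel_left] at this
  set b := autOf hc hci with hbd
  have hb : b ∈ C0.autGroup R := autOf_mem hc hci
  have hbC : b ∈ C.autGroup R := autGroup_mono hC0i.1 hRS hb
  have hbm := (mem_autGroup_iff hRS).1 hbC
  set δ := b⁻¹ * a with hδ
  have hfix : ∀ z ∈ Z, autFun δ z = z := fun z hz =>
    center_fixed ((mem_autGroup_iff hRS).1 (mul_mem (inv_mem hbC) ha)) (hZR hz) hz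
  have hstab : ∀ x ∈ R, x⁻¹ * autFun δ x ∈ Z := fun x hx => by
    have hz := hcR x hx
    set z := (autFun a x)⁻¹ * c x with hzd
    have h1 : autFun a x = c (x * z⁻¹) := by
      have hzR : z⁻¹ ∈ R := inv_mem (hZR hz)
      rw [hc.map_mul hx hzR, center_fixed (Components.isMap_of_sub hC0i.1 hc) hzR (inv_mem hz), hzd]
      group
    rw [hδ, autFun_mul _ _ hx, h1,
      ← autFun_autOf hc hci (mul_mem hx (inv_mem (hZR hz))), ← hbd,
      PPrime.autFun_symm (mul_mem hx (inv_mem (hZR hz))), inv_mul_cancel_left]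
    exact inv_mem hz
  obtain ⟨n, hn⟩ := IsPGroup.iff_card.1 hS
  have hpw : δ ^ p ^ n = 1 := autFun_ext fun x hx => by
    rw [pow_fix_step hRS hn le_rfl hZR hfix hstab x hx, autFun_one hx]
  have := mul_mem hb (mem_of_pElement hC0i hRS (mul_mem (inv_mem hbC) ha) hpw)
  rwa [mul_inv_cancel_left] at this

end CfsgLib.Fusion.Meet
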