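import Cfsg.Agent.Lib.Fusion.System.Meet.Greatest
import Cfsg.Agent.Lib.Fusion.System.Meet.Reduced

/-!
# Lifts of the automorphisms of a normal subsystem

Every automorphism in a normal subsystem `M` over `U` of a self-centralizing fully centralized
`W ≤ U` extends to `W C_S(W)` moving it only inside `U`.
-/

set_option autoImplicit false
set_option maxHeartbeats 1000000
set_option linter.style.haveILetI false
set_option linter.unusedSectionVars false

open Subgroup
open scoped Classical Pointwise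

namespace CfsgLib.Fusion.Meet

open Cfsg (FusionSystem autInducedBy)
open Cfsg.FusionSystem (normalizerIn centralizerIn)
open CfsgLib.Fusion CfsgLib.Fusion.CentLift

universe u

variable {Ω : Type u} [Group Ω] {S U : Subgroup Ω} {F : FusionSystem S} {M : FusionSystem U}
  {p : ℕ} {P Q R W X : Subgroup Ω} {f g : Ω → Ω}

/-- The automorphisms of `W C_S(W)` moving it inside `U`. -/
noncomputable def dispU (F : FusionSystem S) (U W : Subgroup Ω) (hW : W ≤ S)
    (hU : F.StronglyClosed U) : Subgroup (MulAut (base S W)) where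
  carrier := {a | a ∈ stabR F W ∧ ∀ y ∈ base S W, y⁻¹ * autFun a y ∈ U}
  one_mem' := ⟨one_mem _, fun y hy => by rw [autFun_one hy, inv_mul_cancel]; exact one_mem _⟩
  mul_mem' := fun {a b} ha hb => ⟨mul_mem ha.1 hb.1, fun y hy => by
    have hz : y⁻¹ * autFun b y ∈ base S W := mul_mem (inv_mem hy) (autFun_mem b hy)
    rw [autFun_mul _ _ hy, show autFun b y = y * (y⁻¹ * autFun b y) by group,
      autFun_map_mul a hy hz, ← mul_assoc]
    exact mul_mem (ha.2 y hy)
      (cl_mem hU ((mem_autGroup_iff (base_le hW)).1 ha.1.1) hz (hb.2 y hy))⟩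
  inv_mem' := fun {a} ha => ⟨inv_mem ha.1, fun y hy => by
    have h1 := ha.2 _ (autFun_mem a⁻¹ hy)
    rw [PPrime.autFun_symm' hy] at h1
    have h2 := inv_mem h1
    rwa [mul_inv_rev, inv_inv] at h2⟩

theorem dispU_conj {hW : W ≤ S} {hU : F.StronglyClosed U} {a b : MulAut (base S W)}
    (ha : a ∈ stabR F W) (hb : b ∈ dispU F U W hW hU) : a * b * a⁻¹ ∈ dispU F U W hW hU := by
  refine ⟨mul_mem (mul_mem ha hb.1) (inv_mem ha), fun y hy => ?_⟩
  have hy' := autFun_mem a⁻¹ hy
  have hm := (mem_autGroup_iff (base_le hW)).1 ha.1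
  have hz : (autFun a⁻¹ y)⁻¹ * autFun b (autFun a⁻¹ y) ∈ base S W :=
    mul_mem (inv_mem hy') (autFun_mem b hy')
  have h1 := cl_mem hU hm hz (hb.2 _ hy')
  rw [hm.map_mul (inv_mem hy') (autFun_mem b hy'), hm.map_inv hy', PPrime.autFun_symm' hy] at h1
  rwa [autFun_mul _ _ hy, autFun_mul _ _ hy']

theorem conjAut_mem_stabR (hW : W ≤ S) {s : Ω} (hs : s ∈ normalizerIn S W) :
    conjAut s (mem_normalizer_base le_rfl hs) ∈ stabR F W :=
  ⟨(mem_autGroup_iff (base_le hW)).2 ((isMap_conj (base_le hW) hs.1).congr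
    fun x hx => autFun_conjAut _ hx), fun x hx => by
      rw [autFun_conjAut _ hx]; exact Subgroup.mem_normalizer_iff.1 hs.2 x⟩

variable [Finite S] [Fact p.Prime]

/-- The base of a fully centralized subgroup is centric. -/
theorem isCentric_base (hS : IsPGroup p S) (hF : F.IsSaturated p) (hX : F.IsFullyCentralized X) :
    F.IsCentric (base S X) := by
  refine ⟨base_le hX.1, fun R hR => ?_⟩
  obtain ⟨θ, hθ, rfl⟩ := isConj_iff.1 hR
  have hθX := hθ.mono (le_sup_left : X ≤ base S X)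
  have hθC := hθ.mono (le_sup_right : centralizerIn S X ≤ base S X)
  have hC : img (centralizerIn S X) θ = centralizerIn S (img X θ) := by
    refine eq_of_le_of_card_le inf_le_left (hθC.img_le_of_forall fun y hy => ?_)
      (hθC.card_img.symm ▸ hX.2 _ (isConj_iff.2 ⟨θ, hθX, rfl⟩))
    exact map_mem_centralizerIn hθ le_sup_left (Subgroup.mem_sup_right hy) hy.2
  exact fun w hw => hθ.img_mono le_sup_right
    (hC.ge ⟨hw.1, Subgroup.centralizer_le (hθ.img_mono le_sup_left) hw.2⟩)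

/-- An automorphism fixing `X` moving `X C_S(X)` by `Z(X)` is conjugation by `C_S(X)`. -/
theorem exists_conj_of_fix_base (hS : IsPGroup p S) (hF : F.IsSaturated p)
    (hX : F.IsFullyCentralized X) {a : MulAut (base S X)} (ha : a ∈ stabR F X)
    (hfix : ∀ x ∈ X, autFun a x = x) (hdisp : ∀ x ∈ base S X, x⁻¹ * autFun a x ∈ X) :
    ∃ y ∈ centralizerIn S X, IsConjBy a y := by
  have hXS := hX.1
  have hQR : X ≤ base S X := le_sup_left
  have hCR : centralizerIn S X ≤ base S X := le_sup_right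
  have hRS := base_le (S := S) hXS
  haveI := finite_of_le hRS
  haveI := finite_mulAut (P := base S X)
  have hall : ∀ x ∈ base S X, x⁻¹ * autFun a x ∈ zof X := fun x hx => by
    obtain ⟨q, hq, c, hc, rfl⟩ := mem_base (C := centralizerIn S X) inf_le_right hx
    have h1 := hdisp c (hCR hc)
    refine ⟨hdisp _ hx, ?_⟩
    rw [autFun_map_mul a (hQR hq) (hCR hc), hfix q hq,
      show (q * c)⁻¹ * (q * autFun a c) = c⁻¹ * autFun a c by group]
    exact Subgroup.mul_mem _ (Subgroup.inv_mem _ hc.2) (stab_cent ha hc).2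
  obtain ⟨j, hj⟩ := CentFocal.isPGroup_stab (F := F) (hQW := hQR) (hZ := zof_le_centralizer)
    hS hRS ⟨a, ha.1, hfix, hall⟩
  obtain ⟨θ, hθ, -, hθA⟩ := exists_conj_pAut hS hF hRS
    (isPGroup_zpowers_of_pow (congrArg Subtype.val hj)) (Subgroup.zpowers_le.2 ha.1)
  obtain ⟨s, ⟨hsS, -⟩, hs⟩ := hθA a (Subgroup.mem_zpowers a)
  have hθQ := hθ.mono hQR
  have hθC := hθ.mono hCR
  have hCimg : img (centralizerIn S X) θ = centralizerIn S (img X θ) := by
    refine eq_of_le_of_card_le inf_le_left (hθC.img_le_of_forall fun y hy => ?_)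
      (hθC.card_img.symm ▸ hX.2 _ (isConj_iff.2 ⟨θ, hθQ, rfl⟩))
    exact map_mem_centralizerIn hθ hQR (hCR hy) hy.2
  have hsC : s ∈ centralizerIn S (img X θ) := by
    refine ⟨hsS, Subgroup.mem_centralizer_iff.2 fun w hw => ?_⟩
    obtain ⟨q, hq, rfl⟩ := hθQ.mem_img.1 hw
    have h1 := hs q (hQR hq)
    rw [hfix q hq] at h1
    conv_lhs => rw [h1]
    group
  rw [← hCimg] at hsC
  obtain ⟨y, hy, rfl⟩ := hθC.mem_img.1 hsC
  refine ⟨y, hy, fun x hx => hθ.inj (autFun_mem a hx) ?_ ?_⟩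
  · exact mul_mem (mul_mem (hCR hy) hx) (inv_mem (hCR hy))
  · rw [hs x hx, hθ.map_conj (hCR hy) hx]

/-- `γ` extends to `W C_S(W)` moving it inside `U`. -/
def DLift (F : FusionSystem S) (U W : Subgroup Ω) (γ : MulAut W) : Prop :=
  ∃ a ∈ stabR F W, (∀ y ∈ base S W, y⁻¹ * autFun a y ∈ U) ∧
    ∀ x ∈ W, autFun a x = autFun γ x

variable (h : Setup F p M M U) (hM : M.IsNormalIn F p)
include h hM

omit hM in
theorem DLift.mul (hW : W ≤ U) {γ δ : MulAut W} (hγ : DLift F U W γ) (hδ : DLift F U W δ) :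
    DLift F U W (γ * δ) := by
  obtain ⟨a, ha, had, hae⟩ := hγ
  obtain ⟨b, hb, hbd, hbe⟩ := hδ
  have h1 : a * b ∈ dispU F U W (hW.trans h.hTS) h.closed := mul_mem ⟨ha, had⟩ ⟨hb, hbd⟩
  exact ⟨a * b, h1.1, h1.2, fun x hx => by
    rw [autFun_mul _ _ (Subgroup.mem_sup_left hx), hbe x hx, hae _ (autFun_mem _ hx),
      autFun_mul _ _ hx]⟩

omit hM in
theorem DLift.pow (hW : W ≤ U) {γ : MulAut W} (hγ : DLift F U W γ) (n : ℕ) :
    DLift F U W (γ ^ n) := by
  obtain ⟨a, ha, had, hae⟩ := hγ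
  have h1 : a ^ n ∈ dispU F U W (hW.trans h.hTS) h.closed :=
    pow_mem (⟨ha, had⟩ : a ∈ dispU F U W (hW.trans h.hTS) h.closed) n
  exact ⟨a ^ n, h1.1, h1.2, autFun_pow_eq le_sup_left hae n⟩

/-- Lifts at `U`. -/
theorem dlift_top {γ : MulAut U} (hγ : γ ∈ M.autGroup U) : DLift F U U γ := by
  have hBS := base_le (S := S) h.hTS
  obtain ⟨b, hb, hbU, hbd⟩ := hM.2 γ hγ
  have hbU' : ∀ x ∈ U, autFun b x = autFun γ x := fun x hx => by
    rw [autFun_apply b (Subgroup.mem_sup_left hx), autFun_apply _ hx]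
    exact hbU ⟨x, hx⟩
  refine ⟨b, ⟨hb, fun x hx => ⟨fun hxU => hbU' x hxU ▸ autFun_mem γ hxU, fun hbx => ?_⟩⟩,
    fun y hy => ?_, hbU'⟩
  · have h1 := autFun_mem γ⁻¹ hbx
    rwa [((mem_autGroup_iff hBS).1 hb).inj hx (Subgroup.mem_sup_left h1)
      (by rw [hbU' _ h1, PPrime.autFun_symm' hbx])]
  · obtain ⟨t, ht, c, hc, rfl⟩ := mem_base (C := centralizerIn S U) inf_le_right hy
    rw [autFun_map_mul b (Subgroup.mem_sup_left ht) (Subgroup.mem_sup_right hc), hbU' t ht,
      show (t * c)⁻¹ * (autFun γ t * autFun b c) =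
        c⁻¹ * (t⁻¹ * autFun γ t) * c⁻¹⁻¹ * (c⁻¹ * autFun b c) by group]
    refine mul_mem ((Subgroup.mem_normalizer_iff.1 (h.normal (inv_mem hc.1)) _).1
      (mul_mem (inv_mem ht) (autFun_mem _ ht))) ?_
    rw [autFun_apply b (Subgroup.mem_sup_right hc)]
    exact (hbd ⟨c, Subgroup.mem_sup_right hc⟩ hc).1

/-- Lifts are carried along maps of bases. -/
theorem DLift.transport (hW : W ≤ U) (hWc : F.IsFullyCentralized W)
    (hX : F.IsFullyCentralized X) (hg : IsMap F (base S W) g) (hi : img W g = X) {γ : MulAut W}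
    {γ' : MulAut X} (hγ : DLift F U W γ) (he : ∀ x ∈ W, autFun γ' (g x) = g (autFun γ x)) :
    DLift F U X γ' := by
  obtain ⟨a, ha, had, hae⟩ := hγ
  have hWS := hW.trans h.hTS
  have hB := img_base hX hWc hg hi
  obtain ⟨g', hg', hg1, hg2⟩ := hg.exists_inv
  rw [hB] at hg' hg2
  have hmem : ∀ x ∈ base S W, g x ∈ base S X := fun x hx => hB.le (hg.mem_img.2 ⟨x, hx, rfl⟩)
  have hm : IsMap F (base S X) (g ∘ (autFun a ∘ g')) :=
    (hg'.comp ((mem_autGroup_iff (base_le hWS)).1 ha.1) fun y hy => (hg2 y hy).1).comp hg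
      fun y hy => autFun_mem a (hg2 y hy).1
  have hmi : img (base S X) (g ∘ (autFun a ∘ g')) = base S X :=
    img_eq_of_map_le (base_le hX.1) hm le_rfl fun y hy => hmem _ (autFun_mem a (hg2 y hy).1)
  set a' := autOf hm hmi with ha'
  have hev : ∀ x ∈ base S W, autFun a' (g x) = g (autFun a x) := fun x hx => by
    rw [ha', autFun_autOf hm hmi (hmem x hx)]
    show g (autFun a (g' (g x))) = _
    rw [hg1 x hx]
  have hgW : ∀ x ∈ base S W, (g x ∈ X ↔ x ∈ W) := fun x hx => by
    constructor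
    · intro hxX
      obtain ⟨y, hy, hyx⟩ := (hg.mono le_sup_left).mem_img.1 (hi.ge hxX)
      rwa [hg.inj hx (Subgroup.mem_sup_left hy) hyx.symm]
    · intro hxW
      exact hi.le ((hg.mono le_sup_left).mem_img.2 ⟨x, hxW, rfl⟩)
  refine ⟨a', ⟨autOf_mem hm hmi, fun y hy => ?_⟩, fun y hy => ?_, fun y hy => ?_⟩
  · obtain ⟨x, hx, rfl⟩ := hg.mem_img.1 (hB.ge hy)
    rw [hev x hx, hgW x hx, hgW _ (autFun_mem a hx)]
    exact ha.2 x hx
  · obtain ⟨x, hx, rfl⟩ := hg.mem_img.1 (hB.ge hy)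
    rw [hev x hx, ← hg.map_inv hx, ← hg.map_mul (inv_mem hx) (autFun_mem a hx)]
    exact cl_mem h.closed hg (mul_mem (inv_mem hx) (autFun_mem a hx)) (had x hx)
  · obtain ⟨x, hx, rfl⟩ := (hg.mono le_sup_left).mem_img.1 (hi.ge hy)
    rw [hev x (Subgroup.mem_sup_left hx), hae x hx, he x hx]

/-- Automorphisms of `W` extending to `N_U(W)` lift, once those of `N_U(W)` do. -/
theorem dlift_of_normalizing (hW : F.IsFullyNormalized W) (hWs : SelfC F U W)
    {X : Subgroup Ω} (hWX : W ≤ X) (hXN : X ≤ normalizerIn U W)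
    (hN : ∀ γ ∈ M.autGroup X, DLift F U X γ) {b : MulAut W}
    (hco : (orderOf b).Coprime p) {k : MulAut X}
    (hk : k ∈ M.autGroup X) (hkb : ∀ x ∈ W, autFun k x = autFun b x) :
    DLift F U W b := by
  have hS := h.pgroup
  have hF := h.sat
  have hWU := hWs.le
  have hWS := hWU.trans h.hTS
  have hXU : X ≤ U := hXN.trans inf_le_left
  have hXS := hXU.trans h.hTS
  have hXc := isFullyCentralized_over hS hF h.closed hW hWs hWX hXN
  have hXs : SelfC F U X := hWs.mono hWX hXU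
  obtain ⟨a, ha, had, hak⟩ := hN k hk
  have hRS := base_le (S := S) hXS
  set C := centralizerIn S W with hC
  have hCX : ∀ r ∈ C, r ∈ normalizerIn S X := fun r hr =>
    ⟨hr.1, conj_cent_mem hS hF h.closed hW hWs hWX hXN hr⟩
  have hCR : C ≤ normalizerIn S (base S X) := fun r hr =>
    ⟨hr.1, mem_normalizer_base le_rfl (hCX r hr)⟩
  have haW : ∀ x ∈ W, autFun a x = autFun b x := fun x hx => by rw [hak x (hWX hx), hkb x hx]
  have ha' : a ∈ dispU F U X hXS h.closed := ⟨ha, had⟩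
  have ham := (mem_autGroup_iff hRS).1 ha.1
  -- the commutators with `C_S(W)`
  have key : ∀ r ∈ C, ∃ u ∈ W, ∃ y ∈ centralizerIn S X, u * y * r ∈ S ∧
      ∀ x ∈ (base S X), autFun a (r * x * r⁻¹) = u * y * r * autFun a x * (u * y * r)⁻¹ := by
    intro r hr
    have hrX := hCX r hr
    set cr := conjAut r (mem_normalizer_base le_rfl hrX) with hcr
    have hcrs : cr ∈ stabR F X := conjAut_mem_stabR hXS hrX
    set δ := a * cr * a⁻¹ * cr⁻¹ with hδd
    have hδ : δ ∈ dispU F U X hXS h.closed := by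
      rw [hδd, show a * cr * a⁻¹ * cr⁻¹ = a * (cr * a⁻¹ * cr⁻¹) by group]
      exact mul_mem ha' (dispU_conj hcrs (inv_mem ha'))
    have hδm := (mem_autGroup_iff hRS).1 hδ.1.1
    have hXR : X ≤ (base S X) := le_sup_left
    have hrW : ∀ x ∈ W, r * x * r⁻¹ = x := fun x hx => by
      rw [← Subgroup.mem_centralizer_iff.1 hr.2 x hx, mul_inv_cancel_right]
    have hfixW : ∀ x ∈ W, autFun δ x = x := fun x hx => by
      have hxR : x ∈ (base S X) := hXR (hWX hx)
      have h1 : autFun cr⁻¹ x = x := by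
        conv_lhs => rw [← hrW x hx, ← autFun_conjAut (mem_normalizer_base le_rfl hrX) hxR, ← hcr,
          PPrime.autFun_symm hxR]
      have h2 : autFun a⁻¹ x ∈ W := stab_mem (inv_mem ha) (hWX hx) |> fun _ => by
        have h3 := autFun_mem b⁻¹ hx
        have h4 : autFun a⁻¹ x = autFun b⁻¹ x := by
          conv_lhs => rw [← PPrime.autFun_symm' (α := b) hx, ← haW _ h3,
            PPrime.autFun_symm (hXR (hWX h3))]
        rw [h4]; exact h3
      rw [hδd, autFun_mul _ _ hxR, h1, autFun_mul _ _ hxR, autFun_mul _ _ (autFun_mem _ hxR), hcr,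
        autFun_conjAut _ (autFun_mem _ hxR), hrW _ h2, PPrime.autFun_symm' hxR]
    have hδX : IsMap F X (autFun δ) := hδm.mono hXR
    have hδi : img X (autFun δ) = X :=
      img_eq_of_map_le hXS hδX le_rfl fun x hx => stab_mem hδ.1 hx
    obtain ⟨s, hs, hse⟩ := exists_conj_of_fix hS hF h.closed hW hWs hWX hXN
      (autOf_mem hδX hδi) fun x hx => (autFun_autOf hδX hδi (hWX hx)).trans (hfixW x hx)
    have hsv : ∀ x ∈ X, autFun δ x = s * x * s⁻¹ := fun x hx =>
      (autFun_autOf hδX hδi hx).symm.trans (hse x hx)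
    -- it is in `M`
    have hkF : IsMap F X (autFun k) := ((mem_autGroup_iff hXU).1 hk).ofSubsystem h.side₁.sub
    set crX := conjAut r hrX.2 with hcrX
    have hcrXF : crX ∈ F.autGroup X := autInducedBy_le_autGroup hXS (conjAut_mem hrX.1 hrX.2)
    have hδk : ∀ x ∈ X, autFun (k * crX * k⁻¹ * crX⁻¹) x = autFun δ x := fun x hx => by
      have hc1 : ∀ z ∈ X, autFun cr z = autFun crX z := fun z hz => by
        rw [hcr, autFun_conjAut _ (hXR hz), hcrX, autFun_conjAut _ hz]
      have hc2 : ∀ z ∈ X, autFun cr⁻¹ z = autFun crX⁻¹ z := fun z hz => by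
        conv_lhs => rw [← PPrime.autFun_symm' (α := crX) hz, ← hc1 _ (autFun_mem _ hz),
          PPrime.autFun_symm (hXR (autFun_mem _ hz))]
      have ha2 : ∀ z ∈ X, autFun a⁻¹ z = autFun k⁻¹ z := fun z hz => by
        conv_lhs => rw [← PPrime.autFun_symm' (α := k) hz, ← hak _ (autFun_mem _ hz),
          PPrime.autFun_symm (hXR (autFun_mem _ hz))]
      rw [hδd, autFun_mul _ _ hx, autFun_mul _ _ (hXR hx), hc2 x hx, autFun_mul _ _ (autFun_mem _ hx),
        autFun_mul _ _ (hXR (autFun_mem _ hx)), autFun_mul _ _ (autFun_mem _ (autFun_mem _ hx)),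
        autFun_mul _ _ (hXR (autFun_mem _ hx) |> fun h => autFun_mem _ h), ha2 _ (autFun_mem _ hx),
        hc1 _ (autFun_mem _ (autFun_mem _ hx)), hak _ (autFun_mem _ (autFun_mem _ (autFun_mem _ hx)))]
    have hM1 : k * crX * k⁻¹ * crX⁻¹ ∈ M.autGroup X := by
      rw [show k * crX * k⁻¹ * crX⁻¹ = k * (crX * k⁻¹ * crX⁻¹) by group]
      exact mul_mem hk (conj_mem_autGroup h.side₁ hXU hcrXF (inv_mem hk))
    haveI := finite_of_le h.hTS
    have hMM := isNormalIn_self (h.pgroup.to_le h.hTS) h.side₁.sat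
    have hlab : Lab F M M U p X (fun x => s * x * s⁻¹) 1 :=
      ((isMap_meetSys h).1 (Components.isMap_of_sub (sub_meetSys h hM hMM hMM) ((mem_autGroup_iff hXU).1 hM1))).congr
        fun x hx => by rw [hδk x hx, hsv x hx]
    obtain ⟨u, hu, hue⟩ := exists_T_of_lab_conj h hXs hXc
      ⟨hs.1, conj_cent_mem hS hF h.closed hW hWs hWX hXN hs⟩ hlab
    have huW : u ∈ W := hWs.cent h.hTS ⟨hu, Subgroup.mem_centralizer_iff.2 fun x hx => by
      have h1 := hue x (hWX hx)
      rw [← Subgroup.mem_centralizer_iff.1 hs.2 x hx, mul_inv_cancel_right] at h1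
      calc x * u = u * x * u⁻¹ * u := by rw [← h1]
        _ = u * x := by group⟩
    have huN : u ∈ normalizerIn U X := ⟨hu, Subgroup.le_normalizer (hWX huW)⟩
    have huN' : u ∈ normalizerIn S X := ⟨h.hTS hu, huN.2⟩
    set cu := conjAut u (mem_normalizer_base le_rfl huN') with hcu
    have hcud : cu ∈ dispU F U X hXS h.closed := by
      refine ⟨conjAut_mem_stabR hXS huN', fun z hz => ?_⟩
      rw [hcu, autFun_conjAut _ hz, show z⁻¹ * (u * z * u⁻¹) = (z⁻¹ * u * z⁻¹⁻¹) * u⁻¹ by group]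
      exact mul_mem ((Subgroup.mem_normalizer_iff.1 (h.normal (S.inv_mem (hRS hz))) u).1 hu)
        (inv_mem hu)
    have hd2 : cu⁻¹ * δ ∈ dispU F U X hXS h.closed := mul_mem (inv_mem hcud) hδ
    have hfix2 : ∀ x ∈ X, autFun (cu⁻¹ * δ) x = x := fun x hx => by
      rw [autFun_mul _ _ (hXR hx), hsv x hx, hue x hx,
        ← autFun_conjAut (mem_normalizer_base le_rfl huN') (hXR hx), ← hcu,
        PPrime.autFun_symm (hXR hx)]
    obtain ⟨y, hy, hye⟩ := exists_conj_of_fix_base hS hF hXc hd2.1 hfix2 fun z hz =>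
      mem_of_mem_base h.hTS hXs (mul_mem (inv_mem hz) (autFun_mem _ hz)) (hd2.2 z hz)
    refine ⟨u, huW, y, hy, mul_mem (mul_mem (h.hTS hu) hy.1) hr.1, fun x hx => ?_⟩
    have hax := autFun_mem a hx
    have hxr : r * x * r⁻¹ ∈ (base S X) := (Subgroup.mem_normalizer_iff.1 (hCR hr).2 x).1 hx
    have hrax : r * autFun a x * r⁻¹ ∈ (base S X) :=
      (Subgroup.mem_normalizer_iff.1 (hCR hr).2 _).1 hax
    have h1 : autFun δ (r * autFun a x * r⁻¹) = autFun a (r * x * r⁻¹) := by
      rw [← autFun_conjAut (mem_normalizer_base le_rfl hrX) hax, ← hcr, hδd,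
        autFun_mul _ _ (autFun_mem _ hax), PPrime.autFun_symm hax, autFun_mul _ _ hax,
        autFun_mul _ _ (autFun_mem _ hax), PPrime.autFun_symm hx, hcr,
        autFun_conjAut _ hx]
    have h2 : autFun δ (r * autFun a x * r⁻¹) =
        u * (y * (r * autFun a x * r⁻¹) * y⁻¹) * u⁻¹ := by
      rw [← hye _ hrax, ← autFun_conjAut (mem_normalizer_base le_rfl huN') (autFun_mem _ hrax),
        ← hcu, ← autFun_mul _ _ hrax, mul_inv_cancel_left]
    rw [← h1, h2]
    group
  -- extend and take a power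
  obtain ⟨G, hG, hGe⟩ := (isReceptive_iff.1 (IsSaturated.isReceptive hS hF
    (isFullyCentralized_of_isCentric (isCentric_base hS hF hXc)))).2 (base S X) (autFun a) ham (img_autFun a)
  set Y := (base S X) ⊔ C with hY
  have hYS : Y ≤ S := sup_le hRS inf_le_left
  have hYe : Y ≤ extSub S (base S X) (autFun a) := sup_le (le_extSub ham) fun r hr => by
    obtain ⟨u, -, y, -, hS', he⟩ := key r hr
    exact ⟨hCR hr, u * y * r, hS', he⟩
  have hGY := hG.mono hYe
  have hRY : (base S X) ≤ Y := le_sup_left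
  have hCY : C ≤ Y := le_sup_right
  have hGR : img (base S X) G = (base S X) := (IsMap.img_congr hGe).trans (img_autFun a)
  have hWR : W ≤ (base S X) := hWX.trans le_sup_left
  have hGW : ∀ x ∈ W, G x = autFun b x := fun x hx => by rw [hGe x (hWR hx), haW x hx]
  have hiW : img W G = W := img_eq_of_map_le hWS hGY (hWR.trans hRY)
    fun x hx => by rw [hGW x hx]; exact autFun_mem b hx
  have hBY : base S W ≤ Y := sup_le (hWR.trans hRY) hCY
  have hGB : IsMap F (base S W) G := hGY.mono hBY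
  have hGBi : img (base S W) G = base S W := img_eq_of_map_le (base_le hWS) hGB le_rfl
    fun z hz => hGB.map_mem_of_sup
      (fun x hx => Subgroup.mem_sup_left (hiW.le ((hGB.mono le_sup_left).mem_img.2 ⟨x, hx, rfl⟩)))
      (fun c hc => Subgroup.mem_sup_right (hiW ▸ map_mem_centralizerIn hGB le_sup_left
        (Subgroup.mem_sup_right hc) hc.2)) hz
  set g := autOf hGB hGBi with hg
  have hge : ∀ x ∈ base S W, autFun g x = G x := fun x hx => autFun_autOf hGB hGBi hx
  -- displacements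
  have hw : ∀ r ∈ C, r⁻¹ * G r ∈ (base S X) := fun r hr => by
    obtain ⟨u, hu, y, hy, hS', he⟩ := key r hr
    have hrY := hCY hr
    set z := (u * y * r)⁻¹ * G r with hz
    have hzC : z ∈ centralizerIn S (base S X) := by
      refine ⟨S.mul_mem (S.inv_mem hS') (hGY.mem_S hrY), Subgroup.mem_centralizer_iff.2 fun w hw => ?_⟩
      obtain ⟨x, hx, rfl⟩ := (hGY.mono hRY).mem_img.1 (hGR.ge hw)
      have h1 : G r * G x * (G r)⁻¹ = u * y * r * G x * (u * y * r)⁻¹ := by
        rw [← hGY.map_conj hrY (hRY hx),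
          hGe _ ((Subgroup.mem_normalizer_iff.1 (hCR hr).2 x).1 hx), hGe x hx, he x hx]
      calc G x * ((u * y * r)⁻¹ * G r)
          = (u * y * r)⁻¹ * (u * y * r * G x * (u * y * r)⁻¹) * G r := by group
        _ = (u * y * r)⁻¹ * G r * G x := by rw [← h1]; group
    have hzR : z ∈ (base S X) := centralizerIn_le_of_isCentric (isCentric_base hS hF hXc) hzC
    rw [show r⁻¹ * G r = r⁻¹ * (u * y) * r⁻¹⁻¹ * z by rw [hz]; group]
    refine mul_mem ((Subgroup.mem_normalizer_iff.1 (inv_mem (hCR hr)).2 _).1 ?_) hzR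
    exact mul_mem (hWR hu) (Subgroup.mem_sup_right hy)
  have hmodU : ∀ y ∈ S, ∀ v ∈ U, y⁻¹ * v * y ∈ U := fun y hy v hv => by
    have := (Subgroup.mem_normalizer_iff.1 (h.normal (inv_mem hy)) v).1 hv
    rwa [inv_inv] at this
  have hpow : ∀ r ∈ C, ∀ i : ℕ, (r * (r⁻¹ * G r) ^ i)⁻¹ * autFun (g ^ i) r ∈ U := by
    intro r hr i
    have hrB : r ∈ base S W := Subgroup.mem_sup_right hr
    induction i with
    | zero => rw [pow_zero, pow_zero, autFun_one hrB, mul_one, inv_mul_cancel]; exact one_mem _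
    | succ i ih =>
      set w := r⁻¹ * G r with hwd
      set v := (r * w ^ i)⁻¹ * autFun (g ^ i) r with hvd
      have hwi : w ^ i ∈ (base S X) := pow_mem (hw r hr) i
      have hvY : v ∈ Y := mul_mem (inv_mem (mul_mem (hCY hr) (hRY hwi)))
        (hBY (autFun_mem _ hrB))
      have h1 := had _ hwi
      rw [← hGe _ hwi] at h1
      rw [pow_succ' g, autFun_mul _ _ hrB, hge _ (autFun_mem _ hrB),
        show autFun (g ^ i) r = r * w ^ i * v by rw [hvd, mul_inv_cancel_left],
        hGY.map_mul (mul_mem (hCY hr) (hRY hwi)) hvY, hGY.map_mul (hCY hr) (hRY hwi),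
        show G r = r * w by rw [hwd, mul_inv_cancel_left],
        show (r * w ^ (i + 1))⁻¹ * (r * w * G (w ^ i) * G v) = (w ^ i)⁻¹ * G (w ^ i) * G v by
          rw [pow_succ' w]; group]
      exact mul_mem h1 (cl_mem h.closed hGY hvY ih)
  obtain ⟨n, hn⟩ := IsPGroup.iff_card.1 hS
  have hlift : DLift F U W (b ^ p ^ n) := by
    have hgs : g ∈ stabR F W := by
      refine ⟨autOf_mem hGB hGBi, fun x hx => ?_⟩
      rw [hge x hx]
      refine ⟨fun hxW => hGW x hxW ▸ autFun_mem b hxW, fun hGx => ?_⟩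
      obtain ⟨y, hy, hyx⟩ := (hGB.mono le_sup_left).mem_img.1 (hiW.ge hGx)
      rwa [hGB.inj hx (Subgroup.mem_sup_left hy) hyx.symm]
    refine ⟨g ^ p ^ n, pow_mem hgs _, fun y hy => ?_, autFun_pow_eq le_sup_left
      (fun x hx => by rw [hge x (Subgroup.mem_sup_left hx), hGW x hx]) _⟩
    obtain ⟨q, hq, r, hr, rfl⟩ := mem_base (C := C) inf_le_right hy
    have hqB : q ∈ base S W := Subgroup.mem_sup_left hq
    have hrB : r ∈ base S W := Subgroup.mem_sup_right hr
    have h1 := hpow r hr (p ^ n)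
    have hw1 : (r⁻¹ * G r) ^ p ^ n = 1 := by
      have h2 := congrArg Subtype.val (pow_card_eq_one' (x := (⟨_, hRS (hw r hr)⟩ : S)))
      rwa [hn] at h2
    rw [hw1, mul_one] at h1
    rw [autFun_map_mul _ hqB hrB,
      show (q * r)⁻¹ * (autFun (g ^ p ^ n) q * autFun (g ^ p ^ n) r) =
        r⁻¹ * (q⁻¹ * autFun (g ^ p ^ n) q) * r * (r⁻¹ * autFun (g ^ p ^ n) r) by group]
    refine mul_mem (hmodU r hr.1 _ (mul_mem (inv_mem (hWU hq)) (hWU ?_))) h1
    exact stab_mem (pow_mem hgs _) hq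
  obtain ⟨m, hm⟩ := Components.exists_pow_pow_eq hco n
  exact hm ▸ hlift.pow h hWU m

/-- Automorphisms in `M` lift. -/
theorem dlift (hWs : SelfC F U W) (hWc : F.IsFullyCentralized W) {γ : MulAut W}
    (hγ : γ ∈ M.autGroup W) : DLift F U W γ := by
  induction hk : Nat.card U - Nat.card W using Nat.strong_induction_on generalizing W with
  | _ n ih =>
  subst hk
  by_cases hWU : W = U
  · subst hWU; exact dlift_top h hM hγ
  have hS := h.pgroup
  have hF := h.sat
  have hWS := hWc.1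
  obtain ⟨Q, hWQ, hQ⟩ := exists_fullyNormalized (F := F) hWS
  obtain ⟨f, hf, hfQ⟩ := isConj_iff.1 hWQ
  have hQc := IsSaturated.isFullyCentralized hS hF hQ
  have hQs : SelfC F U Q := hfQ ▸ hWs.map h.closed hf
  have hQU := hQs.le
  have hcard : Nat.card Q = Nat.card W := isConj_card hWQ
  have hQne : Q ≠ U := fun e => hWU (eq_of_le_of_card_le h.hTS hWs.le (by rw [← hcard, e]))
  have hMQ : ∀ β ∈ M.autGroup Q, DLift F U Q β := by
    obtain ⟨L⟩ := exists_lModel hS hF hQ
    have hmG : ∀ β ∈ L.mGroup h hQU, DLift F U Q β := by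
      rintro _ ⟨g, hg, rfl⟩
      have hK := L.hSub_le h hQ hQU hg
      rw [L.mem_kSub] at hK
      exact ⟨L.act g, hK.1, hK.2.1, fun x hx => (L.autFun_res g hx).symm⟩
    have hmM : L.mGroup h hQU ≤ M.autGroup Q := fun m hm => (mem_autGroup_iff hQU).2
      (Components.isMap_of_sub (meetSys_sub₁ h)
        ((isMap_meetSys h).2 (lab_of_mGroup h L hQ hQs hm)))
    haveI := finite_of_le h.hTS
    haveI := finite_of_le hQ.1
    haveI := finite_mulAut (P := Q)
    set A := autInducedBy U Q with hA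
    have hAM : A ≤ L.mGroup h hQU := L.autInducedBy_le_mGroup h hQU
    have hAp : IsPGroup p A := (isPGroup_autInducedBy hS).to_le (autInducedBy_mono h.hTS)
    -- automorphisms normalizing `Aut_U(Q)`
    have hnor : ∀ b ∈ M.autGroup Q, (∀ x ∈ A, b * x * b⁻¹ ∈ A) → (orderOf b).Coprime p →
        DLift F U Q b := by
      intro b hb hbA hco
      have hUp := hS.to_le h.hTS
      obtain ⟨k, hk, hke⟩ := (isReceptive_iff.1 (IsSaturated.automized_receptive hUp h.side₁.sat
        (isFullyNormalized_of_stronglyClosed hS hF h.closed h.side₁.sub hQU hQ)).2).2 Q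
        (autFun b) ((mem_autGroup_iff hQU).1 hb) (img_autFun b)
      have hNe : normalizerIn U Q ≤ extSub U Q (autFun b) := fun x hx => by
        obtain ⟨t, ht, hte⟩ := mem_autInducedBy_iff.1 (hbA _ (conjAut_mem hx.1 hx.2))
        refine ⟨hx, t, ht, fun q hq => ?_⟩
        have h1 := hte _ (autFun_mem b hq)
        rw [autFun_mul _ _ (autFun_mem b hq), PPrime.autFun_symm hq, autFun_mul _ _ hq,
          autFun_conjAut hx.2 hq] at h1
        exact h1
      have hkm := hk.mono hNe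
      have hkQ : ∀ q ∈ Q, k q ∈ Q := fun q hq => by rw [hke q hq]; exact autFun_mem b hq
      have hQN : Q ≤ normalizerIn U Q := le_normalizerIn hQU
      have hiQ := img_eq_of_map_le hQU hkm hQN hkQ
      have hki : img (normalizerIn U Q) k = normalizerIn U Q := img_eq_of_map_le inf_le_left hkm
        le_rfl fun x hx => by
          have h1 := map_mem_normalizerIn hkm hQN hx hx.2
          rwa [hiQ] at h1
      refine dlift_of_normalizing h hM hQ hQs hQN le_rfl (fun β hβ => ?_) hco (autOf_mem hkm hki)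
        fun x hx => by rw [autFun_autOf hkm hki (hQN hx), hke x hx]
      have hlt : Nat.card U - Nat.card (normalizerIn U Q) < Nat.card U - Nat.card W :=
        lt_of_lt_of_eq (card_T_sub_lt h (R := normalizerIn U Q) hQU hQne inf_le_left (le_refl _))
          (congrArg (Nat.card U - ·) hcard)
      exact ih _ hlt
        (hQs.mono hQN inf_le_left)
        (isFullyCentralized_over hS hF h.closed hQ hQs hQN le_rfl) hβ rfl
    intro β hβ
    have toF : ∀ c ∈ M.autGroup Q, c ∈ F.autGroup Q := fun c hc =>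
      (mem_autGroup_iff hQ.1).2 (((mem_autGroup_iff hQU).1 hc).ofSubsystem h.side₁.sub)
    have hβF : β ∈ F.autGroup Q := toF β hβ
    have hconj : conjBy β A ≤ L.mGroup h hQU :=
      conjBy_le_iff.2 fun x hx => L.conj_mem_mGroup h hQ hQU hβF (hAM hx)
    obtain ⟨m, hm, hmA⟩ := exists_conj_le_of_not_dvd_relIndex hAp hAM
      (L.not_dvd_relIndex_mGroup h hQ hQU) (isPGroup_conjBy β hAp) hconj
    set b := m * β with hbd
    have hb : b ∈ M.autGroup Q := mul_mem (hmM hm) hβ
    have hbA : ∀ x ∈ A, b * x * b⁻¹ ∈ A := fun x hx => by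
      have h1 := hmA (conj_mem_conjBy (g := m) (conj_mem_conjBy (g := β) hx))
      rwa [hbd, show m * β * x * (m * β)⁻¹ = m * (β * x * β⁻¹) * m⁻¹ by group]
    obtain ⟨i, j, e, hij, hi, hj⟩ := ConstrainedNormalSub.exists_decomp (p := p) b
    have hbk : ∀ (k : ℕ), ∀ x ∈ A, b ^ k * x * (b ^ k)⁻¹ ∈ A := by
      intro k
      induction k with
      | zero => intro x hx; simpa using hx
      | succ k ihk =>
        intro x hx
        rw [show b ^ (k + 1) * x * (b ^ (k + 1))⁻¹ = b * (b ^ k * x * (b ^ k)⁻¹) * b⁻¹ by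
          rw [pow_succ' b]; group]
        exact hbA _ (ihk x hx)
    -- the `p`-part lies in `Aut_U(Q)`
    have hbi : b ^ i ∈ L.mGroup h hQU := by
      have hAMg : A ≤ M.autGroup Q := autInducedBy_le_autGroup hQU
      have hUp := hS.to_le h.hTS
      obtain ⟨-, hidx⟩ := (isFullyAutomized_iff hUp).1 (IsSaturated.automized_receptive hUp
        h.side₁.sat (isFullyNormalized_of_stronglyClosed hS hF h.closed h.side₁.sub hQU hQ)).1
      obtain ⟨c, hc, hcA⟩ := exists_conj_le_of_not_dvd_relIndex hAp hAMg hidx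
        (isPGroup_zpowers_of_pow hi) (Subgroup.zpowers_le.2 (pow_mem hb i))
      have hcm := hAM (hcA (conj_mem_conjBy (Subgroup.mem_zpowers (b ^ i))))
      have h2 := L.conj_mem_mGroup h hQ hQU
        (inv_mem (toF c hc)) hcm
      rwa [show c⁻¹ * (c * b ^ i * c⁻¹) * c⁻¹⁻¹ = b ^ i by group] at h2
    have hlift := (hmG _ hbi).mul h hQU (hnor _ (pow_mem hb j) (hbk j) hj)
    rw [← hij] at hlift
    have := (hmG _ (inv_mem hm)).mul h hQU hlift
    rwa [hbd, inv_mul_cancel_left] at this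
  -- transport to `W`
  haveI := finite_of_le h.hTS
  obtain ⟨f', hf', hf1, hf2⟩ := hf.exists_inv
  rw [hfQ] at hf' hf2
  have hif : img Q f' = W := by
      rw [← hfQ, img_img hf]
      exact (IsMap.img_congr (g := id) hf1).trans img_id
  obtain ⟨g, hg, hge⟩ := exists_base_ext hS hF hWc hf' hif
  obtain ⟨k, hk, hke⟩ := h.side₁.inv W W (autFun γ) f le_rfl hWs.le ((mem_autGroup_iff hWs.le).1 hγ)
    (fun x hx => autFun_mem γ hx) hf
  rw [hfQ] at hk
  have hki : img Q k = Q := img_eq_of_map_le hQU hk le_rfl fun q hq => by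
    obtain ⟨x, hx, rfl⟩ := hf.mem_img.1 (hfQ.ge hq)
    rw [hke x hx]
    exact hfQ.le (hf.mem_img.2 ⟨_, autFun_mem γ hx, rfl⟩)
  refine DLift.transport h hM hQU hQc hWc hg ((IsMap.img_congr hge).trans hif)
    (hMQ _ (autOf_mem hk hki)) fun q hq => ?_
  obtain ⟨x, hx, rfl⟩ := hf.mem_img.1 (hfQ.ge hq)
  rw [hge _ (autFun_mem _ hq), hge _ hq, hf1 x hx, autFun_autOf hk hki hq, hke x hx,
    hf1 _ (autFun_mem γ hx)]

end CfsgLib.Fusion.Meet
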