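import Cfsg.Agent.Lib.Fusion.System.Meet.Base
import Cfsg.Agent.Lib.Fusion.System.LocalModel
import Cfsg.Agent.Lib.Fusion.System.KNormalizer
import Cfsg.Agent.Lib.Fusion.System.RealizedNormal

/-!
# The local subgroup of a meet

In a model of `N_F(Q) ∩ N(Q C_S(Q))`, the normal subgroup generated by the good elements of order
prime to `p` and the conjugates of `N_T(Q)` meets `N_S(Q)` in `N_T(Q)`.
-/

set_option autoImplicit false
set_option maxHeartbeats 1000000
set_option linter.style.haveILetI false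
set_option linter.unusedSectionVars false

open Subgroup
open scoped Classical Pointwise

namespace CfsgLib.Fusion.Meet

open Cfsg (FusionSystem autInducedBy)
open Cfsg.FusionSystem (normalizerIn centralizerIn preimageAlong)
open CfsgLib.Fusion CfsgLib.Fusion.CentLift

universe u

variable {Ω : Type u} [Group Ω] {S T T' T₁ T₂ : Subgroup Ω} {F : FusionSystem S} {p : ℕ}
  {E : FusionSystem T'} {E₁ : FusionSystem T₁} {E₂ : FusionSystem T₂}
  {P Q R : Subgroup Ω} {f : Ω → Ω}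

theorem base_le_normalizerIn (hQ : Q ≤ S) : base S Q ≤ normalizerIn S Q :=
  sup_le (le_normalizerIn hQ) centralizerIn_le_normalizerIn

theorem normalizerIn_base_eq (hQ : Q ≤ S) :
    normalizerIn (normalizerIn S Q) (base S Q) = normalizerIn S Q :=
  inf_eq_left.2 fun _ hn => mem_normalizer_base le_rfl hn

/-- The normalizer system of `Q`. -/
noncomputable abbrev nQ (F : FusionSystem S) (Q : Subgroup Ω) (hQ : Q ≤ S) :
    FusionSystem (normalizerIn S Q) := nSystem F (normalizerIn S Q) Q le_rfl hQ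

/-- The normalizer system of `Q C_S(Q)` inside it. -/
noncomputable abbrev nR (F : FusionSystem S) (Q : Subgroup Ω) (hQ : Q ≤ S) :
    FusionSystem (normalizerIn S Q) :=
  nSystem (nQ F Q hQ) (normalizerIn S Q) (base S Q) (normalizerIn_base_eq hQ).ge
    (base_le_normalizerIn hQ)

theorem isMap_of_nQ (hQ : Q ≤ S) (h : IsMap (nQ F Q hQ) P f) : IsMap F P f :=
  (isMap_nSystem_iff.1 h).isMap

theorem isMap_of_nR (hQ : Q ≤ S) (h : IsMap (nR F Q hQ) P f) : IsMap F P f :=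
  isMap_of_nQ hQ (isMap_nSystem_iff.1 h).isMap

theorem isSaturated_nQ [Finite S] [Fact p.Prime] (hS : IsPGroup p S) (hF : F.IsSaturated p)
    (hQ : F.IsFullyNormalized Q) : (nQ F Q hQ.1).IsSaturated p := by
  have h : F.IsNormalizerSystem Q (nQ F Q hQ.1) := fun P => Set.ext fun φ => by
    rw [mem_hom_iff, isMap_nSystem_iff, ← mem_normalizerHom_iff]
  exact isSaturated_normalizerSystem hS hF hQ h

theorem exists_local_model' [Finite S] [Fact p.Prime] (hS : IsPGroup p S) (hF : F.IsSaturated p)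
    (hQ : F.IsFullyNormalized Q) (hc : F.IsCentric Q) {W : Subgroup Ω} (hW : W = normalizerIn S Q)
    {D : FusionSystem W} (hD : ∀ P f, IsMap D P f ↔ NMap F W Q P f) :
    ∃ (L : Type u) (_ : Group L) (ι : W →* L), D.IsModel p L ι ∧
      ((Q.subgroupOf W).map ι).Normal := by
  subst hW
  exact exists_local_model hS hF hQ hc fun P => Set.ext fun φ => by
    rw [mem_hom_iff, hD, ← mem_normalizerHom_iff]

/-- A model of `N_F(Q) ∩ N(Q C_S(Q))`. -/
structure LModel (F : FusionSystem S) (p : ℕ) (Q : Subgroup Ω) where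
  le : Q ≤ S
  G : Type u
  grp : Group G
  fin : Finite G
  ι : normalizerIn S Q →* G
  real : (nR F Q le).IsRealizedBy ι
  sylow : ∃ T : Sylow p G, (T : Subgroup G) = ι.range
  normal : (imgι ι (base S Q)).Normal

attribute [instance] LModel.grp LModel.fin

theorem exists_lModel [Finite S] [Fact p.Prime] (hS : IsPGroup p S) (hF : F.IsSaturated p)
    (hQ : F.IsFullyNormalized Q) : Nonempty (LModel F p Q) := by
  have hQS := hQ.1
  have hBN := base_le_normalizerIn hQS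
  haveI := finite_of_le (S := S) (P := normalizerIn S Q) inf_le_left
  have hn : (nQ F Q hQS).IsFullyNormalized (base S Q) := ⟨hBN, fun R' _ => by
    rw [normalizerIn_base_eq hQS]
    exact card_le_of_le' le_rfl inf_le_left⟩
  have hc : (nQ F Q hQS).IsCentric (base S Q) := by
    refine ⟨hBN, fun R' hR' => ?_⟩
    obtain ⟨f, hf, rfl⟩ := isConj_iff.1 hR'
    obtain ⟨-, -, g, hg, hgf, hgQ⟩ := isMap_nSystem_iff.1 hf
    have hQB : Q ≤ base S Q := le_sup_left
    have hfQ : img Q f = Q :=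
      (IsMap.img_congr fun x hx => (hgf x (hQB hx)).symm).trans hgQ
    have hfF := isMap_of_nQ hQS hf
    have hB : img (base S Q) f = base S Q := img_eq_of_map_le (base_le hQS) hfF le_rfl
      fun z hz => hfF.map_mem_of_sup
        (fun x hx => Subgroup.mem_sup_left (hfQ.le ((hfF.mono hQB).mem_img.2 ⟨x, hx, rfl⟩)))
        (fun c hc => Subgroup.mem_sup_right (hfQ ▸ map_mem_centralizerIn hfF hQB
          (Subgroup.mem_sup_right hc) hc.2)) hz
    rw [hB]
    exact fun z hz => Subgroup.mem_sup_right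
      ⟨hz.1.1, Subgroup.centralizer_le hQB hz.2⟩
  obtain ⟨L, hL, ι, ⟨hfin, hreal, hsyl, -⟩, hnorm⟩ := exists_local_model' (S := normalizerIn S Q)
    (hS.to_le (inf_le_left : normalizerIn S Q ≤ S)) (isSaturated_nQ hS hF hQ) hn hc (normalizerIn_base_eq hQS).symm
    (D := nR F Q hQS) fun _ _ => isMap_nSystem_iff
  exact ⟨⟨hQS, L, hL, hfin, ι, hreal, hsyl, hnorm⟩⟩

namespace LModel

variable (M : LModel F p Q)

/-- The embedding, on elements of `Ω`. -/
noncomputable abbrev e : Ω → M.G := ext1 M.ι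

theorem mul {x y : Ω} (hx : x ∈ normalizerIn S Q) (hy : y ∈ normalizerIn S Q) :
    M.e (x * y) = M.e x * M.e y := ext1_mul M.ι hx hy

theorem e_inv {x : Ω} (hx : x ∈ normalizerIn S Q) : M.e x⁻¹ = (M.e x)⁻¹ := ext1_inv M.ι hx

theorem inj {x y : Ω} (hx : x ∈ normalizerIn S Q) (hy : y ∈ normalizerIn S Q)
    (h : M.e x = M.e y) : x = y := ext1_inj M.real.1 hx hy h

theorem base_le_nQ (M : LModel F p Q) : base S Q ≤ normalizerIn S Q := base_le_normalizerIn M.le

theorem exists_act (g : M.G) : ∃ a ∈ stabR F Q,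
    ∀ x ∈ base S Q, M.e (autFun a x) = g * M.e x * g⁻¹ := by
  have hB := M.base_le_nQ
  obtain ⟨f, hf, hfe⟩ := exists_map_of_conj M.real hB (g := g) fun x hx =>
    imgι_le_range _ (M.normal.conj_mem _ (ext1_mem_imgι hB hx) g)
  obtain ⟨-, -, k, hk, hkf, hkR⟩ := isMap_nSystem_iff.1 hf
  have hkB : IsMap (nQ F Q M.le) (base S Q) f :=
    (hk.mono le_sup_left).congr fun x hx => (hkf x hx).symm
  obtain ⟨-, -, l, hl, hlf, hlQ⟩ := isMap_nSystem_iff.1 hkB
  have hfF := isMap_of_nQ M.le hkB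
  have hfR : img (base S Q) f = base S Q :=
    (IsMap.img_congr fun x hx => (hkf x hx).symm).trans hkR
  have hQB : Q ≤ base S Q := le_sup_left
  have hfQ : img Q f = Q := (IsMap.img_congr fun x hx => (hlf x (hQB hx)).symm).trans hlQ
  refine ⟨autOf hfF hfR, ⟨autOf_mem hfF hfR, fun x hx => ?_⟩, fun x hx => ?_⟩
  · rw [autFun_autOf hfF hfR hx]
    constructor
    · exact fun hxQ => hfQ.le ((hfF.mono hQB).mem_img.2 ⟨x, hxQ, rfl⟩)
    · intro hfx
      obtain ⟨y, hy, hyx⟩ := (hfF.mono hQB).mem_img.1 (hfQ.ge hfx)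
      rwa [hfF.inj hx (hQB hy) hyx.symm]
  · rw [autFun_autOf hfF hfR hx, ← hfe x hx]

/-- The action of the model on `Q C_S(Q)`. -/
noncomputable def act (g : M.G) : MulAut (base S Q) := (M.exists_act g).choose

theorem act_stab (g : M.G) : M.act g ∈ stabR F Q := (M.exists_act g).choose_spec.1

theorem e_act (g : M.G) {x : Ω} (hx : x ∈ base S Q) :
    M.e (autFun (M.act g) x) = g * M.e x * g⁻¹ := (M.exists_act g).choose_spec.2 x hx

theorem act_eq {g : M.G} {a : MulAut (base S Q)}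
    (h : ∀ x ∈ base S Q, M.e (autFun a x) = g * M.e x * g⁻¹) : M.act g = a :=
  autFun_ext fun x hx => M.inj (M.base_le_nQ (autFun_mem _ hx)) (M.base_le_nQ (autFun_mem _ hx))
    ((M.e_act g hx).trans (h x hx).symm)

theorem act_mul (g g' : M.G) : M.act (g * g') = M.act g * M.act g' :=
  M.act_eq fun x hx => by
    rw [autFun_mul _ _ hx, M.e_act g (autFun_mem _ hx), M.e_act g' hx]; group

/-- The action as a homomorphism. -/
noncomputable def actHom : M.G →* MulAut (base S Q) := MonoidHom.mk' M.act M.act_mul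

theorem act_one : M.act 1 = 1 := M.actHom.map_one
theorem act_inv (g : M.G) : M.act g⁻¹ = (M.act g)⁻¹ := M.actHom.map_inv g
theorem act_pow (g : M.G) (n : ℕ) : M.act (g ^ n) = M.act g ^ n := M.actHom.map_pow g n

theorem act_e {n : Ω} (hn : n ∈ normalizerIn S Q) :
    M.act (M.e n) = conjAut n (mem_normalizer_base le_rfl hn) := M.act_eq fun x hx => by
  rw [autFun_conjAut _ hx]
  exact ext1_conj M.ι hn (M.base_le_nQ hx)

theorem exists_act_eq {a : MulAut (base S Q)} (ha : a ∈ stabR F Q) : ∃ g, M.act g = a := by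
  have hQB : Q ≤ base S Q := le_sup_left
  have hBS := base_le (S := S) M.le
  have hm := (mem_autGroup_iff hBS).1 ha.1
  have hiQ : img Q (autFun a) = Q := by
    refine le_antisymm ((hm.mono hQB).img_le_of_forall fun x hx => stab_mem ha hx) fun y hy => ?_
    exact (hm.mono hQB).mem_img.2 ⟨_, stab_mem (inv_mem ha) hy, PPrime.autFun_symm' (hQB hy)⟩
  have hB := M.base_le_nQ
  have h1 : IsMap (nQ F Q M.le) (base S Q) (autFun a) := isMap_nSystem_iff.2
    ⟨hB, fun x hx => hB (autFun_mem a hx), autFun a, hm.mono (sup_le le_rfl hQB),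
      fun _ _ => rfl, hiQ⟩
  have h2 : IsMap (nR F Q M.le) (base S Q) (autFun a) := isMap_nSystem_iff.2
    ⟨hB, fun x hx => hB (autFun_mem a hx), autFun a, h1.mono (sup_le le_rfl le_rfl),
      fun _ _ => rfl, img_autFun a⟩
  obtain ⟨-, -, -, g, hg⟩ := (isMap_realized_iff M.real).1 h2
  exact ⟨g, M.act_eq hg⟩

theorem conj_map {g : M.G} (hP : P ≤ normalizerIn S Q)
    (hg : ∀ x ∈ P, g * M.e x * g⁻¹ ∈ M.ι.range) :
    ∃ f, IsMap F P f ∧ (∀ x ∈ P, f x ∈ normalizerIn S Q) ∧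
      ∀ x ∈ P, M.e (f x) = g * M.e x * g⁻¹ := by
  obtain ⟨f, hf, hfe⟩ := exists_map_of_conj M.real hP hg
  exact ⟨f, isMap_of_nR M.le hf, fun x hx => hf.mem_S hx, hfe⟩

theorem closed (hT : F.StronglyClosed T) {g : M.G} {x y : Ω} (hx : x ∈ normalizerIn T Q)
    (hy : y ∈ normalizerIn S Q) (he : g * M.e x * g⁻¹ = M.e y) : y ∈ normalizerIn T Q := by
  have hxN : x ∈ normalizerIn S Q := ⟨hT.1 hx.1, hx.2⟩
  have hP : Subgroup.zpowers x ≤ normalizerIn S Q := Subgroup.zpowers_le.2 hxN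
  have hg : ∀ z ∈ Subgroup.zpowers x, g * M.e z * g⁻¹ ∈ M.ι.range := fun z hz => by
    obtain ⟨n, rfl⟩ := Subgroup.mem_zpowers_iff.1 hz
    have h1 : M.e (x ^ n) = M.e x ^ n := by
      show ext1 M.ι (x ^ n) = ext1 M.ι x ^ n
      rw [ext1_apply M.ι hxN, ext1_apply M.ι ((normalizerIn S Q).zpow_mem hxN n), ← map_zpow]
      rfl
    rw [h1, show g * M.e x ^ n * g⁻¹ = (g * M.e x * g⁻¹) ^ n from (conj_zpow).symm, he]
    exact zpow_mem (ext1_mem_range _ y) n
  obtain ⟨f, hf, hfN, hfe⟩ := M.conj_map hP hg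
  have hfx : f x = y := M.inj (hfN x (Subgroup.mem_zpowers x)) hy
    ((hfe x (Subgroup.mem_zpowers x)).trans he)
  exact ⟨hfx ▸ cl_mem hT hf (Subgroup.mem_zpowers x) hx.1, hy.2⟩

/-- The action on `Q`. -/
noncomputable def res : M.G →* MulAut Q :=
  (restrictHom (stabR F Q) Q le_sup_left fun _ ha _ hx => stab_mem ha hx).comp
    (M.actHom.codRestrict (stabR F Q) M.act_stab)

theorem autFun_res (g : M.G) {x : Ω} (hx : x ∈ Q) :
    autFun (M.res g) x = autFun (M.act g) x :=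
  autFun_restrictHom (hJR := le_sup_left) (h := fun _ ha _ hx => stab_mem ha hx) _ hx

theorem e_res (g : M.G) {x : Ω} (hx : x ∈ Q) : M.e (autFun (M.res g) x) = g * M.e x * g⁻¹ := by
  rw [M.autFun_res g hx, M.e_act g (Subgroup.mem_sup_left hx)]

theorem res_mem (g : M.G) : M.res g ∈ F.autGroup Q :=
  (mem_autGroup_iff M.le).2 ((((mem_autGroup_iff (base_le M.le)).1 (M.act_stab g).1).mono
    le_sup_left).congr fun _ hx => M.autFun_res g hx)

theorem exists_res_eq [Finite S] [Fact p.Prime] (hS : IsPGroup p S) (hF : F.IsSaturated p)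
    (hQ : F.IsFullyNormalized Q) {a : MulAut Q} (ha : a ∈ F.autGroup Q) : ∃ g, M.res g = a := by
  have hQS := hQ.1
  obtain ⟨k, hk, hke⟩ := exists_base_ext hS hF (IsSaturated.isFullyCentralized hS hF hQ)
    ((mem_autGroup_iff hQS).1 ha) (img_autFun a)
  have hQB : Q ≤ base S Q := le_sup_left
  have hi := img_base (IsSaturated.isFullyCentralized hS hF hQ)
    (IsSaturated.isFullyCentralized hS hF hQ) hk ((IsMap.img_congr hke).trans (img_autFun a))
  have hst : autOf hk hi ∈ stabR F Q := by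
    refine ⟨autOf_mem hk hi, fun x hx => ?_⟩
    rw [autFun_autOf hk hi hx]
    constructor
    · exact fun hxQ => (hke x hxQ) ▸ autFun_mem a hxQ
    · intro h
      have h1 := autFun_mem a⁻¹ h
      rwa [hk.inj hx (hQB h1) (by rw [hke _ h1, PPrime.autFun_symm' h])]
  obtain ⟨g, hg⟩ := M.exists_act_eq hst
  exact ⟨g, autFun_ext fun x hx => by rw [M.autFun_res g hx, hg, autFun_autOf hk hi (hQB hx),
    hke x hx]⟩

variable [Finite S] [Fact p.Prime] (h : Setup F p E₁ E₂ T) (hQ : F.IsFullyNormalized Q) (hQT : Q ≤ T)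

/-- The good elements. -/
def kSub : Subgroup M.G where
  carrier := {g | Good F E₁ E₂ T Q (M.act g)}
  one_mem' := by rw [Set.mem_setOf_eq, M.act_one]; exact Good.one h hQT
  mul_mem' := fun {a b} ha hb => by
    rw [Set.mem_setOf_eq, M.act_mul]; exact Good.mul h hQT ha hb
  inv_mem' := fun {a} ha => by rw [Set.mem_setOf_eq, M.act_inv]; exact Good.inv h hQT ha

theorem mem_kSub {g : M.G} : g ∈ M.kSub h hQT ↔ Good F E₁ E₂ T Q (M.act g) := Iff.rfl

include hQ in
theorem kSub_normal : (M.kSub h hQT).Normal := by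
  refine ⟨fun k hk g => ?_⟩
  have hQc := IsSaturated.isFullyCentralized h.pgroup h.sat hQ
  have hQB : Q ≤ base S Q := le_sup_left
  have hm := (mem_autGroup_iff (base_le M.le)).1 (M.act_stab g).1
  have hi : img Q (autFun (M.act g)) = Q := img_eq_of_map_le M.le hm hQB
    fun x hx => stab_mem (M.act_stab g) hx
  obtain ⟨a', ha', he, -⟩ := Good.transport h hQT hQc hQc hm hi hk
  rw [mem_kSub, show M.act (g * k * g⁻¹) = a' from autFun_ext fun y hy => ?_]
  · exact ha'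
  · have h1 := he _ (autFun_mem (M.act g)⁻¹ hy)
    rw [PPrime.autFun_symm' hy] at h1
    rw [h1, M.act_mul, M.act_mul, M.act_inv, autFun_mul _ _ hy,
      autFun_mul _ _ (autFun_mem _ hy)]

/-- The generators of the local subgroup. -/
def hGens : Set M.G :=
  {g | g ∈ M.kSub h hQT ∧ (orderOf g).Coprime p} ∪
    {x | ∃ g, ∃ t ∈ normalizerIn T Q, x = g * M.e t * g⁻¹}

/-- The local subgroup. -/
def hSub : Subgroup M.G := Subgroup.closure (M.hGens h hQT)

theorem mem_hSub_of_T {t : Ω} (ht : t ∈ normalizerIn T Q) : M.e t ∈ M.hSub h hQT :=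
  Subgroup.subset_closure (Or.inr ⟨1, t, ht, by group⟩)

include hQ in
theorem hSub_normal : (M.hSub h hQT).Normal := by
  haveI := M.kSub_normal h hQ hQT
  refine ⟨fun x hx g => ?_⟩
  induction hx using Subgroup.closure_induction with
  | mem x hx =>
    refine Subgroup.subset_closure ?_
    rcases hx with ⟨hk, hco⟩ | ⟨k, t, ht, rfl⟩
    · refine Or.inl ⟨Subgroup.Normal.conj_mem inferInstance x hk g, ?_⟩
      rwa [show g * x * g⁻¹ = MulAut.conj g x from rfl, MulEquiv.orderOf_eq]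
    · exact Or.inr ⟨g * k, t, ht, by group⟩
  | one => simp
  | mul a b _ _ ha hb => rw [show g * (a * b) * g⁻¹ = g * a * g⁻¹ * (g * b * g⁻¹) by group]
                         exact mul_mem ha hb
  | inv a _ ha => rw [show g * a⁻¹ * g⁻¹ = (g * a * g⁻¹)⁻¹ by group]; exact inv_mem ha

theorem good_e {t : Ω} (ht : t ∈ normalizerIn T Q) : M.e t ∈ M.kSub h hQT := by
  rw [mem_kSub, M.act_e ⟨h.hTS ht.1, ht.2⟩]
  exact Good.of_conj h hQT ht

include hQ in
theorem hSub_le : M.hSub h hQT ≤ M.kSub h hQT := by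
  haveI := M.kSub_normal h hQ hQT
  refine (Subgroup.closure_le _).2 ?_
  rintro x (hx | ⟨g, t, ht, rfl⟩)
  · exact hx.1
  · exact Subgroup.Normal.conj_mem inferInstance _ (M.good_e h hQT ht) g

end LModel

theorem Setup.diag (h : Setup F p E₁ E₂ T) :
    Setup F p E₁ E₁ T₁ ∧ Setup F p E₂ E₂ T₂ :=
  ⟨⟨h.pgroup, h.sat, h.side₁, h.side₁, inf_idem _⟩,
    ⟨h.pgroup, h.sat, h.side₂, h.side₂, inf_idem _⟩⟩

namespace LModel

variable [Finite S] [Fact p.Prime] (M : LModel F p Q)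

/-- The local subgroup of one side meets `N_S(Q)` in `N_{T'}(Q)`. -/
theorem mem_of_mem_hSub_diag (h : Setup F p E E T') (hQ : F.IsFullyNormalized Q) (hQT : Q ≤ T')
    {x : Ω} (hx : x ∈ normalizerIn S Q) (hxH : M.e x ∈ M.hSub h hQT) :
    x ∈ normalizerIn T' Q := by
  haveI := M.hSub_normal h hQ hQT
  haveI := finite_of_le h.hTS
  haveI := finite_of_le M.le
  haveI := finite_mulAut (P := Q)
  obtain ⟨Y, hY⟩ := M.sylow
  set H := M.hSub h hQT with hH
  set V := normalizerIn T' Q with hV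
  have hVN : V ≤ normalizerIn S Q := inf_le_inf_right _ h.hTS
  have hTn : ∀ {n : Ω}, n ∈ normalizerIn S Q → ∀ t ∈ V, n * t * n⁻¹ ∈ V := fun {n} hn t ht =>
    ⟨(Subgroup.mem_normalizer_iff.1 (h.normal hn.1) t).1 ht.1,
      Subgroup.mul_mem _ (Subgroup.mul_mem _ hn.2 ht.2) (Subgroup.inv_mem _ hn.2)⟩
  -- elements of `H` in the Sylow subgroup
  have hdec : ∀ u ∈ normalizerIn S Q, M.e u ∈ H →
      ∃ t ∈ V, t⁻¹ * u ∈ centralizerIn S Q ∧ M.e (t⁻¹ * u) ∈ H := by
    intro u hu huH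
    have hK := M.hSub_le h hQ hQT huH
    rw [M.mem_kSub] at hK
    have hEaut : conjAut u hu.2 ∈ autInducedBy S Q ⊓ E.autGroup Q := by
      refine ⟨conjAut_mem hu.1 hu.2, (mem_autGroup_iff hQT).2
        ((hK.2.2.1.mono le_sup_left).congr fun y hy => ?_)⟩
      rw [autFun_conjAut hu.2 hy, M.act_e hu, autFun_conjAut _ (Subgroup.mem_sup_left hy)]
    have hTp := h.pgroup.to_le h.hTS
    have hi := ((isFullyAutomized_iff hTp).1 (IsSaturated.automized_receptive hTp h.side₁.sat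
      (isFullyNormalized_of_stronglyClosed h.pgroup h.sat h.closed h.side₁.sub hQT hQ)).1).2
    have heq := eq_of_le_of_isPGroup_of_not_dvd_relIndex
      ((isPGroup_autInducedBy h.pgroup).to_le inf_le_left)
      (le_inf (autInducedBy_mono h.hTS) (autInducedBy_le_autGroup hQT)) inf_le_right hi
    rw [heq] at hEaut
    obtain ⟨t, ht, hte⟩ := mem_autInducedBy_iff.1 hEaut
    have htV : t ∈ V := ⟨ht, mem_normalizer_of_autFun hte⟩
    refine ⟨t, htV, ⟨S.mul_mem (S.inv_mem (h.hTS ht)) hu.1,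
      Subgroup.mem_centralizer_iff.2 fun y hy => ?_⟩, ?_⟩
    · have h1 := hte y hy
      rw [autFun_conjAut hu.2 hy] at h1
      calc y * (t⁻¹ * u) = t⁻¹ * (t * y * t⁻¹) * u := by group
        _ = t⁻¹ * u * y := by rw [← h1]; group
    · rw [M.mul (inv_mem (hVN htV)) hu, M.e_inv (hVN htV)]
      exact mul_mem (inv_mem (M.mem_hSub_of_T h hQT htV)) huH
  have hdisp : ∀ g ∈ H, ∀ c ∈ base S Q, autFun (M.act g) c * c⁻¹ ∈ V := by
    intro g hg c hc
    have hK := (M.hSub_le h hQ hQT hg).2.1 c hc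
    have hcN := M.base_le_nQ hc
    have h1 := hTn hcN _ (show c⁻¹ * autFun (M.act g) c ∈ V from
      ⟨hK, (mul_mem (inv_mem hcN) (M.base_le_nQ (autFun_mem _ hc)) :
        c⁻¹ * autFun (M.act g) c ∈ normalizerIn S Q).2⟩)
    rwa [show c * (c⁻¹ * autFun (M.act g) c) * c⁻¹ = autFun (M.act g) c * c⁻¹ by group] at h1
  set P₀ := M.ι.range ⊓ H with hP₀
  have hP₀p : IsPGroup p P₀ := (Y.2.to_le (inf_le_left (b := H))).to_le (by rw [hY])
  have hi₀ : ¬ p ∣ P₀.relIndex H := by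
    rw [hP₀, ← hY]; exact not_dvd_relIndex_inf_of_normal Y H
  have hVH : imgι M.ι V ≤ P₀ := fun z hz => by
    obtain ⟨t, ht, rfl⟩ := (mem_imgι hVN).1 hz
    exact ⟨ext1_mem_range _ t, M.mem_hSub_of_T h hQT ht⟩
  have hback : ∀ z ∈ M.ι.range, ∃ u ∈ normalizerIn S Q, M.e u = z := by
    rintro z ⟨u, rfl⟩
    exact ⟨u, u.2, ext1_coe M.ι u⟩
  have hcl : ∀ g : M.G, ∀ t ∈ V, g * M.e t * g⁻¹ ∈ M.ι.range →
      g * M.e t * g⁻¹ ∈ imgι M.ι V := fun g t ht hr => by
    obtain ⟨y, hy, hye⟩ := hback _ hr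
    rw [← hye]
    exact ext1_mem_imgι hVN (M.closed h.closed ht hy hye.symm)
  have key : P₀.subgroupOf H = (imgι M.ι V).subgroupOf H := by
    refine ConstrainedNormalSub.eq_of_transfer (p := p)
      (hP₀p.of_equiv (Subgroup.subgroupOfEquivOfLe inf_le_right).symm) hi₀ (fun x hx => hVH hx)
      (fun g z hz hgz => ?_) ?_ (fun a ha b hb => ?_) fun u hu => ?_
    · obtain ⟨t, ht, hte⟩ := (mem_imgι hVN).1 (show (z : M.G) ∈ imgι M.ι V from hz)
      show (g : M.G) * z * (g : M.G)⁻¹ ∈ imgι M.ι V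
      rw [← hte]
      refine hcl _ t ht ?_
      have h1 : (g : M.G) * z * (g : M.G)⁻¹ ∈ P₀ := hgz
      rw [← hte] at h1
      exact h1.1
    · refine Subgroup.map_injective H.subtype_injective ?_
      rw [MonoidHom.map_closure, ← MonoidHom.range_eq_map, Subgroup.range_subtype]
      conv_rhs => rw [hH, LModel.hSub]
      refine le_antisymm ((Subgroup.closure_le _).2 ?_) ((Subgroup.closure_le _).2 ?_)
      · rintro _ ⟨z, -, rfl⟩
        exact z.2
      · rintro z (hz | ⟨g, t, ht, rfl⟩)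
        · refine Subgroup.subset_closure ⟨⟨z, Subgroup.subset_closure (Or.inl hz)⟩, Or.inl ?_, rfl⟩
          show (orderOf (⟨z, _⟩ : H)).Coprime p
          rw [← Subgroup.orderOf_coe]
          exact hz.2
        · have hzH : g * M.e t * g⁻¹ ∈ H := Subgroup.subset_closure (Or.inr ⟨g, t, ht, rfl⟩)
          have hzp : IsPGroup p (Subgroup.zpowers (g * M.e t * g⁻¹)) := by
            obtain ⟨k, hk⟩ := hP₀p ⟨M.e t, hVH (ext1_mem_imgι hVN ht)⟩
            refine isPGroup_zpowers_of_pow (k := k) ?_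
            rw [conj_pow, show M.e t ^ p ^ k = 1 from congrArg Subtype.val hk, mul_one, mul_inv_cancel]
          obtain ⟨l, hl, hlz⟩ := exists_conj_le_of_not_dvd_relIndex hP₀p inf_le_right hi₀ hzp
            (Subgroup.zpowers_le.2 hzH)
          have h1 : (l * g) * M.e t * (l * g)⁻¹ ∈ M.ι.range := by
            have := (hlz (conj_mem_conjBy (Subgroup.mem_zpowers _))).1
            rwa [show l * (g * M.e t * g⁻¹) * l⁻¹ = (l * g) * M.e t * (l * g)⁻¹ by group] at this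
          have h2 := hcl _ t ht h1
          refine Subgroup.subset_closure ⟨⟨_, hzH⟩, Or.inr ⟨⟨l, hl⟩⁻¹,
            ⟨_, (hVH h2).2⟩, h2, Subtype.ext ?_⟩, rfl⟩
          show g * M.e t * g⁻¹ = l⁻¹ * ((l * g) * M.e t * (l * g)⁻¹) * l⁻¹⁻¹
          group
    · obtain ⟨u, hu, hue⟩ := hback _ (show (a : M.G) ∈ P₀ from ha).1
      obtain ⟨w, hw, hwe⟩ := hback _ (show (b : M.G) ∈ P₀ from hb).1
      obtain ⟨t, ht, hc, -⟩ := hdec u hu (hue.symm ▸ a.2)
      have hd := hdisp _ b.2 _ (inv_mem (Subgroup.mem_sup_right hc : t⁻¹ * u ∈ base S Q))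
      rw [← hwe, M.act_e hw, autFun_conjAut _ (inv_mem (Subgroup.mem_sup_right hc))] at hd
      have hm : u * w * u⁻¹ * w⁻¹ ∈ V := by
        rw [show u * w * u⁻¹ * w⁻¹ =
          t * (w * (t⁻¹ * u)⁻¹ * w⁻¹ * (t⁻¹ * u)⁻¹⁻¹) ^ (1 : ℕ) * 1 * 1 *
            1 * (1 : Ω) * (((w * (t⁻¹ * u)⁻¹ * w⁻¹ * (t⁻¹ * u)⁻¹⁻¹))⁻¹ *
              ((t⁻¹ * u) * w * (t⁻¹ * u)⁻¹ * w⁻¹) * (w * t⁻¹ * w⁻¹)) by group]
        refine mul_mem (by simpa using mul_mem ht hd) (mul_mem (mul_mem (inv_mem hd) ?_)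
          (hTn hw _ (inv_mem ht)))
        have h4 := hTn (mul_mem (inv_mem (hVN ht)) hu) _ hd
        convert h4 using 1
        group
      show (a : M.G) * b * (a : M.G)⁻¹ * (b : M.G)⁻¹ ∈ imgι M.ι V
      rw [← hue, ← hwe, ← M.mul hu hw, ← M.e_inv hu, ← M.mul (mul_mem hu hw) (inv_mem hu),
        ← M.e_inv hw, ← M.mul (mul_mem (mul_mem hu hw) (inv_mem hu)) (inv_mem hw)]
      exact ext1_mem_imgι hVN hm
    · obtain ⟨v, hv, hve⟩ := hback _ (show (u : M.G) ∈ P₀ from hu).1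
      obtain ⟨t, ht, hc, -⟩ := hdec v hv (hve.symm ▸ u.2)
      refine ⟨⟨M.e t, M.mem_hSub_of_T h hQT ht⟩, ext1_mem_imgι hVN ht, fun g => ?_⟩
      have hcB : t⁻¹ * v ∈ base S Q := Subgroup.mem_sup_right hc
      show (g : M.G) * ((M.e t)⁻¹ * (u : M.G)) * (g : M.G)⁻¹ * ((M.e t)⁻¹ * (u : M.G))⁻¹ ∈ imgι M.ι V
      rw [← hve, ← M.e_inv (hVN ht), ← M.mul (inv_mem (hVN ht)) hv, ← M.e_act (g : M.G) hcB,
        ← M.e_inv (M.base_le_nQ hcB), ← M.mul (M.base_le_nQ (autFun_mem _ hcB))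
          (inv_mem (M.base_le_nQ hcB))]
      exact ext1_mem_imgι hVN (hdisp _ g.2 _ hcB)
  exact mem_of_ext1_mem_imgι M.real.1 hVN hx
    (key.le (show (⟨M.e x, hxH⟩ : H) ∈ P₀.subgroupOf H from ⟨ext1_mem_range _ x, hxH⟩))

/-- The local subgroup meets `N_S(Q)` in `N_T(Q)`. -/
theorem mem_of_mem_hSub (h : Setup F p E₁ E₂ T) (hQ : F.IsFullyNormalized Q) (hQT : Q ≤ T)
    {x : Ω} (hx : x ∈ normalizerIn S Q) (hxH : M.e x ∈ M.hSub h hQT) : x ∈ normalizerIn T Q := by
  obtain ⟨h1, h2⟩ := h.diag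
  have hle₁ : M.hSub h hQT ≤ M.hSub h1 (hQT.trans h.le₁) := Subgroup.closure_mono (by
    rintro g (⟨hk, hco⟩ | ⟨k, t, ht, rfl⟩)
    · exact Or.inl ⟨⟨hk.1, fun y hy => h.le₁ (hk.2.1 y hy), hk.2.2.1, hk.2.2.1⟩, hco⟩
    · exact Or.inr ⟨k, t, ⟨h.le₁ ht.1, ht.2⟩, rfl⟩)
  have hle₂ : M.hSub h hQT ≤ M.hSub h2 (hQT.trans h.le₂) := Subgroup.closure_mono (by
    rintro g (⟨hk, hco⟩ | ⟨k, t, ht, rfl⟩)
    · exact Or.inl ⟨⟨hk.1, fun y hy => h.le₂ (hk.2.1 y hy), hk.2.2.2, hk.2.2.2⟩, hco⟩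
    · exact Or.inr ⟨k, t, ⟨h.le₂ ht.1, ht.2⟩, rfl⟩)
  have a := M.mem_of_mem_hSub_diag h1 hQ _ hx (hle₁ hxH)
  have b := M.mem_of_mem_hSub_diag h2 hQ _ hx (hle₂ hxH)
  exact ⟨h.inf ▸ ⟨a.1, b.1⟩, hx.2⟩

theorem not_dvd_relIndex_hSub (h : Setup F p E₁ E₂ T) (hQ : F.IsFullyNormalized Q) (hQT : Q ≤ T) :
    ¬ p ∣ (imgι M.ι (normalizerIn T Q)).relIndex (M.hSub h hQT) := by
  haveI := M.hSub_normal h hQ hQT
  obtain ⟨Y, hY⟩ := M.sylow
  have hVN : normalizerIn T Q ≤ normalizerIn S Q := inf_le_inf_right _ h.hTS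
  have heq : (Y : Subgroup M.G) ⊓ M.hSub h hQT = imgι M.ι (normalizerIn T Q) := by
    refine le_antisymm (fun z hz => ?_) fun z hz => ?_
    · obtain ⟨⟨u, hu⟩, hue⟩ := hY.le hz.1
      have he : M.e u = z := (ext1_apply M.ι hu).trans hue
      rw [← he]
      exact ext1_mem_imgι hVN (M.mem_of_mem_hSub h hQ hQT hu (by rw [he]; exact hz.2))
    · obtain ⟨t, ht, rfl⟩ := (mem_imgι hVN).1 hz
      exact ⟨hY.ge (ext1_mem_range _ t), M.mem_hSub_of_T h hQT ht⟩
  rw [← heq]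
  exact not_dvd_relIndex_inf_of_normal Y _

/-- The automorphisms of `Q` induced by the local subgroup. -/
noncomputable def mGroup (h : Setup F p E₁ E₂ T) (hQT : Q ≤ T) : Subgroup (MulAut Q) :=
  (M.hSub h hQT).map M.res

theorem mGroup_le (h : Setup F p E₁ E₂ T) (hQT : Q ≤ T) : M.mGroup h hQT ≤ F.autGroup Q := by
  rintro _ ⟨g, -, rfl⟩
  exact M.res_mem g

theorem autInducedBy_le_mGroup (h : Setup F p E₁ E₂ T) (hQT : Q ≤ T) :
    autInducedBy T Q ≤ M.mGroup h hQT := by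
  intro a ha
  obtain ⟨t, ht, hte⟩ := mem_autInducedBy_iff.1 ha
  have htV : t ∈ normalizerIn T Q := ⟨ht, mem_normalizer_of_autFun hte⟩
  refine ⟨M.e t, M.mem_hSub_of_T h hQT htV, autFun_ext fun x hx => ?_⟩
  rw [M.autFun_res _ hx, M.act_e ⟨h.hTS ht, htV.2⟩, autFun_conjAut _ (Subgroup.mem_sup_left hx),
    hte x hx]

theorem conj_mem_mGroup (h : Setup F p E₁ E₂ T) (hQ : F.IsFullyNormalized Q) (hQT : Q ≤ T)
    {a b : MulAut Q} (ha : a ∈ F.autGroup Q) (hb : b ∈ M.mGroup h hQT) :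
    a * b * a⁻¹ ∈ M.mGroup h hQT := by
  haveI := M.hSub_normal h hQ hQT
  obtain ⟨g, rfl⟩ := M.exists_res_eq h.pgroup h.sat hQ ha
  obtain ⟨k, hk, rfl⟩ := hb
  exact ⟨g * k * g⁻¹, Subgroup.Normal.conj_mem inferInstance k hk g, by simp⟩

theorem not_dvd_relIndex_mGroup (h : Setup F p E₁ E₂ T) (hQ : F.IsFullyNormalized Q)
    (hQT : Q ≤ T) : ¬ p ∣ (autInducedBy T Q).relIndex (M.mGroup h hQT) := by
  have hVN : normalizerIn T Q ≤ normalizerIn S Q := inf_le_inf_right _ h.hTS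
  have hle : (imgι M.ι (normalizerIn T Q)).map M.res ≤ autInducedBy T Q := by
    rintro _ ⟨z, hz, rfl⟩
    obtain ⟨t, ht, rfl⟩ := (mem_imgι hVN).1 hz
    refine mem_autInducedBy_iff.2 ⟨t, ht.1, fun x hx => ?_⟩
    rw [M.autFun_res _ hx, M.act_e ⟨h.hTS ht.1, ht.2⟩, autFun_conjAut _ (Subgroup.mem_sup_left hx)]
  intro hd
  have h1 := Subgroup.relIndex_dvd_of_le_left (M.mGroup h hQT) hle
  refine M.not_dvd_relIndex_hSub h hQ hQT ((hd.trans h1).trans ?_)
  show ((imgι M.ι (normalizerIn T Q)).map M.res).relIndex ((M.hSub h hQT).map M.res) ∣ _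
  rw [← Subgroup.relIndex_comap]
  exact Subgroup.relIndex_dvd_of_le_left _ (Subgroup.le_comap_map _ _)

/-- The conjugations in the local automorphism group come from `T`. -/
theorem exists_mem_of_conj_mem (h : Setup F p E₁ E₂ T) (hQ : F.IsFullyNormalized Q) (hQT : Q ≤ T)
    {a : MulAut Q} (haS : a ∈ autInducedBy S Q) (ha : a ∈ M.mGroup h hQT) :
    a ∈ autInducedBy T Q := by
  haveI := finite_of_le M.le
  haveI := finite_mulAut (P := Q)
  have heq := eq_of_le_of_isPGroup_of_not_dvd_relIndex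
    ((isPGroup_autInducedBy h.pgroup).to_le (inf_le_left (b := M.mGroup h hQT)))
    (le_inf (autInducedBy_mono h.hTS) (M.autInducedBy_le_mGroup h hQT)) inf_le_right
    (M.not_dvd_relIndex_mGroup h hQ hQT)
  rw [← heq]
  exact ⟨haS, ha⟩

end LModel

end CfsgLib.Fusion.Meet
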