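import Cfsg.Agent.Lib.Fusion.System.Meet.Local

/-!
# Subgroups of `N_T(Q)` containing `Q`

For `Q` fully normalized and self-centralizing in `T`, every `X` with `Q ≤ X ≤ N_T(Q)` is fully
centralized, and its automorphisms fixing `Q` are conjugations by `C_S(Q)`.
-/

set_option autoImplicit false
set_option maxHeartbeats 1000000
set_option linter.style.haveILetI false
set_option linter.unusedSectionVars false

open Subgroup
open scoped Classical Pointwise

namespace CfsgLib.Fusion.Meet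

open Cfsg (FusionSystem autInducedBy)
open Cfsg.FusionSystem (normalizerIn centralizerIn)
open CfsgLib.Fusion CfsgLib.Fusion.CentLift

universe u

variable {Ω : Type u} [Group Ω] {S T : Subgroup Ω} {F : FusionSystem S} {p : ℕ}
  {Q X : Subgroup Ω} {f g : Ω → Ω} [Finite S] [Fact p.Prime]

/-- A map fixing `Q` pointwise moves elements normalizing `Q` by centralizing elements. -/
theorem disp_mem_cent (hf : IsMap F X f) (hQX : Q ≤ X)
    (hfix : ∀ q ∈ Q, f q = q) {x : Ω} (hx : x ∈ X) (hn : x ∈ Subgroup.normalizer (Q : Set Ω)) :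
    x⁻¹ * f x ∈ Subgroup.centralizer (Q : Set Ω) := by
  refine Subgroup.mem_centralizer_iff.2 fun q hq => ?_
  have h1 := hfix _ ((Subgroup.mem_normalizer_iff.1 hn q).1 hq)
  rw [hf.map_conj hx (hQX hq), hfix q hq] at h1
  calc q * (x⁻¹ * f x) = x⁻¹ * (x * q * x⁻¹) * f x := by group
    _ = x⁻¹ * f x * q := by rw [← h1]; group

variable (hS : IsPGroup p S) (hF : F.IsSaturated p) (hT : F.StronglyClosed T)
  (hQ : F.IsFullyNormalized Q) (hQs : SelfC F T Q) (hQX : Q ≤ X) (hX : X ≤ normalizerIn T Q)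
include hS hF hT hQ hQs hQX hX

theorem isFullyCentralized_over : F.IsFullyCentralized X := by
  have hTS := hT.1
  have hXT : X ≤ T := hX.trans inf_le_left
  have hXS := hXT.trans hTS
  have hQS := hQ.1
  obtain ⟨X₀, hXX₀, hX₀⟩ := exists_fullyCentralized (F := F) hXS
  obtain ⟨φ, hφ, rfl⟩ := isConj_iff.1 hXX₀
  obtain ⟨hauto, hrec⟩ := IsSaturated.automized_receptive hS hF hQ
  obtain ⟨ψ, hψ, hψQ, hψN⟩ := exists_map_normalizer hS hauto hrec
    (isConj_symm (isConj_iff.2 ⟨φ, hφ.mono hQX, rfl⟩))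
  have hXN : img X φ ≤ normalizerIn S (img Q φ) := hφ.img_le_of_forall fun x hx =>
    map_mem_normalizerIn hφ hQX hx (hX hx).2
  set θ := ψ ∘ φ with hθdef
  have hθ : IsMap F X θ :=
    hφ.comp hψ fun x hx => hXN (hφ.mem_img.2 ⟨x, hx, rfl⟩)
  have hθQ : img Q θ = Q := by rw [hθdef, ← img_img (hφ.mono hQX), hψQ]
  obtain ⟨θ', hθ', hθe⟩ := (isReceptive_iff.1 hrec).2 Q θ (hθ.mono hQX) hθQ
  have hXE : X ≤ extSub S Q θ := fun x hx => ⟨⟨hXS hx, (hX hx).2⟩, θ x, hθ.mem_S hx,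
    fun q hq => hθ.map_conj hx (hQX hq)⟩
  have hθ'X := hθ'.mono hXE
  set Y := img X θ with hY
  have hYQ : Q ≤ Y := hθQ.ge.trans (hθ.img_mono hQX)
  have hθT : ∀ x ∈ X, θ x ∈ T := fun x hx => (stronglyClosed_iff.1 hT).2 X θ hXT hθ x hx
  have hY' : img X θ' = Y := by
    refine eq_of_le_of_card_le hθ.img_le (hθ'X.img_le_of_forall fun x hx => ?_)
      (by rw [hY, hθ.card_img, hθ'X.card_img])
    have hx' : θ' x ∈ T := (stronglyClosed_iff.1 hT).2 X θ' hXT hθ'X x hx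
    have hz : (θ x)⁻¹ * θ' x ∈ centralizerIn T Q := by
      refine ⟨T.mul_mem (T.inv_mem (hθT x hx)) hx', Subgroup.mem_centralizer_iff.2 fun y hy => ?_⟩
      obtain ⟨q, hq, rfl⟩ := (hθ.mono hQX).mem_img.1 (hθQ.ge hy)
      have h1 := hθe _ ((Subgroup.mem_normalizer_iff.1 (hX hx).2 q).1 hq)
      rw [hθ'X.map_conj hx (hQX hq), hθ.map_conj hx (hQX hq), hθe q hq] at h1
      calc θ q * ((θ x)⁻¹ * θ' x) = (θ x)⁻¹ * (θ x * θ q * (θ x)⁻¹) * θ' x := by group
        _ = (θ x)⁻¹ * θ' x * θ q := by rw [← h1]; group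
    have h2 := Y.mul_mem (hθ.mem_img.2 ⟨x, hx, rfl⟩) (hYQ (hQs.cent hTS hz))
    rwa [mul_inv_cancel_left] at h2
  have hCQ : centralizerIn S Q ≤ extSub S Q θ := centralizerIn_le_extSub
  have hQ' : img Q θ' = Q := (IsMap.img_congr hθe).trans hθQ
  have hC : img (centralizerIn S Q) θ' = centralizerIn S Q := by
    refine eq_of_le_of_card_le inf_le_left ((hθ'.mono hCQ).img_le_of_forall fun c hc => ?_)
      (by rw [(hθ'.mono hCQ).card_img])
    have h1 := map_mem_centralizerIn hθ' (le_extSub (hθ.mono hQX)) (hCQ hc) hc.2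
    rwa [hQ'] at h1
  have hCX : centralizerIn S X ≤ extSub S Q θ :=
    fun c hc => hCQ ⟨hc.1, Subgroup.centralizer_le hQX hc.2⟩
  have e1 : img (centralizerIn S X) θ' = centralizerIn S Y := by
    refine le_antisymm ((hθ'.mono hCX).img_le_of_forall fun c hc => ?_) fun y hy => ?_
    · rw [← hY']
      exact map_mem_centralizerIn hθ' hXE (hCX hc) hc.2
    · have hyQ : y ∈ centralizerIn S Q := ⟨hy.1, Subgroup.centralizer_le hYQ hy.2⟩
      rw [← hC] at hyQ
      obtain ⟨c, hc, rfl⟩ := (hθ'.mono hCQ).mem_img.1 hyQ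
      refine (hθ'.mono hCX).mem_img.2
        ⟨c, ⟨hc.1, Subgroup.mem_centralizer_iff.2 fun x hx => ?_⟩, rfl⟩
      refine hθ'.inj (mul_mem (hXE hx) (hCQ hc)) (mul_mem (hCQ hc) (hXE hx)) ?_
      rw [hθ'.map_mul (hXE hx) (hCQ hc), hθ'.map_mul (hCQ hc) (hXE hx)]
      exact Subgroup.mem_centralizer_iff.1 hy.2 _ (hY' ▸ hθ'X.mem_img.2 ⟨x, hx, rfl⟩)
  refine ⟨hXS, fun Z hZ => ?_⟩
  refine (hX₀.2 Z (isConj_trans (isConj_symm hXX₀) hZ)).trans ?_
  have hC₀ : centralizerIn S (img X φ) ≤ normalizerIn S (img Q φ) := fun c hc =>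
    ⟨hc.1, Subgroup.centralizer_le_normalizer _
      (Subgroup.centralizer_le (hφ.img_mono hQX) hc.2)⟩
  rw [← (hψ.mono hC₀).card_img, ← (hθ'.mono hCX).card_img, e1]
  refine card_le_of_le' inf_le_left ((hψ.mono hC₀).img_le_of_forall fun c hc => ?_)
  have h1 := map_mem_centralizerIn hψ hXN (hC₀ hc) hc.2
  rwa [img_img hφ, ← hθdef, ← hY] at h1

theorem conj_cent_mem {s : Ω} (hs : s ∈ centralizerIn S Q) :
    s ∈ Subgroup.normalizer (X : Set Ω) := by
  have key : ∀ u ∈ centralizerIn S Q, ∀ x ∈ X, u * x * u⁻¹ ∈ X := by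
    intro u hu x hx
    have hxn := (hX hx).2
    have h1 : x⁻¹ * (u * x * u⁻¹) ∈ centralizerIn T Q := by
      refine ⟨T.mul_mem (T.inv_mem (hX hx).1) (cl_mem hT
        (isMap_conj (F := F) (hX.trans (inf_le_left.trans hT.1)) hu.1) hx (hX hx).1), ?_⟩
      rw [show x⁻¹ * (u * x * u⁻¹) = (x⁻¹ * u * x⁻¹⁻¹) * u⁻¹ by group]
      refine Subgroup.mul_mem _ (Subgroup.mem_centralizer_iff.2 fun q hq => ?_)
        (Subgroup.inv_mem _ hu.2)
      have h2 := Subgroup.mem_centralizer_iff.1 hu.2 _ ((Subgroup.mem_normalizer_iff.1 hxn q).1 hq)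
      calc q * (x⁻¹ * u * x⁻¹⁻¹) = x⁻¹ * (x * q * x⁻¹ * u) * x := by group
        _ = x⁻¹ * (u * (x * q * x⁻¹)) * x := by rw [h2]
        _ = _ := by group
    have h3 := X.mul_mem hx (hQX (hQs.cent hT.1 h1))
    rwa [mul_inv_cancel_left] at h3
  refine Subgroup.mem_normalizer_iff.2 fun x => ⟨key s hs x, fun hx => ?_⟩
  have := key _ (inv_mem hs) _ hx
  rwa [show s⁻¹ * (s * x * s⁻¹) * s⁻¹⁻¹ = x by group] at this

/-- Automorphisms fixing `Q` are conjugations by `C_S(Q)`. -/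
theorem exists_conj_of_fix {a : MulAut X} (ha : a ∈ F.autGroup X)
    (hfix : ∀ q ∈ Q, autFun a q = q) :
    ∃ s ∈ centralizerIn S Q, ∀ x ∈ X, autFun a x = s * x * s⁻¹ := by
  have hTS := hT.1
  have hQS := hQ.1
  have hXT : X ≤ T := hX.trans inf_le_left
  have hXN : X ≤ normalizerIn S Q := hX.trans (inf_le_inf_right _ hTS)
  set N := nQ F Q hQS with hN
  have hNsat := isSaturated_nQ hS hF hQ
  haveI := finite_of_le (S := S) (P := normalizerIn S Q) inf_le_left
  have hNp : IsPGroup p (normalizerIn S Q) := hS.to_le inf_le_left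
  obtain ⟨X₁, hXX₁, hX₁⟩ := exists_fullyNormalized (F := N) hXN
  obtain ⟨θ, hθ, rfl⟩ := isConj_iff.1 hXX₁
  obtain ⟨-, -, g, hg, hge, hgQ⟩ := isMap_nSystem_iff.1 hθ
  have hθQ : img Q θ = Q := (IsMap.img_congr fun x hx => (hge x (hQX hx)).symm).trans hgQ
  have hθF := isMap_of_nQ hQS hθ
  have hθQX : Q ≤ img X θ := hθQ.ge.trans (hθF.img_mono hQX)
  have hX₁T : img X θ ≤ normalizerIn T Q := hθF.img_le_of_forall fun x hx =>
    ⟨(stronglyClosed_iff.1 hT).2 X θ hXT hθF x hx,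
      ((isMap_nSystem_iff.1 hθ).2.1 x hx).2⟩
  have hfc := isFullyCentralized_over hS hF hT hQ hQs hQX hX
  have hfc₁ := isFullyCentralized_over hS hF hT hQ hQs hθQX hX₁T
  -- the fixers
  let A : (Y : Subgroup Ω) → Q ≤ Y → Subgroup (MulAut Y) := fun Y hY =>
    { carrier := {b | b ∈ F.autGroup Y ∧ ∀ q ∈ Q, autFun b q = q}
      one_mem' := ⟨one_mem _, fun q hq => autFun_one (hY hq)⟩
      mul_mem' := fun {b c} hb hc => ⟨mul_mem hb.1 hc.1, fun q hq => by
        rw [autFun_mul _ _ (hY hq), hc.2 q hq, hb.2 q hq]⟩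
      inv_mem' := fun {b} hb => ⟨inv_mem hb.1, fun q hq => by
        conv_lhs => rw [← hb.2 q hq]
        exact PPrime.autFun_symm (hY hq)⟩ }
  have hApg : ∀ (Y : Subgroup Ω) (hY : Q ≤ Y), Y ≤ normalizerIn T Q → IsPGroup p (A Y hY) := by
    intro Y hY hYn b
    obtain ⟨n, hn⟩ := IsPGroup.iff_card.1 hS
    have hYS : Y ≤ S := hYn.trans (inf_le_left.trans hTS)
    refine ⟨n, Subtype.ext (autFun_ext fun y hy => ?_)⟩
    have hm := (mem_autGroup_iff hYS).1 b.2.1
    rw [Subgroup.coe_pow, pow_fix_step hYS hn le_rfl hY b.2.2 (fun z hz => hQs.cent hTS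
      ⟨T.mul_mem (T.inv_mem (hYn hz).1) ((stronglyClosed_iff.1 hT).2 Y _
        (hYn.trans inf_le_left) hm z hz), disp_mem_cent hm hY b.2.2 hz (hYn hz).2⟩) y hy,
      Subgroup.coe_one, autFun_one hy]
  have hAN : ∀ (Y : Subgroup Ω) (hY : Q ≤ Y), Y ≤ normalizerIn S Q → A Y hY ≤ N.autGroup Y := by
    intro Y hY hYN b hb
    have hYS : Y ≤ S := hYN.trans inf_le_left
    have hm := (mem_autGroup_iff hYS).1 hb.1
    exact (mem_autGroup_iff hYN).2 (isMap_nSystem_iff.2 ⟨hYN, fun y hy => hYN (autFun_mem b hy),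
      autFun b, hm.mono (sup_le le_rfl hY), fun _ _ => rfl, img_eq_self_of_fix hb.2⟩)
  -- at the fully normalized member
  obtain ⟨-, hi⟩ := (isFullyAutomized_iff hNp).1
    (IsSaturated.automized_receptive hNp hNsat hX₁).1
  have hA₁ : A _ hθQX ≤ autInducedBy (centralizerIn S Q) (img X θ) := by
    intro b hb
    haveI := finite_of_le hθ.img_le
    haveI := finite_mulAut (P := img X θ)
    obtain ⟨h₀, hh₀, hle⟩ := exists_conj_le_of_not_dvd_relIndex (isPGroup_autInducedBy hNp)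
      (autInducedBy_le_autGroup hθ.img_le) hi (hApg _ hθQX hX₁T) (hAN _ hθQX hθ.img_le)
    have hb' : h₀⁻¹ * b * h₀ ∈ A _ hθQX := by
      obtain ⟨-, -, k, hk, hke, hkQ⟩ := isMap_nSystem_iff.1 ((mem_autGroup_iff hθ.img_le).1 hh₀)
      have hh₀Q : ∀ q ∈ Q, autFun h₀ q ∈ Q := fun q hq => by
        rw [← hke q (hθQX hq)]
        exact hkQ.le ((hk.mono le_sup_right).mem_img.2 ⟨q, hq, rfl⟩)
      have hh₀F : h₀ ∈ F.autGroup (img X θ) :=
        (mem_autGroup_iff hθF.img_le).2 (isMap_of_nQ hQS ((mem_autGroup_iff hθ.img_le).1 hh₀))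
      refine ⟨mul_mem (mul_mem (inv_mem hh₀F) hb.1) hh₀F, fun q hq => ?_⟩
      rw [autFun_mul _ _ (hθQX hq), autFun_mul _ _ (autFun_mem _ (hθQX hq)),
        hb.2 _ (hh₀Q q hq), PPrime.autFun_symm (hθQX hq)]
    have h2 := hle (conj_mem_conjBy hb')
    rw [show h₀ * (h₀⁻¹ * b * h₀) * h₀⁻¹ = b by group] at h2
    obtain ⟨n, hn, hne⟩ := mem_autInducedBy_iff.1 h2
    refine mem_autInducedBy_iff.2 ⟨n, ⟨hn.1, Subgroup.mem_centralizer_iff.2 fun q hq => ?_⟩, hne⟩
    have h3 := hne q (hθQX hq)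
    rw [hb.2 q hq] at h3
    calc q * n = n * q * n⁻¹ * n := by rw [← h3]
      _ = n * q := by group
  have hA : autInducedBy (centralizerIn S Q) X ≤ A X hQX := fun b hb => by
    obtain ⟨s, hs, hse⟩ := mem_autInducedBy_iff.1 hb
    refine ⟨(mem_autGroup_iff (hXT.trans hTS)).2 ((isMap_conj (hXT.trans hTS) hs.1).congr hse),
      fun q hq => ?_⟩
    rw [hse q (hQX hq), ← Subgroup.mem_centralizer_iff.1 hs.2 q hq, mul_inv_cancel_right]
  have hcard : Nat.card (A X hQX) ≤ Nat.card (autInducedBy (centralizerIn S Q) X) := by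
    haveI := finite_of_le (S := S) (P := X) (hXT.trans hTS)
    haveI := finite_of_le hθF.img_le
    haveI := finite_mulAut (P := X)
    haveI := finite_mulAut (P := img X θ)
    have hsub : ∀ {Z : Subgroup Ω}, Q ≤ Z → centralizerIn (centralizerIn S Q) Z = centralizerIn S Z :=
      fun hQZ => le_antisymm (fun c hc => ⟨hc.1.1, hc.2⟩)
        fun c hc => ⟨⟨hc.1, Subgroup.centralizer_le hQZ hc.2⟩, hc.2⟩
    have hnor : ∀ {Z : Subgroup Ω}, Q ≤ Z → Z ≤ normalizerIn T Q →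
        normalizerIn (centralizerIn S Q) Z = centralizerIn S Q := fun hQZ hZ =>
      inf_eq_left.2 fun c hc => conj_cent_mem hS hF hT hQ hQs hQZ hZ hc
    have e0 := card_autInducedBy_mul (P := X) (centralizerIn S Q)
    have e1 := card_autInducedBy_mul (P := img X θ) (centralizerIn S Q)
    rw [hsub hQX, hnor hQX hX] at e0
    rw [hsub hθQX, hnor hθQX hX₁T] at e1
    have hceq : Nat.card (centralizerIn S (img X θ)) = Nat.card (centralizerIn S X) :=
      le_antisymm (hfc.2 _ (isConj_iff.2 ⟨θ, hθF, rfl⟩))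
        (hfc₁.2 _ (isConj_symm (isConj_iff.2 ⟨θ, hθF, rfl⟩)))
    rw [hceq] at e1
    haveI : Finite (centralizerIn S X) := finite_of_le (S := S) inf_le_left
    have heq : Nat.card (autInducedBy (centralizerIn S Q) (img X θ)) =
        Nat.card (autInducedBy (centralizerIn S Q) X) :=
      Nat.eq_of_mul_eq_mul_right Nat.card_pos (e1.trans e0.symm)
    have hmap : (A X hQX).map (MulAut.congr (mapEquiv hθF)).toMonoidHom ≤ A _ hθQX := by
      rintro _ ⟨b, hb, rfl⟩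
      refine ⟨(congr_mem_autGroup_iff hθF b).2 hb.1, fun q hq => ?_⟩
      obtain ⟨u, hu, rfl⟩ := (hθF.mono hQX).mem_img.1 (hθQ.ge hq)
      show autFun (MulAut.congr (mapEquiv hθF) b) (θ u) = θ u
      rw [autFun_congr hθF b (hQX hu), hb.2 u hu]
    rw [← heq]
    refine le_trans ?_ (Subgroup.card_le_of_le (hmap.trans hA₁))
    rw [Subgroup.card_map_of_injective (MulAut.congr (mapEquiv hθF)).injective]
  haveI := finite_of_le (S := S) (P := X) (hXT.trans hTS)
  haveI := finite_mulAut (P := X)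
  have hb : a ∈ autInducedBy (centralizerIn S Q) X :=
    (Subgroup.eq_of_le_of_card_ge hA hcard).ge ⟨ha, hfix⟩
  exact mem_autInducedBy_iff.1 hb

end CfsgLib.Fusion.Meet
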