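import Cfsg.Agent.Lib.Fusion.System.Meet.Lift

/-!
# Automorphisms in the product of a normal subsystem with `S`

For `E` normal in `F` over `T`, `aSub h P` consists of the automorphisms of `P` in `F` moving `P`
inside `T` and restricting to maps of `E` on `P ∩ T`. At a subgroup over a self-centralizing,
fully normalized `R ≤ T` those of order prime to `p` come from the local subgroup at `R`.
-/

set_option autoImplicit false
set_option maxHeartbeats 1000000
set_option linter.style.haveILetI false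
set_option linter.unusedSectionVars false

open Subgroup
open scoped Classical Pointwise

namespace CfsgLib.Fusion.Product

open Cfsg (FusionSystem autInducedBy)
open Cfsg.FusionSystem (normalizerIn centralizerIn preimageAlong)
open CfsgLib.Fusion CfsgLib.Fusion.CentLift CfsgLib.Fusion.Meet

universe u

variable {Ω : Type u} [Group Ω] {S T : Subgroup Ω} {F : FusionSystem S} {p : ℕ}
  {E : FusionSystem T} {P Q R C X : Subgroup Ω} {f g : Ω → Ω} [Finite S] [Fact p.Prime]

omit [Finite S] [Fact p.Prime] in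
/-- Restriction divides orders. -/
theorem orderOf_dvd_of_agree (hQC : Q ≤ C) {a : MulAut C} {b : MulAut Q}
    (h : ∀ x ∈ Q, autFun a x = autFun b x) : orderOf b ∣ orderOf a :=
  orderOf_dvd_of_pow_eq_one (autFun_ext fun x hx => by
    rw [← autFun_pow_eq hQC h _ x hx, pow_orderOf_eq_one, autFun_one (hQC hx), autFun_one hx])

omit [Fact p.Prime] in
/-- The index of a subgroup in its join with a normal one. -/
theorem relIndex_sup_of_normal {G : Type*} [Group G] [Finite G] (H N : Subgroup G) [N.Normal] :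
    H.relIndex (N ⊔ H) = H.relIndex N := by
  have e₁ := Subgroup.relIndex_mul_relIndex (H ⊓ N) N (N ⊔ H) inf_le_right le_sup_left
  have e₂ := Subgroup.relIndex_mul_relIndex (H ⊓ N) H (N ⊔ H) inf_le_left le_sup_right
  rw [Subgroup.inf_relIndex_right, Subgroup.relIndex_sup_left] at e₁
  rw [Subgroup.inf_relIndex_left] at e₂
  haveI : Finite H := inferInstance
  have hpos : N.relIndex H ≠ 0 := fun h0 => (Subgroup.index_ne_zero_of_finite (H := N.subgroupOf H)) h0
  exact (Nat.eq_of_mul_eq_mul_left (Nat.pos_of_ne_zero hpos)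
    (e₂.trans (e₁.symm.trans (mul_comm _ _))))

variable (h : Setup F p E E T)

/-- The automorphisms moving `P` inside `T` and restricting to `E` on `P ∩ T`. -/
def aSub (P : Subgroup Ω) : Subgroup (MulAut P) where
  carrier := {a | a ∈ F.autGroup P ∧ (∀ x ∈ P, x⁻¹ * autFun a x ∈ T) ∧
    IsMap E (P ⊓ T) (autFun a)}
  one_mem' := ⟨one_mem _, fun x hx => by rw [autFun_one hx, inv_mul_cancel]; exact one_mem _,
    (isMap_id inf_le_right).congr fun x hx => autFun_one hx.1⟩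
  mul_mem' := fun {a b} ha hb => ⟨mul_mem ha.1 hb.1, fun x hx => by
    have h1 := mul_mem (hb.2.1 x hx) (ha.2.1 _ (autFun_mem b hx))
    rw [show x⁻¹ * autFun b x * ((autFun b x)⁻¹ * autFun a (autFun b x)) =
      x⁻¹ * autFun a (autFun b x) by group, ← autFun_mul _ _ hx] at h1
    exact h1,
    (hb.2.2.comp ha.2.2 fun x hx => ⟨autFun_mem b hx.1, by
      have h1 := T.mul_mem hx.2 (hb.2.1 x hx.1)
      rwa [mul_inv_cancel_left] at h1⟩).congr fun x hx => autFun_mul _ _ hx.1⟩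
  inv_mem' := fun {a} ha => by
    haveI : Finite T := finite_of_le h.hTS
    refine ⟨inv_mem ha.1, fun x hx => ?_, ?_⟩
    · have h1 := inv_mem (ha.2.1 _ (autFun_mem a⁻¹ hx))
      rw [PPrime.autFun_symm' hx] at h1
      rwa [mul_inv_rev, inv_inv] at h1
    · have hst : ∀ x ∈ P ⊓ T, autFun a x ∈ P ⊓ T := fun x hx => ⟨autFun_mem a hx.1, by
        have h1 := T.mul_mem hx.2 (ha.2.1 x hx.1)
        rwa [mul_inv_cancel_left] at h1⟩
      have hi : img (P ⊓ T) (autFun a) = P ⊓ T :=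
        img_eq_of_map_le (S := T) inf_le_right ha.2.2 le_rfl hst
      obtain ⟨a', ha', h1, -⟩ := ha.2.2.exists_inv
      rw [hi] at ha'
      refine ha'.congr fun y hy => ?_
      obtain ⟨x, hx, rfl⟩ := ha.2.2.mem_img.1 (hi.ge hy)
      rw [h1 x hx, PPrime.autFun_symm hx.1]

variable {h}

theorem mem_aSub {a : MulAut P} : a ∈ aSub h P ↔ a ∈ F.autGroup P ∧
    (∀ x ∈ P, x⁻¹ * autFun a x ∈ T) ∧ IsMap E (P ⊓ T) (autFun a) := Iff.rfl

theorem aSub_le : aSub h P ≤ F.autGroup P := fun _ ha => ha.1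

theorem aSub_stab {a : MulAut P} (ha : a ∈ aSub h P) {x : Ω} (hx : x ∈ P ⊓ T) :
    autFun a x ∈ P ⊓ T := ⟨autFun_mem a hx.1, by
  have h1 := T.mul_mem hx.2 (ha.2.1 x hx.1)
  rwa [mul_inv_cancel_left] at h1⟩

/-- Restriction to a stabilized subgroup. -/
theorem aSub_res (hQC : Q ≤ C) {a : MulAut C} {b : MulAut Q} (hCS : C ≤ S)
    (hab : ∀ x ∈ Q, autFun a x = autFun b x) (ha : a ∈ aSub h C) : b ∈ aSub h Q :=
  ⟨(mem_autGroup_iff (hQC.trans hCS)).2
      ((((mem_autGroup_iff hCS).1 ha.1).mono hQC).congr fun x hx => (hab x hx).symm),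
    fun x hx => by rw [← hab x hx]; exact ha.2.1 x (hQC hx),
    (ha.2.2.mono (inf_le_inf_right _ hQC)).congr fun x hx => (hab x hx.1).symm⟩

/-- `aSub` is carried along maps of `F`. -/
theorem aSub_transport (hf : IsMap F P f) {a : MulAut P} (ha : a ∈ aSub h P) :
    MulAut.congr (mapEquiv hf) a ∈ aSub h (img P f) := by
  refine ⟨(congr_mem_autGroup_iff hf a).2 ha.1, fun y hy => ?_, ?_⟩
  · obtain ⟨x, hx, rfl⟩ := hf.mem_img.1 hy
    rw [autFun_congr hf a hx, ← hf.map_inv hx, ← hf.map_mul (inv_mem hx) (autFun_mem a hx)]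
    exact cl_mem h.closed hf (mul_mem (inv_mem hx) (autFun_mem a hx)) (ha.2.1 x hx)
  · obtain ⟨k, hk, hke⟩ := h.side₁.inv (P ⊓ T) (P ⊓ T) (autFun a) f le_rfl inf_le_right ha.2.2
      (fun x hx => aSub_stab ha hx) (hf.mono inf_le_left)
    rw [← img_inf_T h hf] at hk
    refine hk.congr fun y hy => ?_
    rw [img_inf_T h hf] at hy
    obtain ⟨x, hx, rfl⟩ := (hf.mono inf_le_left).mem_img.1 hy
    rw [hke x hx, autFun_congr hf a hx.1]

theorem exists_aSub_transport (hf : IsMap F P f) (hi : img P f = Q) {a : MulAut P}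
    (ha : a ∈ aSub h P) : ∃ b ∈ aSub h Q,
      (∀ x ∈ P, autFun b (f x) = f (autFun a x)) ∧ orderOf b = orderOf a := by
  subst hi
  exact ⟨_, aSub_transport hf ha, fun x hx => autFun_congr hf a hx, MulEquiv.orderOf_eq _ a⟩

theorem aSub_conj (hP : P ≤ S) {a b : MulAut P} (ha : a ∈ F.autGroup P) (hb : b ∈ aSub h P) :
    a * b * a⁻¹ ∈ aSub h P := by
  obtain ⟨c, hc, hce, -⟩ := exists_aSub_transport ((mem_autGroup_iff hP).1 ha) (img_autFun a) hb
  rwa [show a * b * a⁻¹ = c from autFun_ext fun y hy => ?_]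
  have hy' := autFun_mem a⁻¹ hy
  rw [autFun_mul _ _ hy, autFun_mul _ _ hy', ← hce _ hy', PPrime.autFun_symm' hy]

theorem img_inf_eq (h : Setup F p E E T) (hf : IsMap F P f) (hi : img P f = Q) : img (P ⊓ T) f = Q ⊓ T := by
  subst hi
  exact (img_inf_T h hf).symm

/-- Automorphisms fixing `P ∩ T` and moving `P` inside `T`. -/
def delta (h : Setup F p E E T) (P : Subgroup Ω) : Subgroup (MulAut P) where
  carrier := {a | a ∈ F.autGroup P ∧ (∀ x ∈ P ⊓ T, autFun a x = x) ∧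
    ∀ x ∈ P, x⁻¹ * autFun a x ∈ T}
  one_mem' := ⟨one_mem _, fun x hx => autFun_one hx.1, fun x hx => by
    rw [autFun_one hx, inv_mul_cancel]; exact one_mem _⟩
  mul_mem' := fun {a b} ha hb => ⟨mul_mem ha.1 hb.1, fun x hx => by
      rw [autFun_mul _ _ hx.1, hb.2.1 x hx, ha.2.1 x hx], fun x hx => by
      have h1 := mul_mem (hb.2.2 x hx) (ha.2.2 _ (autFun_mem b hx))
      rw [show x⁻¹ * autFun b x * ((autFun b x)⁻¹ * autFun a (autFun b x)) =
        x⁻¹ * autFun a (autFun b x) by group, ← autFun_mul _ _ hx] at h1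
      exact h1⟩
  inv_mem' := fun {a} ha => ⟨inv_mem ha.1, fun x hx => by
      conv_lhs => rw [← ha.2.1 x hx]
      exact PPrime.autFun_symm hx.1, fun x hx => by
      have h1 := inv_mem (ha.2.2 _ (autFun_mem a⁻¹ hx))
      rw [PPrime.autFun_symm' hx] at h1
      rwa [mul_inv_rev, inv_inv] at h1⟩

theorem mem_delta {a : MulAut P} : a ∈ delta h P ↔ a ∈ F.autGroup P ∧
    (∀ x ∈ P ⊓ T, autFun a x = x) ∧ ∀ x ∈ P, x⁻¹ * autFun a x ∈ T := Iff.rfl

theorem delta_disp (hP : P ≤ S) {a : MulAut P} (ha : a ∈ delta h P) {x : Ω} (hx : x ∈ P) :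
    x⁻¹ * autFun a x ∈ P ⊓ T ⊓ Subgroup.centralizer ((P ⊓ T : Subgroup Ω) : Set Ω) :=
  ⟨⟨P.mul_mem (P.inv_mem hx) (autFun_mem a hx), ha.2.2 x hx⟩,
    disp_mem_cent (Q := P ⊓ T) ((mem_autGroup_iff hP).1 ha.1) inf_le_left ha.2.1 hx
      (Subgroup.mem_normalizer_iff.2 fun q => by
        show q ∈ P ⊓ T ↔ x * q * x⁻¹ ∈ P ⊓ T
        have hn := Subgroup.mem_normalizer_iff.1 (h.normal (hP hx)) q
        constructor
        · exact fun hq => ⟨P.mul_mem (P.mul_mem hx hq.1) (P.inv_mem hx), hn.1 hq.2⟩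
        · intro hq
          refine ⟨?_, hn.2 hq.2⟩
          have h1 := P.mul_mem (P.mul_mem (P.inv_mem hx) hq.1) hx
          rwa [show x⁻¹ * (x * q * x⁻¹) * x = q by group] at h1)⟩

theorem delta_isPGroup (hP : P ≤ S) : IsPGroup p (delta h P) := by
  obtain ⟨n, hn⟩ := IsPGroup.iff_card.1 h.pgroup
  exact fun a => ⟨n, Subtype.ext (autFun_ext fun x hx => by
    rw [Subgroup.coe_pow, pow_fix_step hP hn le_rfl (inf_le_left : P ⊓ T ≤ P) a.2.2.1
      (fun y hy => (delta_disp hP a.2 hy).1) x hx, Subgroup.coe_one, autFun_one hx])⟩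

theorem delta_comm (hP : P ≤ S) {a b : MulAut P} (ha : a ∈ delta h P) (hb : b ∈ delta h P) :
    a * b = b * a := autFun_ext fun x hx => by
  have ma := delta_disp hP ha hx
  have mb := delta_disp hP hb hx
  set za := x⁻¹ * autFun a x with hza
  set zb := x⁻¹ * autFun b x with hzb
  rw [autFun_mul _ _ hx, autFun_mul _ _ hx, show autFun b x = x * zb by rw [hzb]; group,
    show autFun a x = x * za by rw [hza]; group, autFun_map_mul a hx mb.1.1,
    autFun_map_mul b hx ma.1.1, ha.2.1 zb mb.1, hb.2.1 za ma.1,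
    show autFun a x = x * za by rw [hza]; group, show autFun b x = x * zb by rw [hzb]; group,
    mul_assoc x za zb, mul_assoc x zb za, Subgroup.mem_centralizer_iff.1 mb.2 za ma.1]

theorem delta_conj (hP : P ≤ S) {a b : MulAut P} (ha : a ∈ F.autGroup P) (hb : b ∈ delta h P) :
    a * b * a⁻¹ ∈ delta h P := by
  have hm := (mem_autGroup_iff hP).1 ha
  refine ⟨mul_mem (mul_mem ha hb.1) (inv_mem ha), fun x hx => ?_, fun x hx => ?_⟩
  · have hy : autFun a⁻¹ x ∈ P ⊓ T := ⟨autFun_mem _ hx.1,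
      cl_mem h.closed ((mem_autGroup_iff hP).1 (inv_mem ha)) hx.1 hx.2⟩
    rw [autFun_mul _ _ hx.1, autFun_mul _ _ hy.1, hb.2.1 _ hy, PPrime.autFun_symm' hx.1]
  · have hy := autFun_mem a⁻¹ hx
    have h1 := cl_mem h.closed hm (mul_mem (inv_mem hy) (autFun_mem b hy)) (hb.2.2 _ hy)
    rw [hm.map_mul (inv_mem hy) (autFun_mem b hy), hm.map_inv hy, PPrime.autFun_symm' hx] at h1
    rwa [autFun_mul _ _ hx, autFun_mul _ _ hy]

/-- Conjugations by `Z(P ∩ T)`. -/
abbrev zInn (T P : Subgroup Ω) : Subgroup (MulAut P) :=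
  autInducedBy (P ⊓ T ⊓ Subgroup.centralizer ((P ⊓ T : Subgroup Ω) : Set Ω)) P

theorem zInn_conj (h : Setup F p E E T) (hP : P ≤ S) {a b : MulAut P} (ha : a ∈ F.autGroup P) (hb : b ∈ zInn T P) :
    a * b * a⁻¹ ∈ zInn T P := by
  obtain ⟨z, hz, hzb⟩ := mem_autInducedBy_iff.1 hb
  have hm := (mem_autGroup_iff hP).1 ha
  refine mem_autInducedBy_iff.2 ⟨autFun a z, ⟨⟨autFun_mem a hz.1.1, cl_mem h.closed hm hz.1.1 hz.1.2⟩,
    Subgroup.mem_centralizer_iff.2 fun q hq => ?_⟩, fun x hx => ?_⟩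
  · have hu : autFun a⁻¹ q ∈ P ⊓ T := ⟨autFun_mem _ hq.1,
      cl_mem h.closed ((mem_autGroup_iff hP).1 (inv_mem ha)) hq.1 hq.2⟩
    rw [← PPrime.autFun_symm' (α := a) hq.1, ← hm.map_mul hu.1 hz.1.1, ← hm.map_mul hz.1.1 hu.1,
      Subgroup.mem_centralizer_iff.1 hz.2 _ hu]
  · rw [autFun_mul _ _ hx, autFun_mul _ _ (autFun_mem _ hx), hzb _ (autFun_mem _ hx),
      hm.map_conj hz.1.1 (autFun_mem _ hx), PPrime.autFun_symm' hx]

/-- A subgroup has a conjugate fully normalized together with its intersection with `T`. -/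
theorem exists_both_normalized (h : Setup F p E E T) (hP : P ≤ S) : ∃ f, IsMap F P f ∧
    F.IsFullyNormalized (img P f) ∧ F.IsFullyNormalized (img P f ⊓ T) := by
  obtain ⟨Q, hPQ, hQ⟩ := exists_fullyNormalized (F := F) hP
  obtain ⟨f, hf, rfl⟩ := isConj_iff.1 hPQ
  obtain ⟨R, hR, hRn⟩ := exists_fullyNormalized (F := F) (inf_le_left.trans hQ.1 : img P f ⊓ T ≤ S)
  obtain ⟨hau, hre⟩ := IsSaturated.automized_receptive h.pgroup h.sat hRn
  obtain ⟨φ, hφ, hφR, -⟩ := exists_map_normalizer h.pgroup hau hre hR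
  set Q := img P f with hQdef
  have hNN : normalizerIn S Q ≤ normalizerIn S (Q ⊓ T) := fun n hn =>
    ⟨hn.1, Subgroup.mem_normalizer_iff.2 fun x =>
      and_congr (Subgroup.mem_normalizer_iff.1 hn.2 x)
        (Subgroup.mem_normalizer_iff.1 (h.normal hn.1) x)⟩
  have hφN := hφ.mono hNN
  have hQN := le_normalizerIn (S := S) hQ.1
  have hfφ : IsMap F P (φ ∘ f) := hf.comp hφN fun x hx => hQN (hf.mem_img.2 ⟨x, hx, rfl⟩)
  refine ⟨φ ∘ f, hfφ, ?_, ?_⟩
  · rw [← img_img hf]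
    refine ⟨(hφN.mono hQN).img_le, fun Z hZ => ?_⟩
    refine (hQ.2 Z (isConj_trans (isConj_iff.2 ⟨φ, hφN.mono hQN, rfl⟩) hZ)).trans ?_
    rw [← hφN.card_img]
    exact card_le_of_le' inf_le_left (hφN.img_le_of_forall fun n hn =>
      map_mem_normalizerIn hφN hQN hn hn.2)
  · rwa [← img_img hf, img_inf_T h (hφN.mono hQN), hφR]

end CfsgLib.Fusion.Product
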