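import Cfsg.Agent.Lib.Fusion.System.Meet.ProductRich

/-!
# The product is saturated

The classes with self-centralizing part in `T` are saturated, by induction from above; every other
class has a member with an element outside it acting as an element of `O_p` of the automizer.
-/

set_option autoImplicit false
set_option maxHeartbeats 1000000
set_option linter.style.haveILetI false
set_option linter.unusedSectionVars false

open Subgroup
open scoped Classical Pointwise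

namespace CfsgLib.Fusion.Product

open Cfsg (FusionSystem autInducedBy)
open Cfsg.FusionSystem (normalizerIn centralizerIn)
open CfsgLib.Fusion CfsgLib.Fusion.CentLift CfsgLib.Fusion.Meet
open CfsgLib.Fusion.FamilySat (SatAt autStab autRes autFun_autRes autRes_mem_autGroup
  exists_move exists_to_normalized exists_ext rSub oCore)

universe u

variable {Ω : Type u} [Group Ω] {S T : Subgroup Ω} {F : FusionSystem S} {p : ℕ}
  {E : FusionSystem T} {P Q R X : Subgroup Ω} {f g : Ω → Ω} [Finite S] [Fact p.Prime]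
  {h : Setup F p E E T}

theorem normalizerIn_le_rad (h : Setup F p E E T) (hP : P ≤ S) :
    normalizerIn S P ≤ normalizerIn S (rad T P) := fun n hn => by
  have hr : rad T P ≤ S := (rad_le h hP).trans inf_le_left
  refine ⟨hn.1, conjBy_eq_iff.1 (eq_of_le_of_card_le hr (conjBy_le_iff.2 fun x hx => ?_)
    (card_conjBy n _).ge)⟩
  have h1 := map_mem_rad h (isMap_conj (F := F) (le_refl S) hn.1) hP hr hx
  rwa [img_conj, conjBy_eq_iff.2 hn.2] at h1

theorem img_rad_eq (h : Setup F p E E T) (hP : (prodSys h).IsFullyNormalized P)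
    (hθ : IsMap (prodSys h) (normalizerIn S P) g) :
    img (rad T P) g = rad T (img P g) := by
  have hPN := le_normalizerIn (S := S) hP.1
  have hrN := rad_le (T := T) h hP.1
  obtain ⟨hN, hn'⟩ := normalized_img hP hθ
  obtain ⟨g', hg', hg'1, hg'2⟩ := hθ.exists_inv
  rw [hN] at hg' hg'2
  refine le_antisymm ((hθ.mono hrN).img_le_of_forall fun x hx =>
    map_mem_rad h (isMap_F_of_prod h hθ) hPN hrN hx) fun y hy => ?_
  have hyN := rad_le h hn'.1 hy
  have h1 := map_mem_rad h (isMap_F_of_prod h hg') (le_normalizerIn hn'.1) (rad_le h hn'.1) hy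
  have hi : img (img P g) g' = P := by
    rw [img_img (hθ.mono hPN), IsMap.img_congr (f := g' ∘ g) (g := id) fun x hx => hg'1 x (hPN hx),
      img_id]
  rw [hi] at h1
  exact (hθ.mono hrN).mem_img.2 ⟨g' y, h1, (hg'2 y hyN).2⟩

theorem extT_conj_mem (hP : P ≤ S) : autInducedBy S P ≤ extT h P hP := fun a ha => by
  obtain ⟨n, hn, hne⟩ := mem_autInducedBy_iff.1 ha
  exact ⟨_, isMap_conj ((rad_le h hP).trans inf_le_left) hn, fun x hx => (hne x hx).symm⟩

/-- A class not over `T` is saturated when the bigger subgroups are. -/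
theorem satAt_of_rich (c : Cls h P) (hr : Rich h P) : SatAt (prodSys h) p P := by
  have hS := h.pgroup
  have hR₀ : rad T P ≤ S := (rad_le h c.le).trans inf_le_left
  obtain ⟨t, ht, htP⟩ := c.exists_normalizing (isConj_refl c.le)
  have hlt : P < rad T P := lt_of_le_of_ne le_sup_left fun e => htP (by
    rw [e]; exact Subgroup.mem_sup_right ht)
  obtain ⟨C, -, hCa, hCr, θ, hθ, hθC, -⟩ :=
    exists_to_normalized hS hR₀ (c.sat P _ (isConj_refl c.le) hlt hR₀)
  have hθN := hθ.mono (normalizerIn_le_rad h c.le)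
  obtain ⟨hN₁, hn₁⟩ := normalized_img c.normalized hθN
  have hC₁ : rad T (img P θ) = C := by rw [← img_rad_eq h c.normalized hθN, hθC]
  have hPN := le_normalizerIn (S := S) c.le
  have hconj₁ : (prodSys h).IsConj P (img P θ) := isConj_iff.2 ⟨θ, hθN.mono hPN, rfl⟩
  have hr₁ := hr.map c.le hθN hN₁
  set P₁ := img P θ
  have hP₁C : P₁ ≤ C := hC₁ ▸ le_sup_left
  have hN₁C : normalizerIn S P₁ ≤ normalizerIn S C := hC₁ ▸ normalizerIn_le_rad h hn₁.1
  haveI := finite_of_le hn₁.1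
  obtain ⟨δ, hδ, hfin, hP₂C, hT, g, hg, hgδ⟩ := exists_move hS hCa hCr hP₁C
  have hgN := hg.mono (le_inf hN₁C inf_le_right)
  obtain ⟨hN₂, hn₂⟩ := normalized_img hn₁ hgN
  have hr₂ := hr₁.map hn₁.1 hgN hN₂
  have himg : img P₁ g = img P₁ (autFun δ) := IsMap.img_congr fun x hx => hgδ x (hP₁C hx)
  have hC₂ : rad T (img P₁ g) = C := by
    rw [← img_rad_eq h hn₁ hgN, hC₁, IsMap.img_congr hgδ, img_autFun]
  have hconj₂ : (prodSys h).IsConj P (img P₁ g) :=
    isConj_trans hconj₁ (isConj_iff.2 ⟨g, hgN.mono (le_normalizerIn hn₁.1), rfl⟩)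
  rw [himg] at hn₂ hr₂ hC₂ hconj₂
  set P₂ := img P₁ (autFun δ)
  have c₂ : Cls h P₂ := ⟨hn₂.1, c.qs_of hconj₂, c.not_T_le hconj₂,
    fun Q R hQ => c.sat Q R (isConj_trans hconj₂ hQ), hn₂⟩
  refine ⟨P₂, hconj₂, ?_⟩
  have hP₂ := hn₂.1
  have hCS : C ≤ S := hCa.1
  have hN : normalizerIn S P₂ ≤ normalizerIn S C := hC₂ ▸ normalizerIn_le_rad h hP₂
  haveI := finite_of_le hCS
  haveI := finite_mulAut (P := C)
  haveI := finite_mulAut (P := P₂)
  set K := autStab ((prodSys h).autGroup C) P₂ hP₂C with hK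
  set res := autRes ((prodSys h).autGroup C) P₂ hP₂C with hres
  set TK := (autInducedBy S C).subgroupOf K with hTdef
  have hTi : ¬ p ∣ TK.index := by
    have e : TK.index = (autInducedBy S C ⊓ K).relIndex K := by
      rw [Subgroup.inf_relIndex_right]; rfl
    rwa [e]
  set Ext := extT h P₂ hP₂
  set A := aZero h P₂
  set U := autInducedBy S P₂
  have hresE : ∀ k : K, res k ∈ Ext := fun k =>
    ⟨autFun (k : MulAut C), by rw [hC₂]; exact (mem_autGroup_iff hCS).1 k.2.1,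
      fun x hx => (autFun_autRes k hx).symm⟩
  have hlift : ∀ α ∈ Ext, ∃ k : K, res k = α := by
    intro α hα
    obtain ⟨ψ, hψ, hψα⟩ := hα
    have hi : img P₂ ψ = P₂ := (IsMap.img_congr hψα).trans (img_autFun α)
    have hR := img_rad h hP₂ (isMap_F_of_prod h hψ) hi
    rw [hC₂] at hψ hR
    have hkK : autOf hψ hR ∈ K := ⟨autOf_mem hψ hR, fun x hx => by
      rw [autFun_autOf hψ hR (hP₂C hx), hψα x hx]
      exact autFun_mem α hx⟩
    refine ⟨⟨_, hkK⟩, autFun_ext fun x hx => ?_⟩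
    rw [autFun_autRes _ hx, autFun_autOf hψ hR (hP₂C hx), hψα x hx]
  have hconjK : ∀ (n : Ω) (_ : n ∈ normalizerIn S P₂), ∃ t ∈ TK, ∀ x ∈ C,
      autFun (t : MulAut C) x = n * x * n⁻¹ := by
    intro n hn
    refine ⟨⟨conjAut n (hN hn).2, autInducedBy_le_autGroup hCS (conjAut_mem hn.1 (hN hn).2),
      fun x hx => ?_⟩, Subgroup.mem_subgroupOf.2 (conjAut_mem hn.1 (hN hn).2),
      fun x hx => autFun_conjAut _ hx⟩
    rw [autFun_conjAut _ (hP₂C hx)]
    exact (Subgroup.mem_normalizer_iff.1 hn.2 x).1 hx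
  have hTres : ∀ t ∈ TK, res t ∈ U := by
    intro t ht
    obtain ⟨u, hu, hux⟩ := mem_autInducedBy_iff.1 (Subgroup.mem_subgroupOf.1 ht)
    exact mem_autInducedBy_iff.2 ⟨u, hu, fun x hx => by
      rw [autFun_autRes _ hx, hux x (hP₂C hx)]⟩
  have hUE : U ≤ Ext := extT_conj_mem hP₂
  have hrange : res.range = Ext := le_antisymm (fun a ⟨k, hk⟩ => hk ▸ hresE k) fun a ha => hlift a ha
  have hUi : ¬ p ∣ U.relIndex Ext := fun hd => hTi (hd.trans (by
    rw [← hrange, MonoidHom.range_eq_map, ← Subgroup.relIndex_comap, Subgroup.relIndex_top_right]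
    exact Subgroup.index_dvd_of_le fun t ht => hTres t ht))
  have hnA : Ext ≤ Subgroup.normalizer (A : Set (MulAut P₂)) := fun e he => by
    obtain ⟨ψ, hψ, hψe⟩ := he
    have heF : e ∈ F.autGroup P₂ := (mem_autGroup_iff hP₂).2
      (((isMap_F_of_prod h hψ).mono le_sup_left).congr fun x hx => (hψe x hx).symm)
    refine Subgroup.mem_normalizer_iff.2 fun a => ⟨aZero_conj hP₂ heF, fun ha => ?_⟩
    have h1 := aZero_conj hP₂ (inv_mem heF) ha
    rwa [show e⁻¹ * (e * a * e⁻¹) * e⁻¹⁻¹ = a by group] at h1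
  have hAut : (prodSys h).autGroup P₂ = A ⊔ Ext := by
    refine le_antisymm c₂.autGroup_le (sup_le (aZero_le hP₂ c₂.qs) fun e he => ?_)
    obtain ⟨ψ, hψ, hψe⟩ := he
    exact (mem_autGroup_iff hP₂).2 ((hψ.mono le_sup_left).congr fun x hx => (hψe x hx).symm)
  constructor
  · -- fully automized
    refine (isFullyAutomized_iff hS).2 ⟨hP₂, fun hd => ?_⟩
    rw [hAut, ← Subgroup.relIndex_mul_relIndex U Ext (A ⊔ Ext) hUE le_sup_right,
      relIndex_sup_of_le_normalizer hnA] at hd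
    rcases (Fact.out : p.Prime).dvd_mul.1 hd with hd | hd
    · exact hUi hd
    · exact hr₂.index (hd.trans (Subgroup.relIndex_dvd_of_le_left _ (inf_le_left.trans hUE)))
  · -- receptive
    refine isReceptive_iff.2 ⟨hP₂, fun Y f hf hfimg => ?_⟩
    have hY : (prodSys h).IsConj P₂ Y := isConj_symm (isConj_iff.2 ⟨f, hf, hfimg⟩)
    obtain ⟨ht, htP⟩ := c₂.toP_spec hY
    set t := FamilySat.toP (prodSys h) P₂ Y
    have hYN := le_normalizerIn (S := S) (isConj_le hY).2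
    obtain ⟨t', ht', ht'1, -⟩ := (ht.mono hYN).exists_inv
    rw [htP] at ht'
    have ht'2 : ∀ y ∈ P₂, t' y ∈ Y := fun y hy => by
      obtain ⟨x, hx, rfl⟩ := (ht.mono hYN).mem_img.1 (htP.ge hy)
      rwa [ht'1 x hx]
    have hαm : IsMap (prodSys h) P₂ (f ∘ t') := ht'.comp hf ht'2
    have hαi : img P₂ (f ∘ t') = P₂ := img_eq_of_map_le hP₂ hαm le_rfl fun y hy =>
      hfimg.le (hf.mem_img.2 ⟨_, ht'2 y hy, rfl⟩)
    set α := autOf hαm hαi with hα
    have hαe : ∀ x ∈ P₂, autFun α x = f (t' x) := fun x hx => autFun_autOf hαm hαi hx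
    obtain ⟨β, hβ, a, ha, hβa⟩ : ∃ β ∈ Ext, ∃ a ∈ A, α = β * a := by
      have h1 : α ∈ ((Ext ⊔ A : Subgroup (MulAut P₂)) : Set (MulAut P₂)) := by
        rw [sup_comm, ← hAut]; exact autOf_mem hαm hαi
      rw [coe_mul_of_left_le_normalizer_right Ext A hnA] at h1
      obtain ⟨β, hβ, a, ha, e⟩ := Set.mem_mul.1 h1
      exact ⟨β, hβ, a, ha, e.symm⟩
    set E₁ := extSub S P₂ (autFun α) with hE₁
    set AX := autInducedBy E₁ P₂ with hAX
    have hAXU : AX ≤ U := autInducedBy_mono (extSub_le.trans inf_le_left)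
    have hαAX : ∀ b ∈ AX, α * b * α⁻¹ ∈ U := fun b hb => by
      obtain ⟨z, hz, hzb⟩ := mem_autInducedBy_iff.1 hb
      obtain ⟨hzN, w, hw, hwz⟩ := mem_extSub.1 hz
      refine mem_autInducedBy_iff.2 ⟨w, hw, fun y hy => ?_⟩
      have hy' := autFun_mem α⁻¹ hy
      rw [autFun_mul _ _ hy, autFun_mul _ _ hy', hzb _ hy', hwz _ hy', PPrime.autFun_symm' hy]
    set N₀ := A ⊓ Ext with hN₀
    have hN₀n : ∀ e ∈ Ext, ∀ n ∈ N₀, e * n * e⁻¹ ∈ N₀ := fun e he n hn =>
      Subgroup.mem_inf.2 ⟨(Subgroup.mem_normalizer_iff.1 (hnA he) n).1 hn.1,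
        mul_mem (mul_mem he hn.2) (inv_mem he)⟩
    have hEN : Ext ≤ Subgroup.normalizer (N₀ : Set (MulAut P₂)) := fun e he =>
      Subgroup.mem_normalizer_iff.2 fun n => ⟨hN₀n e he n, fun hn => by
        have h1 := hN₀n e⁻¹ (inv_mem he) _ hn
        rwa [show e⁻¹ * (e * n * e⁻¹) * e⁻¹⁻¹ = n by group] at h1⟩
    set H' := (U ⊓ N₀) ⊔ AX with hH'
    have hH'U : H' ≤ U := sup_le inf_le_left hAXU
    have hW : N₀ ⊔ H' = N₀ ⊔ AX := by
      rw [hH', ← sup_assoc, sup_eq_left.2 (inf_le_right : U ⊓ N₀ ≤ N₀)]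
    have hH'i : ¬ p ∣ H'.relIndex (N₀ ⊔ H') := by
      rw [relIndex_sup_of_le_normalizer (hH'U.trans (hUE.trans hEN))]
      exact fun hd => not_dvd_inf_of_normalized (isPGroup_autInducedBy hS) hUE hUi inf_le_right
        hN₀n (hd.trans (Subgroup.relIndex_dvd_of_le_left _ le_sup_left))
    have haX : conjBy a AX ≤ N₀ ⊔ H' := conjBy_le_iff.2 fun b hb => by
      have hbE := hUE (hAXU hb)
      have h1 : a * b * a⁻¹ ∈ Ext := by
        rw [show a * b * a⁻¹ = β⁻¹ * (α * b * α⁻¹) * β by rw [hβa]; group]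
        exact mul_mem (mul_mem (inv_mem hβ) (hUE (hαAX b hb))) hβ
      have h2 : a * b * a⁻¹ * b⁻¹ ∈ N₀ := by
        refine Subgroup.mem_inf.2 ⟨?_, mul_mem h1 (inv_mem hbE)⟩
        rw [show a * b * a⁻¹ * b⁻¹ = a * (b * a⁻¹ * b⁻¹) by group]
        exact mul_mem ha ((Subgroup.mem_normalizer_iff.1 (hnA hbE) _).1 (inv_mem ha))
      have h3 := mul_mem (Subgroup.mem_sup_left (T := H') h2)
        (Subgroup.mem_sup_right (S := N₀) (Subgroup.mem_sup_right hb))
      rwa [inv_mul_cancel_right] at h3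
    obtain ⟨e, he, heX⟩ := exists_conj_le_of_not_dvd_relIndex
      ((isPGroup_autInducedBy hS).to_le hH'U) le_sup_right hH'i
      (isPGroup_conjBy a ((isPGroup_autInducedBy hS).to_le hAXU)) haX
    rw [hW, sup_comm, ← SetLike.mem_coe, coe_mul_of_left_le_normalizer_right AX N₀
      (hAXU.trans (hUE.trans hEN))] at he
    obtain ⟨x₀, hx₀, n, hn, rfl⟩ := Set.mem_mul.1 he
    set a' := n * a with ha'
    set β' := β * n⁻¹ with hβ'
    have ha'A : a' ∈ A := mul_mem hn.1 ha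
    have hβ'E : β' ∈ Ext := mul_mem hβ (inv_mem hn.2)
    have hαe' : α = β' * a' := by rw [hβa, ha', hβ']; group
    have ha'U : ∀ b ∈ AX, a' * b * a'⁻¹ ∈ U := fun b hb => by
      have h1 := hH'U (heX (conj_mem_conjBy (g := x₀ * n) (conj_mem_conjBy (g := a) hb)))
      have h2 := mul_mem (mul_mem (inv_mem (hAXU hx₀)) h1) (hAXU hx₀)
      convert h2 using 1
      rw [ha']
      group
    have hPE : P₂ ≤ E₁ := le_extSub ((mem_autGroup_iff hP₂).1 (autOf_mem hαm hαi))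
    obtain ⟨f₁, hf₁, hf₁e⟩ := hr₂.ext a' ha'A E₁ hPE extSub_le fun z hz => by
      have hzN := (mem_extSub.1 hz).1
      obtain ⟨m, hm, hme⟩ := mem_autInducedBy_iff.1 (ha'U _ (conjAut_mem hz hzN.2))
      refine ⟨m, ⟨hm, mem_normalizer_of_autFun hme⟩, fun x hx => ?_⟩
      rw [← hme _ (autFun_mem a' hx), ← autFun_mul _ _ hx, inv_mul_cancel_right,
        autFun_mul _ _ hx, autFun_conjAut hzN.2 hx]
    have hf₁P : img P₂ f₁ = P₂ := (IsMap.img_congr hf₁e).trans (img_autFun a')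
    -- extend the second factor
    obtain ⟨k, hk⟩ := hlift β' hβ'E
    set E₂ := extSub S P₂ (autFun β') with hE₂
    set T₁ := TK ⊓ ((autInducedBy E₂ C).subgroupOf K)
    set W := U.comap res with hWdef
    have hTW : TK ≤ W := fun b hb => hTres b hb
    have hTWi : ¬ p ∣ TK.relIndex W := fun hd => hTi (hd.trans
      (Subgroup.relIndex_dvd_index_of_le hTW))
    have hk₁ : conjBy k T₁ ≤ W := conjBy_le_iff.2 fun b hb => by
      obtain ⟨u, hu, hux⟩ := mem_autInducedBy_iff.1 (Subgroup.mem_subgroupOf.1 hb.2)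
      obtain ⟨hu1, w, hw, hwx⟩ := mem_extSub.1 hu
      refine mem_autInducedBy_iff.2 ⟨w, hw, fun y hy => ?_⟩
      have hy' := autFun_mem β'⁻¹ hy
      rw [map_mul, map_mul, map_inv, hk, autFun_mul _ _ hy, autFun_mul _ _ hy',
        autFun_autRes b hy', hux _ (hP₂C hy'), hwx _ hy', PPrime.autFun_symm' hy]
    have hTp : IsPGroup p TK := (isPGroup_autInducedBy hS).comap_subtype
    obtain ⟨y₀, hy₀, hyT⟩ := exists_conj_le_of_not_dvd_relIndex hTp hTW hTWi
      (isPGroup_conjBy k (hTp.to_le inf_le_left)) hk₁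
    rw [conjBy_conjBy] at hyT
    obtain ⟨u, hu, hux⟩ := mem_autInducedBy_iff.1 (Subgroup.mem_comap.1 hy₀)
    obtain ⟨s, hsT, hsx⟩ := hconjK u ⟨hu, mem_normalizer_of_autFun hux⟩
    have hres_eq : res (s⁻¹ * y₀) = 1 := by
      rw [map_mul, map_inv, inv_mul_eq_one]
      refine autFun_ext fun x hx => ?_
      rw [autFun_autRes s hx, hsx x (hP₂C hx), hux x hx]
    set k' := s⁻¹ * y₀ * k with hk'
    have hk'T : ∀ b ∈ T₁, k' * b * k'⁻¹ ∈ TK := fun b hb => by
      have h1 := mul_mem (mul_mem (inv_mem hsT) (hyT (conj_mem_conjBy hb))) hsT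
      rw [show k' * b * k'⁻¹ = s⁻¹ * (y₀ * k * b * (y₀ * k)⁻¹) * s by rw [hk']; group]
      exact h1
    have hk'β : ∀ x ∈ P₂, autFun (k' : MulAut C) x = autFun β' x := fun x hx => by
      have e1 : res k' = res k := by rw [hk', map_mul, hres_eq, one_mul]
      rw [← autFun_autRes k' hx, e1, hk]
    have hE₂N : E₂ ≤ normalizerIn S C := fun e he => hN (extSub_le he)
    obtain ⟨ψ, hψ, hψe⟩ := exists_ext hCr k'.2.1 hE₂N fun e he => by
      obtain ⟨b, hbT, hbx⟩ := hconjK e (extSub_le he)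
      have hb₁ : b ∈ T₁ := ⟨hbT, Subgroup.mem_subgroupOf.2
        (mem_autInducedBy_iff.2 ⟨e, he, hbx⟩)⟩
      have h1 := Subgroup.mem_subgroupOf.1 (hk'T b hb₁)
      rwa [Subgroup.coe_mul, Subgroup.coe_mul, Subgroup.coe_inv,
        show (b : MulAut C) = conjAut e (hE₂N he).2 from autFun_ext fun x hx => by
          rw [hbx x hx, autFun_conjAut _ hx]] at h1
    -- the composite
    have hf₁E : ∀ z ∈ E₁, f₁ z ∈ E₂ := fun z hz => by
      obtain ⟨hzN, w, hw, hwz⟩ := mem_extSub.1 hz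
      have hfz := map_mem_normalizerIn hf₁ hPE hz hzN.2
      rw [hf₁P] at hfz
      refine ⟨hfz, w, hw, fun y hy => ?_⟩
      obtain ⟨x, hx, rfl⟩ := (hf₁.mono hPE).mem_img.1 (hf₁P.ge hy)
      have hzx := (Subgroup.mem_normalizer_iff.1 hzN.2 x).1 hx
      rw [← hf₁.map_conj hz (hPE hx), hf₁e _ hzx, hf₁e x hx, ← autFun_mul _ _ hzx, ← hαe',
        ← autFun_mul _ _ hx, ← hαe']
      exact hwz x hx
    have hcomp : IsMap (prodSys h) E₁ (ψ ∘ f₁) := hf₁.comp hψ hf₁E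
    refine ⟨(ψ ∘ f₁) ∘ t, (ht.mono extSub_le).comp hcomp fun e he => ?_, fun x hx => ?_⟩
    · obtain ⟨heN, w, hw, hwx⟩ := mem_extSub.1 he
      have h1 := map_mem_normalizerIn ht hYN heN heN.2
      rw [htP] at h1
      refine ⟨h1, w, hw, fun y hy => ?_⟩
      obtain ⟨x, hx, rfl⟩ := (ht.mono hYN).mem_img.1 (htP.ge hy)
      have hxe : e * x * e⁻¹ ∈ Y := (Subgroup.mem_normalizer_iff.1 heN.2 x).1 hx
      have htx : t x ∈ P₂ := hy
      have hte : t e * t x * (t e)⁻¹ ∈ P₂ := (Subgroup.mem_normalizer_iff.1 h1.2 _).1 htx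
      rw [hαe _ hte, hαe _ htx, ← ht.map_conj heN (hYN hx), ht'1 _ hxe, ht'1 x hx, hwx x hx]
    · have htx : t x ∈ P₂ := htP.le ((ht.mono hYN).mem_img.2 ⟨x, hx, rfl⟩)
      show ψ (f₁ (t x)) = f x
      rw [hf₁e _ htx, hψe _ (hP₂C (autFun_mem a' htx)), hk'β _ (autFun_mem a' htx),
        ← autFun_mul _ _ htx, ← hαe', hαe _ htx, ht'1 x hx]

/-- The classes with self-centralizing part in `T` are saturated. -/
theorem satAt_prod (hE : E.IsNormalIn F p) : ∀ (m : ℕ) (P : Subgroup Ω), P ≤ S →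
    SelfC F T (P ⊓ T) →
    (Nat.card S + 1) * (Nat.card T - Nat.card (P ⊓ T : Subgroup Ω)) +
      (Nat.card S - Nat.card P) = m →
    SatAt (prodSys h) p P := by
  intro m
  induction m using Nat.strong_induction_on with
  | _ m ih =>
  intro P hP hPs hm
  subst hm
  by_cases hTP : T ≤ P
  · exact satAt_top hE hP hTP
  have hTcard : ∀ Y : Subgroup Ω, Nat.card (Y ⊓ T : Subgroup Ω) ≤ Nat.card T :=
    fun Y => card_le_of_le' h.hTS inf_le_right
  have hsat : ∀ Y ≤ S, SelfC F T (Y ⊓ T) →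
      Nat.card (P ⊓ T : Subgroup Ω) < Nat.card (Y ⊓ T : Subgroup Ω) → SatAt (prodSys h) p Y := by
    intro Y hY hYs hlt
    refine ih _ ?_ Y hY hYs rfl
    have h1 := hTcard Y
    have h2 : (Nat.card S + 1) * (Nat.card T - Nat.card (Y ⊓ T : Subgroup Ω) + 1) ≤
        (Nat.card S + 1) * (Nat.card T - Nat.card (P ⊓ T : Subgroup Ω)) :=
      Nat.mul_le_mul_left _ (by omega)
    rw [mul_add, mul_one] at h2
    omega
  obtain ⟨P₀, hPP₀, hP₀⟩ := exists_fullyNormalized (F := prodSys h) hP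
  have hcard : ∀ {Y : Subgroup Ω}, (prodSys h).IsConj P Y →
      Nat.card (Y ⊓ T : Subgroup Ω) = Nat.card (P ⊓ T : Subgroup Ω) ∧ SelfC F T (Y ⊓ T) := by
    intro Y hY
    obtain ⟨g, hg, rfl⟩ := isConj_iff.1 hY
    have hgF := isMap_F_of_prod h hg
    rw [img_inf_T h hgF]
    exact ⟨(hgF.mono inf_le_left).card_img, hPs.map h.closed (hgF.mono inf_le_left)⟩
  obtain ⟨hc₀, hs₀⟩ := hcard hPP₀
  obtain ⟨ψ, hψ, hψm⟩ := exists_top hE hs₀ fun Y hY hYs hlt => hsat Y hY hYs (hc₀ ▸ hlt)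
  have hN₀ : normalizerIn S P₀ ≤ normalizerIn S (P₀ ⊓ T) := fun n hn => ⟨hn.1,
    Subgroup.mem_normalizer_iff.2 fun y => and_congr (Subgroup.mem_normalizer_iff.1 hn.2 y)
      (Subgroup.mem_normalizer_iff.1 (h.normal hn.1) y)⟩
  have hψN := hψ.mono hN₀
  have hPN₀ := le_normalizerIn (S := S) hP₀.1
  obtain ⟨-, hn₁⟩ := normalized_img hP₀ hψN
  set P₁ := img P₀ ψ with hP₁
  have hPP₁ : (prodSys h).IsConj P P₁ :=
    isConj_trans hPP₀ (isConj_iff.2 ⟨ψ, hψN.mono hPN₀, rfl⟩)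
  have hQ : P₁ ⊓ T = img (P₀ ⊓ T) ψ := img_inf_T h (isMap_F_of_prod h (hψN.mono hPN₀))
  set Q := img (P₀ ⊓ T) ψ with hQdef
  have hQs : SelfC F T Q := hQ ▸ (hcard hPP₁).2
  obtain ⟨D⟩ := exists_loc (h := h) hQs hψm
  have hP₁N : P₁ ≤ normalizerIn S Q := fun x hx => ⟨hn₁.1 hx, hQ ▸ Subgroup.mem_normalizer_iff.2
    fun y => and_congr (Subgroup.mem_normalizer_iff.1 (Subgroup.le_normalizer hx) y)
      (Subgroup.mem_normalizer_iff.1 (h.normal (hn₁.1 hx)) y)⟩
  have hQP₁ : Q ≤ P₁ := hQ ▸ inf_le_left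
  obtain ⟨l, hl, k, hk, hkn, hke, hQk, hkN, hs⟩ := D.exists_syl hQP₁ hP₁N
  have hPn := Loc.le_nn (S := S) (Q := Q) hP₁N
  obtain ⟨k', hk', hk'N, hk'e⟩ := D.gives hE (hQP₁.trans hPn) inf_le_left hl
    fun x hx => hke x hx ▸ D.τ_mem_U (hkn x hx).1
  have hkk : ∀ x ∈ Loc.nn S Q P₁, k' x = k x := fun x hx =>
    D.τ_inj (hk'N x hx) (hkn x hx).1 (by rw [hk'e x hx, hke x hx])
  have hk'' : IsMap (prodSys h) (normalizerIn S P₁) k :=
    (nn_eq h hQ) ▸ (hk'.congr fun x hx => (hkk x hx).symm)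
  obtain ⟨-, hn₂⟩ := normalized_img hn₁ hk''
  set P₂ := img P₁ k
  have hPP₂ : (prodSys h).IsConj P P₂ := isConj_trans hPP₁
    (isConj_iff.2 ⟨k, hk''.mono (le_normalizerIn hn₁.1), rfl⟩)
  obtain ⟨hc₂, hs₂⟩ := hcard hPP₂
  have hQ₂ : P₂ ⊓ T = Q := by
    refine (eq_of_le_of_card_le (inf_le_right.trans h.hTS) (le_inf hQk hQs.le) ?_).symm
    rw [hc₂, ← (hcard hPP₁).1, hQ]
  have c : Cls h P₂ := by
    refine ⟨hn₂.1, hs₂, fun hT => hTP ?_, fun Y R hY hlt hR => ?_, hn₂⟩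
    · have h1 : Nat.card (P ⊓ T : Subgroup Ω) = Nat.card T := by
        rw [← hc₂, inf_eq_right.2 hT]
      exact inf_eq_right.1 (eq_of_le_of_card_le h.hTS inf_le_right h1.ge)
    · obtain ⟨hcY, hsY⟩ := hcard (isConj_trans hPP₂ hY)
      have hsR : SelfC F T (R ⊓ T) := hsY.mono (inf_le_inf_right T hlt.le) inf_le_right
      refine ih _ ?_ R hR hsR rfl
      have h1 := card_le_of_le' (inf_le_right.trans h.hTS : R ⊓ T ≤ S) (inf_le_inf_right T hlt.le)
      have h2 := card_lt_of_lt hR hlt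
      rw [isConj_card (isConj_trans hPP₂ hY)] at h2
      have h3 : (Nat.card S + 1) * (Nat.card T - Nat.card (R ⊓ T : Subgroup Ω)) ≤
          (Nat.card S + 1) * (Nat.card T - Nat.card (P ⊓ T : Subgroup Ω)) :=
        Nat.mul_le_mul_left _ (by omega)
      have h4 : Nat.card R ≤ Nat.card S := card_le_of_le' le_rfl hR
      omega
  obtain ⟨R, hR, hR'⟩ := satAt_of_rich c (rich_of_syl hE hQ₂ D hkN hs)
  exact ⟨R, isConj_trans hPP₂ hR, hR'⟩

/-- The product is saturated. -/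
theorem isSaturated_prodSys (hE : E.IsNormalIn F p) : (prodSys h).IsSaturated p := by
  refine FamilySat.isSaturated_of_family (ℋ := {P | P ≤ S ∧ SelfC F T (P ⊓ T)}) h.pgroup
    (fun R hR R' hRR' => ?_) (fun R hR => satAt_prod hE _ R hR.1 hR.2 rfl) (fun E' hE' => ?_)
    fun P hP hPm => ?_
  · obtain ⟨g, hg, rfl⟩ := isConj_iff.1 hRR'
    refine ⟨hg.img_le, ?_⟩
    rw [img_inf_T h (isMap_F_of_prod h hg)]
    exact hR.2.map h.closed ((isMap_F_of_prod h hg).mono inf_le_left)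
  · intro P φ hφ
    have key : ∀ {U : Subgroup Ω} {f : Ω → Ω}, PrMap h U f → IsMap E' U f := by
      intro U f hf
      induction hf with
      | conj hU hs => exact isMap_conj hU hs
      | @gen R U a hR hs ha hco hle =>
        obtain ⟨φ, hφ, hφa⟩ := (mem_autGroup_iff hR).1 (gen_mem_autGroup h hR hs ha hco)
        exact (show IsMap E' R (autFun a) from ⟨φ, hE' R ⟨hR, hs⟩ hφ, hφa⟩).mono hle
      | comp _ _ hm h1 h2 => exact h1.comp h2 hm
      | congr _ he h1 => exact h1.congr he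
    exact mem_hom_iff.2 (key ((isMap_prodSys h).1 (isMap_toFun hφ)))
  have hPs : ¬ SelfC F T (P ⊓ T) := fun hs => hPm ⟨hP, hs⟩
  obtain ⟨φ, hφ, hφc⟩ := exists_notCentric hE
    (fun Y hY hYs => satAt_prod hE _ Y hY hYs rfl) inf_le_right hPs
  have hPN : P ≤ normalizerIn S (P ⊓ T) := fun x hx => ⟨hP hx,
    Subgroup.mem_normalizer_iff.2 fun y => and_congr
      (Subgroup.mem_normalizer_iff.1 (Subgroup.le_normalizer hx) y)
      (Subgroup.mem_normalizer_iff.1 (h.normal (hP hx)) y)⟩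
  have hφP := hφ.mono hPN
  refine ⟨img P φ, isConj_iff.2 ⟨φ, hφP, rfl⟩, ?_⟩
  rw [← img_inf_T h (isMap_F_of_prod h hφP)] at hφc
  set P' := img P φ
  have hP' : P' ≤ S := hφP.img_le
  set Z := centralizerIn T (P' ⊓ T) with hZ
  have hPZ : P' ≤ Subgroup.normalizer (Z : Set Ω) := fun x hx => by
    have key : ∀ y ∈ P', ∀ z ∈ Z, y * z * y⁻¹ ∈ Z := fun y hy z hz => by
      refine ⟨(Subgroup.mem_normalizer_iff.1 (h.normal (hP' hy)) z).1 hz.1,
        Subgroup.mem_centralizer_iff.2 fun v hv => ?_⟩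
      have hv' : y⁻¹ * v * y ∈ P' ⊓ T := by
        refine Subgroup.mem_inf.2 ⟨mul_mem (mul_mem (inv_mem hy) hv.1) hy, ?_⟩
        have := (Subgroup.mem_normalizer_iff.1 (h.normal (inv_mem (hP' hy))) v).1 hv.2
        simpa using this
      have h1 := Subgroup.mem_centralizer_iff.1 hz.2 _ hv'
      calc v * (y * z * y⁻¹) = y * (y⁻¹ * v * y * z) * y⁻¹ := by group
        _ = y * z * y⁻¹ * v := by rw [h1]; group
    refine Subgroup.mem_normalizer_iff.2 fun z => ⟨key x hx z, fun hz => ?_⟩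
    have h1 := key x⁻¹ (inv_mem hx) _ hz
    rwa [show x⁻¹ * (x * z * x⁻¹) * x⁻¹⁻¹ = z by group] at h1
  have hB : P' ⊔ Z ≤ S := sup_le hP' (inf_le_left.trans h.hTS)
  haveI := finite_of_le hB
  haveI : Group.IsNilpotent ↥(P' ⊔ Z) := (h.pgroup.to_le hB).isNilpotent
  have hne : P' ≠ P' ⊔ Z := fun e => hφc fun z hz =>
    ⟨e.ge (Subgroup.mem_sup_right hz), hz.1⟩
  obtain ⟨w, hw, hwP⟩ := SetLike.exists_of_lt (lt_inf_normalizer le_sup_left hne)
  have hw' : w ∈ ((P' ⊔ Z : Subgroup Ω) : Set Ω) := hw.1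
  rw [coe_mul_of_left_le_normalizer_right P' Z hPZ] at hw'
  obtain ⟨u, hu, n, hn, rfl⟩ := Set.mem_mul.1 hw'
  have hnN : n ∈ Subgroup.normalizer (P' : Set Ω) := by
    have h1 := mul_mem (inv_mem (Subgroup.le_normalizer hu)) hw.2
    rwa [inv_mul_cancel_left] at h1
  have hnS : n ∈ normalizerIn S P' := ⟨h.hTS hn.1, hnN⟩
  refine ⟨n, ⟨hnS, conjAut n hnN, ?_, fun x hx => autFun_conjAut hnN hx⟩,
    fun hnP => hwP (mul_mem hu hnP)⟩
  -- the elements fixing `P' ∩ T` and moving `P'` inside `T`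
  set G := (prodSys h).autGroup P'
  have hGF : ∀ {b : MulAut P'}, b ∈ G → b ∈ F.autGroup P' := fun hb =>
    (mem_autGroup_iff hP').2 (isMap_F_of_prod h ((mem_autGroup_iff hP').1 hb))
  set Δ := (delta h P').subgroupOf G
  haveI : Δ.Normal := ⟨fun d hd g => Subgroup.mem_subgroupOf.2
    (delta_conj hP' (hGF g.2) (Subgroup.mem_subgroupOf.1 hd))⟩
  haveI := finite_of_le hP'
  haveI := finite_mulAut (P := P')
  have hΔp : IsPGroup p Δ := (delta_isPGroup hP').comap_subtype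
  have hnG : conjAut n hnN ∈ G := autInducedBy_le_autGroup hP' (conjAut_mem hnS.1 hnN)
  refine ⟨⟨_, hnG⟩, CfsgLib.Coprime.le_pCore hΔp (Subgroup.mem_subgroupOf.2
    ⟨hGF hnG, fun x hx => ?_, fun x hx => ?_⟩), rfl⟩
  · rw [autFun_conjAut hnN hx.1]
    have h1 := Subgroup.mem_centralizer_iff.1 hn.2 x hx
    rw [← h1]
    group
  · rw [autFun_conjAut hnN hx, show x⁻¹ * (n * x * n⁻¹) = x⁻¹ * n * x⁻¹⁻¹ * n⁻¹ by group]
    exact T.mul_mem ((Subgroup.mem_normalizer_iff.1 (h.normal (inv_mem (hP' hx))) n).1 hn.1)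
      (T.inv_mem hn.1)

end CfsgLib.Fusion.Product
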