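import Cfsg.Agent.Lib.Fusion.System.Meet.ProductHyper
import Cfsg.Agent.Lib.Fusion.System.Meet.ProductSaturated
import Cfsg.Agent.Lib.Fusion.System.PPowerNormal

/-!
# Subsystems with the residual of `E`

`Cand h G`: a saturated subsystem over some `U ≥ T` with the hyperfocal subgroup `H` of `E` and the
same maps with a chain with value in `H`. Any two of them over comparable subgroups are comparable.
-/

set_option autoImplicit false
set_option maxHeartbeats 1000000
set_option linter.style.haveILetI false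
set_option linter.unusedSectionVars false

open Subgroup
open scoped Classical Pointwise

namespace CfsgLib.Fusion.Product

open Cfsg (FusionSystem autInducedBy)
open Cfsg.FusionSystem (normalizerIn centralizerIn)
open CfsgLib.Fusion CfsgLib.Fusion.CentLift CfsgLib.Fusion.Meet

universe u

variable {Ω : Type u} [Group Ω] {S T U U' K : Subgroup Ω} {F : FusionSystem S} {p : ℕ}
  {E : FusionSystem T} {G : FusionSystem U} {G' : FusionSystem U'} {P Q R X V : Subgroup Ω}
  {f g : Ω → Ω} [Finite S] [Fact p.Prime]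

theorem exists_restrict (hVX : V ≤ X) (hXS : X ≤ S) {b : MulAut X} (hm : IsMap G V (autFun b))
    (hi : img V (autFun b) = V) (hco : (orderOf b).Coprime p) :
    ∃ c ∈ G.autGroup V, (orderOf c).Coprime p ∧ ∀ x ∈ V, autFun c x = autFun b x := by
  haveI := finite_of_le hXS
  refine ⟨autOf hm hi, autOf_mem hm hi, Nat.Coprime.coprime_dvd_left
    (orderOf_dvd_of_pow_eq_one (autFun_ext fun x hx => ?_)) hco, fun x hx => autFun_autOf hm hi hx⟩
  rw [← autFun_pow_agree hVX (fun y hy => (autFun_autOf hm hi hy).symm) _ x hx, pow_orderOf_eq_one,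
    autFun_one (hVX hx), autFun_one hx]

theorem img_inf_of_closed
    (hK : ∀ (R : Subgroup Ω) (f : Ω → Ω), IsMap G R f → ∀ x ∈ R, x ∈ K → f x ∈ K)
    (hf : IsMap G P f) : img P f ⊓ K = img (P ⊓ K) f := by
  refine le_antisymm (fun y hy => ?_) fun y hy => ?_
  · obtain ⟨x, hx, rfl⟩ := hf.mem_img.1 hy.1
    obtain ⟨f', hf', h1, -⟩ := hf.exists_inv
    have h2 := hK _ _ hf' _ hy.1 hy.2
    rw [h1 x hx] at h2
    exact (hf.mono inf_le_left).mem_img.2 ⟨x, Subgroup.mem_inf.2 ⟨hx, h2⟩, rfl⟩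
  · obtain ⟨x, hx, rfl⟩ := (hf.mono inf_le_left).mem_img.1 hy
    exact Subgroup.mem_inf.2 ⟨hf.mem_img.2 ⟨x, hx.1, rfl⟩, hK _ _ hf _ hx.1 hx.2⟩

theorem hyperfocal_le_of_sub (hG : G.IsSubsystemOf F) (hUS : U ≤ S) :
    G.hyperfocalSubgroup p ≤ F.hyperfocalSubgroup p := by
  refine (Subgroup.closure_le _).2 ?_
  rintro y ⟨P, α, x, hP, hα, rfl⟩
  obtain ⟨β, hβ, hβe⟩ := residual_of_subsystem hG hUS hP hα
  have h1 := mem_hyperfocal (hP.trans hUS) hβ x.2
  rw [hβe, autFun_coe] at h1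
  exact h1

/-- A saturated subsystem with the residual of `E`. -/
structure Cand (F : FusionSystem S) (p : ℕ) (E : FusionSystem T) (G : FusionSystem U) : Prop where
  le : U ≤ S
  hT : T ≤ U
  sat : G.IsSaturated p
  sub : G.IsSubsystemOf F
  hyp : G.hyperfocalSubgroup p = E.hyperfocalSubgroup p
  res : ∀ P f, PMap G p (E.hyperfocalSubgroup p) P f ↔ PMap E p (E.hyperfocalSubgroup p) P f

theorem cand_self (h : Setup F p E E T) : Cand F p E E :=
  ⟨h.hTS, le_rfl, h.side₁.sat, h.side₁.sub, rfl, fun _ _ => Iff.rfl⟩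

theorem Cand.hH (c : Cand F p E G) : E.hyperfocalSubgroup p ≤ U :=
  le_trans hyperfocal_le_S c.hT

theorem Cand.mem_of_coprime (c : Cand F p E G)
    (c' : Cand F p E G') (hV : V ≤ E.hyperfocalSubgroup p) {b : MulAut V}
    (hb : b ∈ G.autGroup V) (hco : (orderOf b).Coprime p) : b ∈ G'.autGroup V := by
  have h1 : PMap G p (E.hyperfocalSubgroup p) V (autFun b) :=
    ⟨hV, 1, one_mem _, Chain.aut (α := ⟨b, hb⟩) (hV.trans c.hH)
      (by rwa [← Subgroup.orderOf_coe]) le_rfl⟩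
  obtain ⟨-, g, -, hc⟩ := (c'.res _ _).2 ((c.res _ _).1 h1)
  exact (mem_autGroup_iff (hV.trans c'.hH)).2 hc.isMap

theorem Cand.isMap_of_pMap (c : Cand F p E G)
    (hf : PMap E p (E.hyperfocalSubgroup p) P f) : IsMap G P f := by
  obtain ⟨-, g, -, hc⟩ := (c.res _ _).2 hf
  exact hc.isMap

theorem Cand.map_F (c : Cand F p E G) (hf : IsMap G P f) : IsMap F P f :=
  hf.ofSubsystem c.sub

/-- Restriction to the part in `H`, moved between candidates. -/
theorem Cand.isMap_restrict (c : Cand F p E G)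
    (c' : Cand F p E G') (hXS : X ≤ S) {b : MulAut X}
    (hb : b ∈ F.autGroup X) (hco : (orderOf b).Coprime p)
    (hm : IsMap G (X ⊓ E.hyperfocalSubgroup p) (autFun b)) (h : Setup F p E E T) :
    IsMap G' (X ⊓ E.hyperfocalSubgroup p) (autFun b) := by
  have hF := (mem_autGroup_iff hXS).1 hb
  have hi : img (X ⊓ E.hyperfocalSubgroup p) (autFun b) = X ⊓ E.hyperfocalSubgroup p := by
    rw [← img_inf_hyperfocal h hF, img_autFun]
  obtain ⟨e, he, heco, hee⟩ := exists_restrict inf_le_left hXS hm hi hco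
  have h1 := c.mem_of_coprime c' inf_le_right he heco
  exact ((mem_autGroup_iff (inf_le_right.trans c'.hH)).1 h1).congr fun x hx => (hee x hx).symm

/-- An extension of an automorphism of the part in `H`. -/
theorem Cand.exists_ext_normalized (h : Setup F p E E T) (c : Cand F p E G)
    (hX : X ≤ U) (hVn : G.IsFullyNormalized (X ⊓ E.hyperfocalSubgroup p)) {a : MulAut X}
    (ha : a ∈ F.autGroup X) (hco : (orderOf a).Coprime p)
    (hd : ∀ x ∈ X, x⁻¹ * autFun a x ∈ E.hyperfocalSubgroup p)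
    (hs : SelfC F (E.hyperfocalSubgroup p) (X ⊓ E.hyperfocalSubgroup p))
    (hm : IsMap G (X ⊓ E.hyperfocalSubgroup p) (autFun a)) :
    ∃ b ∈ G.autGroup X, (orderOf b).Coprime p ∧
      (∀ x ∈ X, x⁻¹ * autFun b x ∈ E.hyperfocalSubgroup p) ∧
      b⁻¹ * a ∈ deltaIn F (E.hyperfocalSubgroup p) X := by
  haveI := finite_of_le c.le
  have hXS := hX.trans c.le
  set H := E.hyperfocalSubgroup p with hH
  set V := X ⊓ H with hV
  have hVX : V ≤ X := inf_le_left
  have hVU : V ≤ U := hVX.trans hX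
  have hHS : H ≤ S := (hyperfocal_le_T h).trans h.hTS
  have haF := (mem_autGroup_iff hXS).1 ha
  have hi : img V (autFun a) = V := by
    rw [hV, ← img_inf_hyperfocal h haF, img_autFun]
  obtain ⟨α, hα, hαco, hαe⟩ := exists_restrict hVX hXS hm hi hco
  have hαm := (mem_autGroup_iff hVU).1 hα
  -- the domain of an extension
  have hXN : ∀ x ∈ X, x ∈ Subgroup.normalizer (V : Set Ω) := fun x hx =>
    Subgroup.mem_normalizer_iff.2 fun y => by
      have hn : x ∈ Subgroup.normalizer (H : Set Ω) := by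
        have h1 := absorbs_hyperfocal.normal (F := G) (p := p) (hX hx)
        rwa [c.hyp] at h1
      exact and_congr (Subgroup.mem_normalizer_iff.1 (Subgroup.le_normalizer hx) y)
        (Subgroup.mem_normalizer_iff.1 hn y)
  set W := X ⊔ centralizerIn U V with hW
  have hXW : X ≤ W := le_sup_left
  have hext : W ≤ extSub U V (autFun α) := by
    refine sup_le (fun x hx => ⟨⟨hX hx, hXN x hx⟩, autFun a x, hX (autFun_mem a hx),
      fun v hv => ?_⟩) fun z hz => ⟨⟨hz.1, ?_⟩, 1, one_mem _, fun v hv => ?_⟩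
    · have hxv : x * v * x⁻¹ ∈ V := (Subgroup.mem_normalizer_iff.1 (hXN x hx) v).1 hv
      rw [hαe _ hxv, hαe v hv, haF.map_conj hx (hVX hv)]
    · exact Subgroup.centralizer_le_normalizer _ hz.2
    · rw [show z * v * z⁻¹ = v by
        rw [← Subgroup.mem_centralizer_iff.1 hz.2 v hv, mul_inv_cancel_right]]
      group
  obtain ⟨ψ, hψ₀, hψe⟩ := (isReceptive_iff.1
    (IsSaturated.automized_receptive (h.pgroup.to_le c.le) c.sat hVn).2).2 V _ hαm (img_autFun α)
  have hψ := hψ₀.mono hext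
  have hWU : W ≤ U := sup_le hX inf_le_left
  have hψW : ∀ w ∈ W, ψ w ∈ W := fun w hw => hψ.map_mem_of_sup (A := X)
    (B := centralizerIn U V) (fun x hx => ?_) (fun z hz => ?_) hw
  case refine_1 =>
    have hmem : (autFun a x)⁻¹ * ψ x ∈ centralizerIn U V := by
      refine Subgroup.mem_inf.2 ⟨U.mul_mem (U.inv_mem (hX (autFun_mem a hx))) (hψ.mem_S (hXW hx)),
        Subgroup.mem_centralizer_iff.2 fun v hv => ?_⟩
      obtain ⟨u, hu, rfl⟩ : ∃ u ∈ V, autFun a u = v := by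
        obtain ⟨u, hu, rfl⟩ := (haF.mono hVX).mem_img.1 (hi.ge hv)
        exact ⟨u, hu, rfl⟩
      have hxu : x * u * x⁻¹ ∈ V := (Subgroup.mem_normalizer_iff.1 (hXN x hx) u).1 hu
      have h1 := hψ.map_conj (hXW hx) (hXW (hVX hu))
      rw [hψe _ hxu, hψe u hu, hαe _ hxu, hαe u hu, haF.map_conj hx (hVX hu)] at h1
      calc autFun a u * ((autFun a x)⁻¹ * ψ x)
          = (autFun a x)⁻¹ * (autFun a x * autFun a u * (autFun a x)⁻¹) * ψ x := by group
        _ = _ := by rw [h1]; group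
    have h2 := mul_mem (Subgroup.mem_sup_left (T := centralizerIn U V) (autFun_mem a hx))
      (Subgroup.mem_sup_right hmem)
    rwa [mul_inv_cancel_left] at h2
  case refine_2 =>
    refine Subgroup.mem_sup_right ⟨hψ.mem_S (Subgroup.mem_sup_right hz),
      Subgroup.mem_centralizer_iff.2 fun v hv => ?_⟩
    obtain ⟨u, hu, rfl⟩ := (hαm).mem_img.1 ((img_autFun α).ge hv)
    have hzW : z ∈ W := Subgroup.mem_sup_right hz
    rw [← hψe u hu, ← hψ.map_mul (hXW (hVX hu)) hzW, ← hψ.map_mul hzW (hXW (hVX hu)),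
      Subgroup.mem_centralizer_iff.1 hz.2 u hu]
  have hiW : img W ψ = W := img_eq_of_map_le hWU hψ le_rfl hψW
  obtain ⟨γ, hγco, hγe⟩ := exists_coprime_ext hψ hiW (hVX.trans hXW) (a := ⟨α, hα⟩)
    (by rwa [← Subgroup.orderOf_coe]) hψe
  have hγd : ∀ w ∈ W, w⁻¹ * autFun (γ : MulAut W) w ∈ H := fun w hw => by
    have h1 := mem_hyperfocal hWU (mem_pResidual hγco) hw
    rwa [c.hyp] at h1
  have hγm := (mem_autGroup_iff hWU).1 γ.2
  have hγV : ∀ v ∈ V, autFun (γ : MulAut W) v = autFun a v := fun v hv =>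
    (hγe v hv).trans (hαe v hv)
  have hγX : ∀ x ∈ X, autFun (γ : MulAut W) x ∈ X := fun x hx => by
    have hax := autFun_mem a hx
    set z := (autFun a x)⁻¹ * autFun (γ : MulAut W) x with hz
    have hzH : z ∈ H := by
      have h2 := mul_mem (inv_mem (hd x hx)) (hγd x (hXW hx))
      rwa [show (x⁻¹ * autFun a x)⁻¹ * (x⁻¹ * autFun (γ : MulAut W) x) = z by
        rw [hz]; group] at h2
    have hzV : z ∈ V := hs.cent hHS ⟨hzH, Subgroup.mem_centralizer_iff.2 fun v hv => by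
      obtain ⟨u, hu, rfl⟩ : ∃ u ∈ V, autFun a u = v := by
        obtain ⟨u, hu, rfl⟩ := (haF.mono hVX).mem_img.1 (hi.ge hv)
        exact ⟨u, hu, rfl⟩
      have hxu : x * u * x⁻¹ ∈ V := (Subgroup.mem_normalizer_iff.1 (hXN x hx) u).1 hu
      have h1 := hγm.map_conj (hXW hx) (hXW (hVX hu))
      rw [hγV _ hxu, hγV u hu, haF.map_conj hx (hVX hu)] at h1
      calc autFun a u * z
          = (autFun a x)⁻¹ * (autFun a x * autFun a u * (autFun a x)⁻¹) *
            autFun (γ : MulAut W) x := by rw [hz]; group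
        _ = _ := by rw [h1, hz]; group⟩
    have h3 := mul_mem hax (hVX hzV)
    rwa [hz, mul_inv_cancel_left] at h3
  have hbi : img X (autFun (γ : MulAut W)) = X :=
    img_eq_of_map_le hX (hγm.mono hXW) le_rfl hγX
  obtain ⟨b, hb, hbco, hbe⟩ := exists_restrict hXW (hWU.trans c.le) (hγm.mono hXW) hbi
    (by rwa [Subgroup.orderOf_coe])
  have hbd : ∀ x ∈ X, x⁻¹ * autFun b x ∈ H := fun x hx => by
    rw [hbe x hx]; exact hγd x (hXW hx)
  have hbF : b ∈ F.autGroup X := (mem_autGroup_iff hXS).2 (c.map_F ((mem_autGroup_iff hX).1 hb))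
  refine ⟨b, hb, hbco, hbd, mul_mem (inv_mem hbF) ha, fun v hv => ?_, fun x hx => ?_⟩
  · rw [autFun_mul _ _ hv.1, ← hγV v hv, ← hbe v hv.1, PPrime.autFun_symm hv.1]
  · rw [autFun_mul _ _ hx]
    have hy := autFun_mem b⁻¹ (autFun_mem a hx)
    have h1 := hbd _ hy
    rw [PPrime.autFun_symm' (autFun_mem a hx)] at h1
    have h2 := mul_mem (hd x hx) (inv_mem h1)
    rwa [show x⁻¹ * autFun a x * ((autFun b⁻¹ (autFun a x))⁻¹ * autFun a x)⁻¹ =
      x⁻¹ * autFun b⁻¹ (autFun a x) by group] at h2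

/-- The same, after a move inside `G`. -/
theorem Cand.exists_ext (h : Setup F p E E T) (c : Cand F p E G)
    (hX : X ≤ U) {a : MulAut X} (ha : a ∈ F.autGroup X) (hco : (orderOf a).Coprime p)
    (hd : ∀ x ∈ X, x⁻¹ * autFun a x ∈ E.hyperfocalSubgroup p)
    (hs : SelfC F (E.hyperfocalSubgroup p) (X ⊓ E.hyperfocalSubgroup p))
    (hm : IsMap G (X ⊓ E.hyperfocalSubgroup p) (autFun a)) :
    ∃ (f : Ω → Ω) (hf : IsMap G X f), ∃ b ∈ G.autGroup (img X f), (orderOf b).Coprime p ∧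
      (∀ x ∈ img X f, x⁻¹ * autFun b x ∈ E.hyperfocalSubgroup p) ∧
      b⁻¹ * MulAut.congr (mapEquiv hf) a ∈ deltaIn F (E.hyperfocalSubgroup p) (img X f) := by
  haveI := finite_of_le c.le
  set H := E.hyperfocalSubgroup p with hH
  have hXS := hX.trans c.le
  obtain ⟨Q, hQQ, hQ⟩ := exists_fullyNormalized (F := G) (inf_le_left.trans hX : X ⊓ H ≤ U)
  obtain ⟨h₁, h₂⟩ := IsSaturated.automized_receptive (h.pgroup.to_le c.le) c.sat hQ
  obtain ⟨f, hf₀, hfQ, -⟩ := exists_map_normalizer (h.pgroup.to_le c.le) h₁ h₂ hQQ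
  have hXN : X ≤ normalizerIn U (X ⊓ H) := fun x hx =>
    ⟨hX hx, Subgroup.mem_normalizer_iff.2 fun y => by
      have hn : x ∈ Subgroup.normalizer (H : Set Ω) := by
        have h1 := absorbs_hyperfocal.normal (F := G) (p := p) (hX hx)
        rwa [c.hyp] at h1
      exact and_congr (Subgroup.mem_normalizer_iff.1 (Subgroup.le_normalizer hx) y)
        (Subgroup.mem_normalizer_iff.1 hn y)⟩
  have hf := hf₀.mono hXN
  have hfF := c.map_F hf
  have hcl : ∀ (R : Subgroup Ω) (f : Ω → Ω), IsMap F R f → ∀ x ∈ R, x ∈ H → f x ∈ H :=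
    fun _ _ hf _ hx hxK => hyperfocal_closed h hf hx hxK
  have hV : img X f ⊓ H = img (X ⊓ H) f := img_inf_hyperfocal h hfF
  set a' := MulAut.congr (mapEquiv hf) a with ha'
  have ha'e : ∀ x ∈ X, autFun a' (f x) = f (autFun a x) := fun x hx => autFun_congr hf a hx
  have ha'F : a' ∈ F.autGroup (img X f) := by
    rw [show a' = MulAut.congr (mapEquiv hfF) a from autFun_ext fun y hy => by
      obtain ⟨x, hx, rfl⟩ := hf.mem_img.1 hy
      rw [ha'e x hx, autFun_congr hfF a hx]]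
    exact (congr_mem_autGroup_iff hfF a).2 ha
  obtain ⟨b, hb, hbco, hbd, hbD⟩ := c.exists_ext_normalized h hf.img_le
    (by rw [hV, hfQ]; exact hQ) ha'F (by rwa [ha', MulEquiv.orderOf_eq]) (fun y hy => by
      obtain ⟨x, hx, rfl⟩ := hf.mem_img.1 hy
      rw [ha'e x hx, ← hfF.map_inv hx, ← hfF.map_mul (inv_mem hx) (autFun_mem a hx)]
      exact hcl _ _ hfF _ (mul_mem (inv_mem hx) (autFun_mem a hx)) (hd x hx))
    (by rw [hV]; exact hs.map (hyperfocal_stronglyClosed h) (hfF.mono inf_le_left))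
    (by
      obtain ⟨f', hf', h1, h2⟩ := hf.exists_inv
      rw [hV]
      have hfV := hf.mono (inf_le_left : X ⊓ H ≤ X)
      have hmap : ∀ y ∈ img (X ⊓ H) f, f' y ∈ X ⊓ H := fun y hy => by
        obtain ⟨x, hx, rfl⟩ := hfV.mem_img.1 hy
        rw [h1 x hx.1]; exact hx
      have hmem : ∀ y ∈ X ⊓ H, autFun a y ∈ X := fun y hy => autFun_mem a hy.1
      refine (((hf'.mono (hf.img_mono inf_le_left)).comp hm hmap).comp hf fun y hy =>
        hmem _ (hmap y hy)).congr fun y hy => ?_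
      obtain ⟨x, hx, rfl⟩ := hfV.mem_img.1 hy
      show autFun a' (f x) = f (autFun a (f' (f x)))
      rw [h1 x hx.1, ha'e x hx.1])
  exact ⟨f, hf, b, hb, hbco, hbd, hbD⟩

/-- An automorphism of `X ≤ T` lying in `E` on `X ∩ H`. -/
theorem mem_autGroup_E (h : Setup F p E E T) (hX : X ≤ T) {a : MulAut X} (ha : a ∈ F.autGroup X)
    (hco : (orderOf a).Coprime p) (hd : ∀ x ∈ X, x⁻¹ * autFun a x ∈ E.hyperfocalSubgroup p)
    (hs : SelfC F (E.hyperfocalSubgroup p) (X ⊓ E.hyperfocalSubgroup p))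
    (hm : IsMap E (X ⊓ E.hyperfocalSubgroup p) (autFun a)) : a ∈ E.autGroup X := by
  obtain ⟨f, hf, b, hb, -, -, hbD⟩ := (cand_self h).exists_ext h hX ha hco hd hs hm
  have hXT : img X f ≤ T := hf.img_le
  set a' := MulAut.congr (mapEquiv hf) a
  obtain ⟨n, hn⟩ := IsPGroup.iff_card.1 h.pgroup
  have haF : a' ∈ F.autGroup (img X f) := by
    have h1 := mul_mem ((mem_autGroup_iff (hXT.trans h.hTS)).2
      (((mem_autGroup_iff hXT).1 hb).ofSubsystem h.side₁.sub)) hbD.1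
    rwa [mul_inv_cancel_left] at h1
  refine (congr_mem_autGroup_iff hf a).1 (mem_of_coprime_of_pow (q := p ^ n) (δ := b⁻¹ * a')
    (fun x hx => conj_mem_autGroup h.side₁ hXT haF hx) ?_
    (deltaIn_pow_eq_one (hXT.trans h.hTS) hn hbD) ?_)
  · rw [MulEquiv.orderOf_eq]; exact hco.pow_right n
  · rw [show a' * (b⁻¹ * a')⁻¹ = b by group]; exact hb

/-- An element of `aSub`. -/
theorem mem_aSub_of_hyperfocal (h : Setup F p E E T) (hX : X ≤ S) {a : MulAut X}
    (ha : a ∈ F.autGroup X) (hco : (orderOf a).Coprime p)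
    (hd : ∀ x ∈ X, x⁻¹ * autFun a x ∈ E.hyperfocalSubgroup p)
    (hs : SelfC F (E.hyperfocalSubgroup p) (X ⊓ E.hyperfocalSubgroup p))
    (hm : IsMap E (X ⊓ E.hyperfocalSubgroup p) (autFun a)) : a ∈ aSub h X := by
  have hHT := hyperfocal_le_T h
  have haF := (mem_autGroup_iff hX).1 ha
  have hi : img (X ⊓ T) (autFun a) = X ⊓ T := by rw [← img_inf_T h haF, img_autFun]
  obtain ⟨e, he, heco, hee⟩ := exists_restrict inf_le_left hX
    (haF.mono (inf_le_left : X ⊓ T ≤ X)) hi hco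
  have hV : X ⊓ T ⊓ E.hyperfocalSubgroup p = X ⊓ E.hyperfocalSubgroup p := by
    rw [inf_assoc, inf_eq_right.2 hHT]
  have h1 := mem_autGroup_E h inf_le_right he heco
    (fun x hx => by rw [hee x hx]; exact hd x hx.1) (by rw [hV]; exact hs)
    (by rw [hV]; exact hm.congr fun x hx => hee x ⟨hx.1, hHT hx.2⟩)
  exact ⟨ha, fun x hx => hHT (hd x hx),
    ((mem_autGroup_iff inf_le_right).1 h1).congr fun x hx => (hee x hx).symm⟩

/-- An automorphism of order prime to `p` lying in `E` on the part in `H`. -/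
theorem Cand.mem (h : Setup F p E E T) (hE : E.IsNormalIn F p)
    (c : Cand F p E G) (hX : X ≤ U) (hXs : SelfC F T (X ⊓ T))
    (hs : SelfC F (E.hyperfocalSubgroup p) (X ⊓ E.hyperfocalSubgroup p)) {a : MulAut X}
    (ha : a ∈ F.autGroup X) (hco : (orderOf a).Coprime p)
    (hd : ∀ x ∈ X, x⁻¹ * autFun a x ∈ E.hyperfocalSubgroup p)
    (hm : IsMap E (X ⊓ E.hyperfocalSubgroup p) (autFun a)) : a ∈ G.autGroup X := by
  have hmG := (cand_self h).isMap_restrict c (hX.trans c.le) ha hco hm h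
  obtain ⟨f, hf, b, hb, hbco, hbd, hbD⟩ := c.exists_ext h hX ha hco hd hs hmG
  have hfF := c.map_F hf
  have hYU := hf.img_le
  have hYS := hYU.trans c.le
  set H := E.hyperfocalSubgroup p
  have hYs : SelfC F T (img X f ⊓ T) := by
    rw [img_inf_T h hfF]; exact hXs.map h.closed (hfF.mono inf_le_left)
  have hY₀ : SelfC F H (img X f ⊓ H) := by
    rw [img_inf_hyperfocal h hfF]
    exact hs.map (hyperfocal_stronglyClosed h) (hfF.mono inf_le_left)
  have hbF : b ∈ F.autGroup (img X f) :=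
    (mem_autGroup_iff hYS).2 (c.map_F ((mem_autGroup_iff hYU).1 hb))
  have hbE := c.isMap_restrict (cand_self h) hYS hbF hbco
    (((mem_autGroup_iff hYU).1 hb).mono inf_le_left) h
  obtain ⟨n, hn⟩ := exists_pow_eq_mod_hyperfocal h hE hYS hYs hY₀
    (mem_aSub_of_hyperfocal h hYS hbF hbco hbd hY₀ hbE) hbco
    (by rwa [MulEquiv.orderOf_eq]) hbD
  refine (congr_mem_autGroup_iff hf a).1 ?_
  have h1 : MulAut.congr (mapEquiv hf) a * (b ^ n)⁻¹ ∈ G.autGroup (img X f) := by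
    obtain ⟨z, hz, hze⟩ := mem_autInducedBy_iff.1 hn
    exact autInducedBy_le_autGroup hYU
      (mem_autInducedBy_iff.2 ⟨z, hYU (Subgroup.mem_inf.1 (Subgroup.mem_inf.1 hz).1).1, hze⟩)
  have h2 := mul_mem h1 (pow_mem hb n)
  rwa [inv_mul_cancel_right] at h2

/-- The part in a closed subgroup of an essential subgroup contains its centralizers. -/
theorem Cand.cent_of_essential (h : Setup F p E E T) (c : Cand F p E G)
    (hP : G.IsEssential p P) (hKU : K ≤ U)
    (hK : ∀ (R : Subgroup Ω) (f : Ω → Ω), IsMap F R f → ∀ x ∈ R, x ∈ K → f x ∈ K)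
    (hf : IsMap G (P ⊓ K) f) : centralizerIn K (img (P ⊓ K) f) ≤ img (P ⊓ K) f := by
  haveI := finite_of_le c.le
  have hU := h.pgroup.to_le c.le
  have hKG : ∀ (R : Subgroup Ω) (f : Ω → Ω), IsMap G R f → ∀ x ∈ R, x ∈ K → f x ∈ K :=
    fun R f hm => hK R f (c.map_F hm)
  have hKn : U ≤ Subgroup.normalizer (K : Set Ω) := fun u hu =>
    Subgroup.mem_normalizer_iff.2 fun y =>
      ⟨fun hy => hKG _ _ (isMap_conj le_rfl hu) y (hKU hy) hy, fun hy => by
        have h1 := hKG _ _ (isMap_conj le_rfl (inv_mem hu)) _ (hKU hy) hy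
        rwa [show u⁻¹ * (u * y * u⁻¹) * u⁻¹⁻¹ = y by group] at h1⟩
  have hPU : P ≤ U := hP.1.1
  set V := P ⊓ K with hV
  by_contra hne
  obtain ⟨z, hz, hzW⟩ := SetLike.not_le_iff_exists.1 hne
  obtain ⟨Q, hQQ, hQ⟩ := exists_fullyNormalized (F := G) (inf_le_left.trans hPU : V ≤ U)
  obtain ⟨h₁, h₂⟩ := IsSaturated.automized_receptive hU c.sat hQ
  -- an element centralizing `Q`
  obtain ⟨g, hg, hgQ, -⟩ := exists_map_normalizer hU h₁ h₂
    (isConj_trans (isConj_symm (isConj_iff.2 ⟨f, hf, rfl⟩)) hQQ)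
  have hzN : z ∈ normalizerIn U (img V f) :=
    ⟨hKU hz.1, Subgroup.centralizer_le_normalizer _ hz.2⟩
  have hWN : img V f ≤ normalizerIn U (img V f) := le_normalizerIn hf.img_le
  have hgW := hg.mono hWN
  have hc₀ : g z ∈ centralizerIn K Q ∧ g z ∉ Q := by
    refine ⟨⟨hKG _ _ hg _ hzN hz.1, Subgroup.mem_centralizer_iff.2 fun q hq => ?_⟩, fun hq => ?_⟩
    · rw [← hgQ] at hq
      obtain ⟨w, hw, rfl⟩ := hgW.mem_img.1 hq
      rw [← hg.map_mul (hWN hw) hzN, ← hg.map_mul hzN (hWN hw),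
        Subgroup.mem_centralizer_iff.1 hz.2 w hw]
    · rw [← hgQ] at hq
      obtain ⟨w, hw, hwe⟩ := hgW.mem_img.1 hq
      exact hzW (hg.inj (hWN hw) hzN hwe ▸ hw)
  -- `P` moved over `Q`
  obtain ⟨θ, hθ₀, hθQ, -⟩ := exists_map_normalizer hU h₁ h₂ hQQ
  have hPN : P ≤ normalizerIn U V := fun x hx => ⟨hPU hx, Subgroup.mem_normalizer_iff.2 fun y =>
    and_congr (Subgroup.mem_normalizer_iff.1 (Subgroup.le_normalizer hx) y)
      (Subgroup.mem_normalizer_iff.1 (hKn (hPU hx)) y)⟩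
  have hθ := hθ₀.mono hPN
  have hPQ : img P θ ⊓ K = Q := by rw [img_inf_of_closed hKG hθ]; exact hθQ
  set P' := img P θ with hP'
  have hP'U : P' ≤ U := hθ.img_le
  have hP'n : ∀ x ∈ P', x ∈ Subgroup.normalizer (centralizerIn K Q : Set Ω) := fun x hx => by
    have hxQ : x ∈ Subgroup.normalizer (Q : Set Ω) := Subgroup.mem_normalizer_iff.2 fun y => by
      rw [← hPQ]
      exact and_congr (Subgroup.mem_normalizer_iff.1 (Subgroup.le_normalizer hx) y)
        (Subgroup.mem_normalizer_iff.1 (hKn (hP'U hx)) y)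
    exact Subgroup.mem_normalizer_iff.2 fun y => and_congr
      (Subgroup.mem_normalizer_iff.1 (hKn (hP'U hx)) y) (Subgroup.mem_normalizer_iff.1
        (CfsgLib.Coprime.normalizer_le_normalizer_centralizer Q hxQ) y)
  have hAU : P' ⊔ centralizerIn K Q ≤ U := sup_le hP'U (inf_le_left.trans hKU)
  have hlt : P' ≠ P' ⊔ centralizerIn K Q := fun e => hc₀.2 (hPQ.le (Subgroup.mem_inf.2
    ⟨e.ge (Subgroup.mem_sup_right hc₀.1), hc₀.1.1⟩))
  haveI := finite_of_le hAU
  haveI : Group.IsNilpotent ↥(P' ⊔ centralizerIn K Q) := (hU.to_le hAU).isNilpotent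
  obtain ⟨n, hn, hnP⟩ := SetLike.exists_of_lt (lt_inf_normalizer le_sup_left hlt)
  obtain ⟨hnA, hnN⟩ := Subgroup.mem_inf.1 hn
  rw [← SetLike.mem_coe, Subgroup.coe_mul_of_left_le_normalizer_right P' _ hP'n] at hnA
  obtain ⟨x, hx, w, hw, rfl⟩ := Set.mem_mul.1 hnA
  have hwN : w ∈ Subgroup.normalizer (P' : Set Ω) := by
    have h1 := mul_mem (inv_mem (Subgroup.le_normalizer hx)) hnN
    rwa [inv_mul_cancel_left] at h1
  have hwP : w ∉ P' := fun h' => hnP (mul_mem hx h')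
  -- it acts as an inner automorphism
  have hwU : w ∈ U := hKU hw.1
  set w' := conjAut w hwN
  obtain ⟨δ, hδ⟩ := (MulAut.congr (mapEquiv hθ)).surjective w'
  have hδe : ∀ y ∈ P, θ (autFun δ y) = w * θ y * w⁻¹ := fun y hy => by
    rw [← autFun_congr hθ δ hy, hδ]
    exact autFun_conjAut hwN (hθ.mem_img.2 ⟨y, hy, rfl⟩)
  have hδD : δ ∈ deltaIn G K P := by
    refine ⟨(congr_mem_autGroup_iff hθ δ).1 (by
      rw [hδ]; exact autInducedBy_le_autGroup hP'U (conjAut_mem hwU hwN)), fun y hy => ?_,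
      fun y hy => ?_⟩
    · refine hθ.inj (autFun_mem δ hy.1) hy.1 ?_
      have hyQ : θ y ∈ Q := hθQ.le ((hθ.mono inf_le_left).mem_img.2 ⟨y, hy, rfl⟩)
      rw [hδe y hy.1, ← Subgroup.mem_centralizer_iff.1 hw.2 _ hyQ, mul_inv_cancel_right]
    · obtain ⟨θ', hθ', h1, -⟩ := hθ.exists_inv
      have hy' := mul_mem (inv_mem hy) (autFun_mem δ hy)
      have h2 : θ (y⁻¹ * autFun δ y) ∈ K := by
        rw [hθ.map_mul (inv_mem hy) (autFun_mem δ hy), hθ.map_inv hy, hδe y hy,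
          show (θ y)⁻¹ * (w * θ y * w⁻¹) = (θ y)⁻¹ * w * θ y * w⁻¹ by group]
        refine mul_mem ?_ (inv_mem hw.1)
        have hyU := hθ.mem_S hy
        have h3 := (Subgroup.mem_normalizer_iff.1 (hKn (inv_mem hyU)) w).1 hw.1
        rwa [inv_inv] at h3
      have h3 := hKG _ _ hθ' _ (hθ.mem_img.2 ⟨_, hy', rfl⟩) h2
      rwa [h1 _ hy'] at h3
  have hinn : δ ∈ autInducedBy P P := by
    haveI : ((deltaIn G K P).subgroupOf (G.autGroup P)).Normal := ⟨fun b hb a => by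
      have h1 := deltaIn_conj hPU hKG a.2 (Subgroup.mem_subgroupOf.1 hb)
      exact Subgroup.mem_subgroupOf.2 (by simpa using h1)⟩
    have hpg : IsPGroup p ((deltaIn G K P).subgroupOf (G.autGroup P)) :=
      (deltaIn_isPGroup h.pgroup (hPU.trans c.le)).of_equiv
        (Subgroup.subgroupOfEquivOfLe (H := deltaIn G K P) (K := G.autGroup P)
          fun a ha => (mem_deltaIn.1 ha).1).symm
    have h1 : δ ∈ (Cfsg.pCore p (G.autGroup P)).map (G.autGroup P).subtype :=
      ⟨⟨δ, hδD.1⟩, CfsgLib.Coprime.le_pCore hpg (Subgroup.mem_subgroupOf.2 hδD), rfl⟩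
    rwa [(isRadical_of_isEssential hU hP).2, inn_eq_autInducedBy] at h1
  obtain ⟨y, hy, hye⟩ := mem_autInducedBy_iff.1 hinn
  refine hwP (mem_of_conjAut_mem_inn hwU hwN hP'U
    (hP.1.2 _ (isConj_iff.2 ⟨θ, hθ, rfl⟩)) ?_)
  rw [inn_eq_autInducedBy]
  refine mem_autInducedBy_iff.2 ⟨θ y, hθ.mem_img.2 ⟨y, hy, rfl⟩, fun v hv => ?_⟩
  obtain ⟨u, hu, rfl⟩ := hθ.mem_img.1 hv
  rw [autFun_conjAut hwN hv, ← hδe u hu, hye u hu, hθ.map_conj hy hu]

theorem selfC_self (hKS : K ≤ S)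
    (hK : ∀ (R : Subgroup Ω) (f : Ω → Ω), IsMap F R f → ∀ x ∈ R, x ∈ K → f x ∈ K) :
    SelfC F K K :=
  ⟨le_rfl, fun f hf => by
    rw [img_eq_of_map_le hKS hf le_rfl fun x hx => hK _ _ hf x hx hx]
    exact inf_le_left⟩

/-- Self-centralization from the images under `E`. -/
theorem selfC_of_E (h : Setup F p E E T) (hKT : K ≤ T)
    (hK : ∀ (R : Subgroup Ω) (f : Ω → Ω), IsMap F R f → ∀ x ∈ R, x ∈ K → f x ∈ K)
    (hV : V ≤ K) (hc : ∀ k, IsMap E V k → centralizerIn K (img V k) ≤ img V k) :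
    SelfC F K V := by
  refine ⟨hV, fun f hf => ?_⟩
  obtain ⟨α, hα, k, hk, hke⟩ := decomp_of_strongInv h.pgroup h.sat h.closed h.side₁.sub h.side₁.inv
    hf (hV.trans hKT)
  have hTm := (mem_autGroup_iff h.hTS).1 hα
  intro z hz
  have hzT := hKT hz.1
  have hn : autFun α⁻¹ z ∈ centralizerIn K (img V k) :=
    ⟨hK _ _ ((mem_autGroup_iff h.hTS).1 (inv_mem hα)) z hzT hz.1,
      Subgroup.mem_centralizer_iff.2 fun y hy => by
      obtain ⟨x, hx, rfl⟩ := hk.mem_img.1 hy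
      refine hTm.inj (mul_mem (hk.mem_S hx) (autFun_mem _ hzT))
        (mul_mem (autFun_mem _ hzT) (hk.mem_S hx)) ?_
      rw [hTm.map_mul (hk.mem_S hx) (autFun_mem _ hzT),
        hTm.map_mul (autFun_mem _ hzT) (hk.mem_S hx), PPrime.autFun_symm' hzT, ← hke x hx]
      exact Subgroup.mem_centralizer_iff.1 hz.2 _ (hf.mem_img.2 ⟨x, hx, rfl⟩)⟩
  obtain ⟨x, hx, hxn⟩ := hk.mem_img.1 (hc k hk hn)
  exact hf.mem_img.2 ⟨x, hx, by rw [hke x hx, hxn, PPrime.autFun_symm' hzT]⟩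

/-- A candidate containing `E` over a smaller subgroup lies in the bigger one. -/
theorem Cand.sub_of_le (h : Setup F p E E T) (hE : E.IsNormalIn F p)
    (c₁ : Cand F p E G) (c₂ : Cand F p E G')
    (hU : U ≤ U') (hEG : ∀ P f, IsMap E P f → IsMap G P f) (hf : IsMap G P f) :
    IsMap G' P f := by
  haveI := finite_of_le c₁.le
  have hp := h.pgroup.to_le c₁.le
  set H := E.hyperfocalSubgroup p with hH
  have hHT : H ≤ T := hyperfocal_le_T h
  have hHS := hHT.trans h.hTS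
  have hHF : ∀ (R : Subgroup Ω) (f : Ω → Ω), IsMap F R f → ∀ x ∈ R, x ∈ H → f x ∈ H :=
    fun _ _ hm _ hx hxK => hyperfocal_closed h hm hx hxK
  have hTF : ∀ (R : Subgroup Ω) (f : Ω → Ω), IsMap F R f → ∀ x ∈ R, x ∈ T → f x ∈ T :=
    fun _ _ hm _ hx hxK => cl_mem h.closed hm hx hxK
  let E₂ : FusionSystem U := mkSystem G' U
    (fun P f => IsMap G' P f ∧ P ≤ U ∧ ∀ x ∈ P, f x ∈ U)
    (fun _ _ h => h)
    (fun _ _ _ h he => ⟨h.1.congr he, h.2.1, fun x hx => by rw [he x hx]; exact h.2.2 x hx⟩)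
    (fun _ t hP ht => ⟨isMap_conj (hP.trans hU) (hU ht), hP,
      fun x hx => U.mul_mem (U.mul_mem ht (hP hx)) (U.inv_mem ht)⟩)
    (fun _ _ _ _ hf hg h => ⟨hf.1.comp hg.1 h, hf.2.1, fun x hx => hg.2.2 _ (h x hx)⟩)
    (fun P f f' hf hf' he => ⟨hf', hf.1.img_le_of_forall hf.2.2, fun y hy => by
      obtain ⟨x, hx, rfl⟩ := hf.1.mem_img.1 hy
      rw [he x hx]; exact hf.2.1 hx⟩)
  have key : ∀ R : Subgroup Ω, (R = U ∨ G.IsEssential p R) →
      G.autGroup R ≤ E₂.autGroup R := by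
    intro R hR α hα
    have hRn : G.IsFullyNormalized R := by
      rcases hR with rfl | hR
      · exact isFullyNormalized_self
      · exact hR.2.1
    have hsel : SelfC F T (R ⊓ T) ∧ SelfC F H (R ⊓ H) := by
      rcases hR with e | hR
      · subst e
        rw [inf_eq_right.2 c₁.hT, inf_eq_right.2 c₁.hH]
        exact ⟨selfC_self h.hTS hTF, selfC_self hHS hHF⟩
      refine ⟨selfC_of_E h le_rfl hTF inf_le_right fun k hk =>
        c₁.cent_of_essential h hR c₁.hT hTF (hEG _ _ hk),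
        selfC_of_E h hHT hHF inf_le_right fun k hk => ?_⟩
      haveI := finite_of_le h.hTS
      obtain ⟨g, hg⟩ := exists_chain (h.pgroup.to_le h.hTS) h.side₁.sat hk
      have hg' := hg.comp (Chain.conj (F := E) (p := p) (hk.img_le) (inv_mem hg.mem_S))
        fun x hx => hk.mem_img.2 ⟨x, hx, rfl⟩
      have h1 := c₁.cent_of_essential h hR c₁.hH hHF
        (c₁.isMap_of_pMap ⟨inf_le_right, _, by rw [inv_mul_cancel]; exact one_mem _, hg'⟩)
      intro z hz
      have hgn : ∀ y, y ∈ H ↔ g⁻¹ * y * g⁻¹⁻¹ ∈ H :=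
        Subgroup.mem_normalizer_iff.1 (absorbs_hyperfocal.normal (inv_mem hg.mem_S))
      have hk' := hg'.isMap
      obtain ⟨x, hx, hxe⟩ := hk'.mem_img.1 (h1 (Subgroup.mem_inf.2 ⟨(hgn z).1 hz.1,
        Subgroup.mem_centralizer_iff.2 fun y hy => by
          obtain ⟨x, hx, rfl⟩ := hk'.mem_img.1 hy
          have h2 := Subgroup.mem_centralizer_iff.1 hz.2 _ (hk.mem_img.2 ⟨x, hx, rfl⟩)
          show g⁻¹ * k x * g⁻¹⁻¹ * (g⁻¹ * z * g⁻¹⁻¹) = g⁻¹ * z * g⁻¹⁻¹ * (g⁻¹ * k x * g⁻¹⁻¹)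
          calc _ = g⁻¹ * (k x * z) * g⁻¹⁻¹ := by group
            _ = _ := by rw [h2]; group⟩))
      refine hk.mem_img.2 ⟨x, hx, ?_⟩
      simpa using hxe
    obtain ⟨n, hn, β, hβ, he⟩ := exists_conj_mul_residual
      (IsSaturated.automized_receptive hp c₁.sat hRn).1 ⟨α, hα⟩
    have hRU := hRn.1
    have hRS := hRU.trans c₁.le
    have hle : Cfsg.pResidual p (G.autGroup R) ≤
        (G'.autGroup R).subgroupOf (G.autGroup R) := by
      refine (Subgroup.closure_le _).2 fun b hb => Subgroup.mem_subgroupOf.2 ?_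
      have hbm := (mem_autGroup_iff hRU).1 b.2
      have hbF : (b : MulAut R) ∈ F.autGroup R := (mem_autGroup_iff hRS).2 (c₁.map_F hbm)
      have hbco : (orderOf (b : MulAut R)).Coprime p := by rwa [Subgroup.orderOf_coe]
      refine c₂.mem h hE (hRU.trans hU) hsel.1 hsel.2 hbF hbco (fun x hx => ?_)
        (c₁.isMap_restrict (cand_self h) hRS hbF hbco (hbm.mono inf_le_left) h)
      have h1 := mem_hyperfocal hRU (mem_pResidual hb) hx
      rwa [c₁.hyp] at h1
    have h1 : (β : MulAut R) ∈ G'.autGroup R := Subgroup.mem_subgroupOf.1 (hle hβ)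
    have hm : conjAut n hn.2 * (β : MulAut R) ∈ G'.autGroup R :=
      mul_mem (autInducedBy_le_autGroup (hRU.trans hU) (conjAut_mem (hU hn.1) hn.2)) h1
    have heq : α = conjAut n hn.2 * (β : MulAut R) := autFun_ext fun z hz => by
      rw [show autFun α z = _ from he z hz, autFun_mul _ _ hz,
        autFun_conjAut hn.2 (autFun_mem _ hz)]
    rw [← heq] at hm
    exact (mem_autGroup_iff hRU).2 ((isMap_mkSystem_iff _).2
      ⟨(mem_autGroup_iff (hRU.trans hU)).1 hm, hRU, fun x hx => hRU (autFun_mem α hx)⟩)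
  exact ((isMap_mkSystem_iff _).1 (isMap_of_autGroup_le hp c₁.sat key hf)).1

/-- Every candidate contains `E`. -/
theorem Cand.isMap_E (h : Setup F p E E T) (hE : E.IsNormalIn F p)
    (c : Cand F p E G) (hf : IsMap E P f) : IsMap G P f :=
  (cand_self h).sub_of_le h hE c c.hT (fun _ _ hm => hm) hf

/-- Candidates over the same subgroup are equal. -/
theorem Cand.hom_eq (h : Setup F p E E T) (hE : E.IsNormalIn F p) {G₂ : FusionSystem U}
    (c₁ : Cand F p E G) (c₂ : Cand F p E G₂)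
    (P : Subgroup Ω) : G.Hom P = G₂.Hom P := by
  ext φ
  rw [mem_hom_iff, mem_hom_iff]
  exact ⟨fun hm => c₁.sub_of_le h hE c₂ le_rfl (fun _ _ he => c₁.isMap_E h hE he) hm,
    fun hm => c₂.sub_of_le h hE c₁ le_rfl (fun _ _ he => c₂.isMap_E h hE he) hm⟩

/-- The product over `R`. -/
theorem exists_cand (h : Setup F p E E T) (hE : E.IsNormalIn F p) (hTR : T ≤ R) (hRS : R ≤ S) :
    ∃ D : FusionSystem R, Cand F p E D := by
  have hsat := isSaturated_prodSys (h := h) hE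
  have hhyp := hyperfocal_prodSys (h := h) hE
  haveI := finite_of_le hRS
  haveI := finite_of_le h.hTS
  have hR : (prodSys h).hyperfocalSubgroup p ≤ R := hhyp.le.trans ((hyperfocal_le_T h).trans hTR)
  have hEsub : E.IsSubsystemOf (prodSys h) := fun _ _ hφ =>
    mem_hom_iff.2 (isMap_prod_of_E (h := h) hE (isMap_toFun hφ))
  set D := pSystem (prodSys h) p R hRS hR with hD
  have hDsat : D.IsSaturated p := isSaturated_pSystem h.pgroup hsat
  have hDsub : D.IsSubsystemOf (prodSys h) := pSystem_isSubsystemOf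
  have hDF : D.IsSubsystemOf F := fun _ _ hφ =>
    mem_hom_iff.2 (isMap_F_of_prod h (isMap_toFun (hDsub _ hφ)))
  have hED : E.IsSubsystemOf D :=
    isSubsystemOf_pPowerIndex h.pgroup h.side₁.sat hEsub h.hTS hTR pSystem_hasPPowerIndex
  have hDhyp : D.hyperfocalSubgroup p = E.hyperfocalSubgroup p :=
    le_antisymm ((hyperfocal_le_of_sub hDsub hRS).trans hhyp.le)
      (hyperfocal_le_of_sub (S := R) hED hTR)
  refine ⟨D, hRS, hTR, hDsat, hDF, hDhyp, ?_⟩
  set H := E.hyperfocalSubgroup p with hH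
  haveI := finite_of_le h.hTS
  haveI := finite_of_le hRS
  have hHT : H ≤ T := hyperfocal_le_T h
  have hH' : (prodSys h).hyperfocalSubgroup p ≤ H := hhyp.le
  have hEi : (pSystem E p H hHT le_rfl).HasPPowerIndexIn (prodSys h) p := by
    refine ⟨fun _ _ hφ => hEsub _ (pSystem_isSubsystemOf _ hφ), hH', fun P hP => ?_⟩
    rintro _ ⟨β, hβ, rfl⟩
    refine (Subgroup.closure_le ((pSystem E p H hHT le_rfl).autGroup P |>.comap
      ((prodSys h).autGroup P).subtype)).2 (fun b hb => ?_) hβ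
    have hbco : (orderOf (b : MulAut P)).Coprime p := by rwa [Subgroup.orderOf_coe]
    have h1 := mem_autGroup_E_of_prod (h := h) (hP.trans hHT) b.2 hbco
    exact Subgroup.mem_comap.2 ((mem_autGroup_iff hP).2 (isMap_pSystem_iff.2
      ⟨hP, 1, one_mem _, Chain.aut (α := ⟨(b : MulAut P), h1⟩) (hP.trans hHT)
        (by rw [Subgroup.orderOf_mk]; exact hbco) le_rfl⟩))
  have hDi : (pSystem D p H (hHT.trans hTR) hDhyp.le).HasPPowerIndexIn (prodSys h) p := by
    refine ⟨fun _ _ hφ => hDsub _ (pSystem_isSubsystemOf _ hφ), hH', fun P hP => ?_⟩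
    rintro _ ⟨β, hβ, rfl⟩
    refine (Subgroup.closure_le ((pSystem D p H (hHT.trans hTR) hDhyp.le).autGroup P |>.comap
      ((prodSys h).autGroup P).subtype)).2 (fun b hb => ?_) hβ
    have hbco : (orderOf (b : MulAut P)).Coprime p := by rwa [Subgroup.orderOf_coe]
    have hPR := hP.trans (hHT.trans hTR)
    have h1 : (b : MulAut P) ∈ D.autGroup P :=
      pSystem_hasPPowerIndex.2.2 P hPR ⟨b, mem_pResidual hb, rfl⟩
    exact Subgroup.mem_comap.2 ((mem_autGroup_iff hP).2 (isMap_pSystem_iff.2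
      ⟨hP, 1, one_mem _, Chain.aut (α := ⟨(b : MulAut P), h1⟩) hPR
        (by rw [Subgroup.orderOf_mk]; exact hbco) le_rfl⟩))
  have hsE := isSaturated_pSystem (hTS := hHT) (hT := le_rfl) (h.pgroup.to_le h.hTS) h.side₁.sat
  have hsD := isSaturated_pSystem (hTS := hHT.trans hTR) (hT := hDhyp.le) (h.pgroup.to_le hRS) hDsat
  have hHS := hHT.trans h.hTS
  intro P f
  constructor
  · intro hm
    obtain ⟨φ, hφ, he⟩ := isMap_pSystem_iff.2 hm
    exact isMap_pSystem_iff.1 ⟨φ, le_of_pPowerIndex h.pgroup hHS hsD hDi hEi P hφ, he⟩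
  · intro hm
    obtain ⟨φ, hφ, he⟩ := isMap_pSystem_iff.2 hm
    exact isMap_pSystem_iff.1 ⟨φ, le_of_pPowerIndex h.pgroup hHS hsE hEi hDi P hφ, he⟩

end CfsgLib.Fusion.Product
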