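import Cfsg.Agent.Lib.Fusion.System.Meet.ProductLocal

/-!
# The automizers of the product

At a subgroup `P` not containing `T`, with `P ∩ T` self-centralizing, all bigger subgroups being
saturated, every automorphism of `P` in the product is a product of automorphisms of order prime to
`p` in `aSub` and of one extending to `P N_T(P)`.
-/

set_option autoImplicit false
set_option maxHeartbeats 1000000
set_option linter.style.haveILetI false
set_option linter.unusedSectionVars false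

open Subgroup
open scoped Classical Pointwise

namespace CfsgLib.Fusion.Product

open Cfsg (FusionSystem autInducedBy)
open Cfsg.FusionSystem (normalizerIn centralizerIn)
open CfsgLib.Fusion CfsgLib.Fusion.CentLift CfsgLib.Fusion.Meet
open CfsgLib.Fusion.FamilySat (SatAt ClassRel autStab mem_autStab autRes autFun_autRes
  autRes_mem_autGroup exists_move rel_of_stab toP)

universe u

variable {Ω : Type u} [Group Ω] {S T : Subgroup Ω} {F : FusionSystem S} {p : ℕ}
  {E : FusionSystem T} {P Q R X : Subgroup Ω} {f g : Ω → Ω} [Finite S] [Fact p.Prime]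

/-- The group generated by the elements of `aSub` of order prime to `p`. -/
def aZero (h : Setup F p E E T) (P : Subgroup Ω) : Subgroup (MulAut P) :=
  Subgroup.closure {b | b ∈ aSub h P ∧ (orderOf b).Coprime p}

/-- `P N_T(P)`. -/
abbrev rad (T P : Subgroup Ω) : Subgroup Ω := P ⊔ normalizerIn T P

variable {h : Setup F p E E T}

theorem mem_aZero {b : MulAut P} (hb : b ∈ aSub h P) (hco : (orderOf b).Coprime p) :
    b ∈ aZero h P := Subgroup.subset_closure ⟨hb, hco⟩

theorem aZero_le_aSub : aZero h P ≤ aSub h P := (Subgroup.closure_le _).2 fun _ hb => hb.1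

theorem aZero_le (hP : P ≤ S) (hPs : SelfC F T (P ⊓ T)) :
    aZero h P ≤ (prodSys h).autGroup P :=
  (Subgroup.closure_le _).2 fun _ hb => gen_mem_autGroup h hP hPs hb.1 hb.2

theorem aZero_transport (hf : IsMap F P f) {a : MulAut P} (ha : a ∈ aZero h P) :
    MulAut.congr (mapEquiv hf) a ∈ aZero h (img P f) := by
  have hle : aZero h P ≤ (aZero h (img P f)).comap (MulAut.congr (mapEquiv hf)).toMonoidHom :=
    (Subgroup.closure_le _).2 fun b hb =>
      mem_aZero (aSub_transport hf hb.1) (by rw [MulEquiv.coe_toMonoidHom, MulEquiv.orderOf_eq]; exact hb.2)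
  exact hle ha

theorem aZero_conj (hP : P ≤ S) {a b : MulAut P} (ha : a ∈ F.autGroup P) (hb : b ∈ aZero h P) :
    a * b * a⁻¹ ∈ aZero h P := by
  induction hb using Subgroup.closure_induction with
  | mem b hb =>
    refine mem_aZero (aSub_conj hP ha hb.1) ?_
    rw [show a * b * a⁻¹ = MulAut.conj a b from rfl, MulEquiv.orderOf_eq]
    exact hb.2
  | one => simp
  | mul b c _ _ hb hc =>
    rw [show a * (b * c) * a⁻¹ = a * b * a⁻¹ * (a * c * a⁻¹) by group]
    exact mul_mem hb hc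
  | inv b _ hb =>
    rw [show a * b⁻¹ * a⁻¹ = (a * b * a⁻¹)⁻¹ by group]
    exact inv_mem hb

theorem map_mem_rad (h : Setup F p E E T) (hf : IsMap F X f) (hPX : P ≤ X) (hr : rad T P ≤ X)
    {x : Ω} (hx : x ∈ rad T P) : f x ∈ rad T (img P f) :=
  (hf.mono hr).map_mem_of_sup
    (fun y hy => Subgroup.mem_sup_left ((hf.mono hPX).mem_img.2 ⟨y, hy, rfl⟩))
    (fun t ht => Subgroup.mem_sup_right (Subgroup.mem_inf.2
      ⟨cl_mem h.closed hf (hr (Subgroup.mem_sup_right ht)) ht.1,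
        (map_mem_normalizerIn hf hPX (hr (Subgroup.mem_sup_right ht)) ht.2).2⟩)) hx

theorem rad_le (h : Setup F p E E T) (hP : P ≤ S) : rad T P ≤ normalizerIn S P :=
  sup_le (le_normalizerIn hP) (inf_le_inf_right _ h.hTS)

theorem img_rad (h : Setup F p E E T) (hP : P ≤ S) (hf : IsMap F (rad T P) f) (hi : img P f = P) :
    img (rad T P) f = rad T P :=
  img_eq_of_map_le ((rad_le h hP).trans inf_le_left) hf le_rfl fun x hx => by
    have h1 := map_mem_rad h hf le_sup_left le_rfl hx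
    rwa [hi] at h1

/-- The automorphisms of `P` extending to `P N_T(P)` in the product. -/
def extT (h : Setup F p E E T) (P : Subgroup Ω) (hP : P ≤ S) : Subgroup (MulAut P) where
  carrier := {a | ∃ ψ, IsMap (prodSys h) (rad T P) ψ ∧ ∀ x ∈ P, ψ x = autFun a x}
  one_mem' := ⟨id, isMap_id ((rad_le h hP).trans inf_le_left), fun x hx => (autFun_one hx).symm⟩
  mul_mem' := by
    rintro a b ⟨u, hu, hua⟩ ⟨v, hv, hvb⟩
    have himg : img P v = P := (IsMap.img_congr hvb).trans (img_autFun b)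
    refine ⟨u ∘ v, hv.comp hu fun r hr => ?_, fun x hx => ?_⟩
    · have h1 := map_mem_rad h (isMap_F_of_prod h hv) le_sup_left le_rfl hr
      rwa [himg] at h1
    · show u (v x) = _
      rw [hvb x hx, hua _ (autFun_mem b hx), autFun_mul _ _ hx]
  inv_mem' := by
    rintro a ⟨u, hu, hua⟩
    have himg : img P u = P := (IsMap.img_congr hua).trans (img_autFun a)
    have hR := img_rad h hP (isMap_F_of_prod h hu) himg
    obtain ⟨u', hu', hu'1, -⟩ := hu.exists_inv
    rw [hR] at hu'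
    refine ⟨u', hu', fun x hx => ?_⟩
    have h1 := hu'1 _ (Subgroup.mem_sup_left (T := normalizerIn T P) (autFun_mem a⁻¹ hx))
    rwa [hua _ (autFun_mem a⁻¹ hx), ← autFun_mul _ _ hx, mul_inv_cancel, autFun_one hx] at h1

theorem mem_extT (hP : P ≤ S) {a : MulAut P} : a ∈ extT h P hP ↔
    ∃ ψ, IsMap (prodSys h) (rad T P) ψ ∧ ∀ x ∈ P, ψ x = autFun a x := Iff.rfl

/-- The hypotheses on the class of `P`. -/
structure Cls (h : Setup F p E E T) (P : Subgroup Ω) : Prop where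
  le : P ≤ S
  qs : SelfC F T (P ⊓ T)
  notTop : ¬ T ≤ P
  sat : ∀ Q R : Subgroup Ω, (prodSys h).IsConj P Q → Q < R → R ≤ S → SatAt (prodSys h) p R
  normalized : (prodSys h).IsFullyNormalized P

namespace Cls

variable (c : Cls h P)
include c

theorem qs_of (hQ : (prodSys h).IsConj P Q) : SelfC F T (Q ⊓ T) := by
  obtain ⟨g, hg, rfl⟩ := isConj_iff.1 hQ
  rw [img_inf_T h (isMap_F_of_prod h hg)]
  exact c.qs.map h.closed ((isMap_F_of_prod h hg).mono inf_le_left)

theorem not_T_le (hQ : (prodSys h).IsConj P Q) : ¬ T ≤ Q := by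
  intro hT
  obtain ⟨g, hg, rfl⟩ := isConj_iff.1 hQ
  have hgF := isMap_F_of_prod h hg
  refine c.notTop (le_of_eq_of_le (b := P ⊓ T) ?_ inf_le_left)
  have h1 : Nat.card (P ⊓ T : Subgroup Ω) = Nat.card T := by
    rw [← (hgF.mono inf_le_left).card_img, ← img_inf_T h hgF, inf_eq_right.2 hT]
  exact (eq_of_le_of_card_le h.hTS inf_le_right h1.ge).symm

theorem lt_self (hQ : (prodSys h).IsConj P Q) : Q < S :=
  lt_of_le_of_ne (isConj_le hQ).2 fun e => c.not_T_le hQ (e ▸ h.hTS)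

theorem exists_normalizing (hQ : (prodSys h).IsConj P Q) :
    ∃ t ∈ normalizerIn T Q, t ∉ Q := by
  have hQS := (isConj_le hQ).2
  have hB : Q ⊔ T ≤ S := sup_le hQS h.hTS
  haveI := finite_of_le hB
  haveI : Group.IsNilpotent ↥(Q ⊔ T) := (h.pgroup.to_le hB).isNilpotent
  obtain ⟨z, hz, hzQ⟩ := SetLike.exists_of_lt
    (lt_inf_normalizer (le_sup_left : Q ≤ Q ⊔ T) fun e => c.not_T_le hQ (e ▸ le_sup_right))
  have hz' : z ∈ ((Q ⊔ T : Subgroup Ω) : Set Ω) := hz.1
  rw [coe_mul_of_left_le_normalizer_right Q T (hQS.trans h.normal)] at hz'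
  obtain ⟨q, hq, t, ht, rfl⟩ := Set.mem_mul.1 hz'
  refine ⟨t, ⟨ht, ?_⟩, fun htQ => hzQ (mul_mem hq htQ)⟩
  have h1 := mul_mem (inv_mem (Subgroup.le_normalizer hq)) hz.2
  rwa [inv_mul_cancel_left] at h1

theorem good_of_good_aux : ∀ (d : ℕ) (A Q : Subgroup Ω) (ψ : Ω → Ω),
    Nat.card S - Nat.card A = d → (prodSys h).IsConj P Q → Q < A → A ≤ normalizerIn S Q →
      IsMap (prodSys h) A ψ →
      (FamilySat.Good (prodSys h) P Q ↔ FamilySat.Good (prodSys h) P (img Q ψ)) := by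
  have hS := h.pgroup
  intro d
  induction d using Nat.strong_induction_on with
  | _ d ih =>
  suffices key : ∀ (A Q : Subgroup Ω) (ψ : Ω → Ω), Nat.card S - Nat.card A = d →
      (prodSys h).IsConj P Q → Q < A → A ≤ normalizerIn S Q → IsMap (prodSys h) A ψ →
      FamilySat.Good (prodSys h) P (img Q ψ) → FamilySat.Good (prodSys h) P Q by
    intro A Q ψ hd hQ hQA hAQ hψ
    refine ⟨fun hg => ?_, key A Q ψ hd hQ hQA hAQ hψ⟩
    obtain ⟨ψ', hψ', hψ'1, -⟩ := hψ.exists_inv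
    have hψQ := hψ.mono hQA.le
    have hlt : img Q ψ < img A ψ := lt_of_le_of_ne (hψ.img_mono hQA.le) fun e => by
      have h1 := card_lt_of_lt hψ.le hQA
      rw [← hψ.card_img, ← e, hψQ.card_img] at h1
      exact lt_irrefl _ h1
    refine key (img A ψ) (img Q ψ) ψ' (by rw [hψ.card_img, hd])
      (isConj_trans hQ (isConj_iff.2 ⟨ψ, hψQ, rfl⟩)) hlt (fun y hy => ?_) hψ' ?_
    · obtain ⟨x, hx, rfl⟩ := hψ.mem_img.1 hy
      exact map_mem_normalizerIn hψ hQA.le hx (hAQ hx).2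
    · rwa [img_img hψQ, IsMap.img_congr (f := ψ' ∘ ψ) (g := id) fun x hx => hψ'1 x (hQA.le hx),
        img_id]
  intro A Q ψ hd hQ hQA hAQ hψ hgood
  obtain ⟨g, hg, hgP⟩ := hgood
  have hψQ := hψ.mono hQA.le
  have hψN : ∀ x ∈ A, ψ x ∈ normalizerIn S (img Q ψ) := fun x hx =>
    map_mem_normalizerIn hψ hQA.le hx (hAQ hx).2
  have hψ' : IsMap (prodSys h) A (g ∘ ψ) := hψ.comp hg hψN
  have himg : img Q (g ∘ ψ) = P := by rw [← img_img hψQ, hgP]
  by_cases hA : A = normalizerIn S Q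
  · exact ⟨g ∘ ψ, hA ▸ hψ', himg⟩
  have hlt : A < normalizerIn S Q := lt_of_le_of_ne hAQ hA
  have hAS : A ≤ S := hψ.le
  haveI : Finite (normalizerIn S Q) := finite_of_le (inf_le_left : normalizerIn S Q ≤ S)
  haveI : Group.IsNilpotent (normalizerIn S Q) :=
    (hS.to_le inf_le_left : IsPGroup p (normalizerIn S Q)).isNilpotent
  obtain ⟨n₀, hn₀, hn₀A⟩ := SetLike.exists_of_lt (lt_inf_normalizer hAQ hA)
  have hle : img A (g ∘ ψ) ≤ normalizerIn S (img Q (g ∘ ψ)) := fun y hy => by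
    obtain ⟨x, hx, rfl⟩ := hψ'.mem_img.1 hy
    exact map_mem_normalizerIn hψ' hQA.le hx (hAQ hx).2
  have hB : img A (g ∘ ψ) < normalizerIn S (img Q (g ∘ ψ)) := by
    refine lt_of_le_of_ne hle fun e => ?_
    have h1 := card_lt_of_lt (inf_le_left : normalizerIn S Q ≤ S) hlt
    rw [← hψ'.card_img, e, himg] at h1
    exact absurd (c.normalized.2 Q hQ) (not_le.2 h1)
  have key := rel_of_stab (Rel := fun Q f =>
      FamilySat.Good (prodSys h) P Q ↔ FamilySat.Good (prodSys h) P (img Q f))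
    (Pred := fun _ _ => True) hS
    ⟨fun Q f g h1 he => by rwa [IsMap.img_congr he],
      fun Q f g _ hf _ h1 h2 => h1.trans (by rwa [← img_img hf]),
      fun Q f f' _ hf hf' he h1 => by
        rw [img_img hf, IsMap.img_congr (f := f' ∘ f) (g := id) he, img_id]
        exact h1.symm⟩
    (fun _ _ _ _ _ _ _ _ => trivial) (c.sat Q A hQ hQA hAS) hQ hψ' hQA hAQ hn₀ hn₀A trivial hB
    (fun X Q' g' hQ' hX hQX hXN hg' => ih _ (by
      have : Nat.card X ≤ Nat.card S := card_le_of_le' le_rfl hg'.le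
      omega) X Q' g' rfl hQ' hQX hXN hg')
    (fun C Q' _ hQ'C _ _ _ hCa _ _ _ _ k hk => by
      have hm := ((mem_autGroup_iff hCa.1).1 hk.1).mono hQ'C
      show _ ↔ FamilySat.Good (prodSys h) P (img Q' (autFun k))
      rw [img_eq_of_map_le (hQ'C.trans hCa.1) hm le_rfl hk.2])
  rw [himg] at key
  exact key.2 ⟨id, isMap_id inf_le_left, img_id⟩

theorem good_iff_of_map {R Q : Subgroup Ω} {g : Ω → Ω} (hg : IsMap (prodSys h) R g) (hQR : Q < R)
    (hQ : (prodSys h).IsConj P Q) :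
    FamilySat.Good (prodSys h) P Q ↔ FamilySat.Good (prodSys h) P (img Q g) := by
  haveI := finite_of_le hg.le
  haveI : Group.IsNilpotent R := (h.pgroup.to_le hg.le).isNilpotent
  exact c.good_of_good_aux _ (normalizerIn R Q) Q g rfl hQ
    (lt_inf_normalizer hQR.le hQR.ne) (inf_le_inf_right _ hg.le) (hg.mono inf_le_left)

theorem good_iff_of_prMap {U : Subgroup Ω} {g : Ω → Ω} (hg : PrMap h U g) :
    ∀ Q, Q ≤ U → (prodSys h).IsConj P Q →
      (FamilySat.Good (prodSys h) P Q ↔ FamilySat.Good (prodSys h) P (img Q g)) := by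
  induction hg with
  | @conj U s hU hs =>
    intro Q _ hQ
    exact c.good_iff_of_map (isMap_conj le_rfl hs) (c.lt_self hQ) hQ
  | @gen R U a hR hs ha hco hle =>
    intro Q hQU hQ
    rcases eq_or_lt_of_le (hQU.trans hle) with rfl | hlt
    · rw [img_autFun]
    · exact c.good_iff_of_map ((mem_autGroup_iff hR).1 (gen_mem_autGroup h hR hs ha hco)) hlt hQ
  | @comp U R f g h1 h2 hm ih1 ih2 =>
    intro Q hQU hQ
    have hf := ((isMap_prodSys h).2 h1).mono hQU
    rw [← img_img hf]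
    exact (ih1 Q hQU hQ).trans (ih2 _ (hf.img_le_of_forall fun x hx => hm x (hQU hx))
      (isConj_trans hQ (isConj_iff.2 ⟨f, hf, rfl⟩)))
  | @congr U f g _ he ih =>
    intro Q hQU hQ
    rw [IsMap.img_congr (f := g) (g := f) fun x hx => he x (hQU hx)]
    exact ih Q hQU hQ

theorem good (hQ : (prodSys h).IsConj P Q) : FamilySat.Good (prodSys h) P Q := by
  obtain ⟨g, hg, himg⟩ := isConj_iff.1 hQ
  have h1 := c.good_iff_of_prMap ((isMap_prodSys h).1 hg) P le_rfl (isConj_refl c.le)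
  rw [himg] at h1
  exact h1.1 ⟨id, isMap_id inf_le_left, img_id⟩

theorem toP_spec (hQ : (prodSys h).IsConj P Q) :
    IsMap (prodSys h) (normalizerIn S Q) (toP (prodSys h) P Q) ∧
      img Q (toP (prodSys h) P Q) = P := by
  unfold FamilySat.toP
  by_cases e : Q = P
  · rw [if_pos e, img_id]
    exact ⟨isMap_id inf_le_left, e⟩
  · rw [if_neg e, dif_pos (c.good hQ)]
    exact (c.good hQ).choose_spec

theorem toP_mem (hQ : (prodSys h).IsConj P Q) {x : Ω} (hx : x ∈ Q) :
    toP (prodSys h) P Q x ∈ P :=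
  (c.toP_spec hQ).2.le (((c.toP_spec hQ).1.mono (le_normalizerIn (isConj_le hQ).2)).mem_img.2
    ⟨x, hx, rfl⟩)

omit c in
/-- The lifting relation. -/
abbrev LiftRel (h : Setup F p E E T) (P : Subgroup Ω) (hP : P ≤ S) :
    Subgroup Ω → (Ω → Ω) → Prop :=
  FamilySat.Lift (prodSys h) P (aZero h P ⊔ extT h P hP)

theorem classRel_lift : ClassRel (prodSys h) P (LiftRel h P c.le) := by
  constructor
  · rintro Q f g ⟨a, ha, hae⟩ he
    refine ⟨a, ha, fun x hx => ?_⟩
    rw [IsMap.img_congr he, he x hx]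
    exact hae x hx
  · rintro Q f g hQ hf - ⟨a, ha, hae⟩ ⟨b, hb, hbe⟩
    refine ⟨b * a, mul_mem hb ha, fun x hx => ?_⟩
    have hfx : f x ∈ img Q f := hf.mem_img.2 ⟨x, hx, rfl⟩
    rw [autFun_mul _ _ (c.toP_mem hQ hx), hae x hx, hbe _ hfx, img_img hf]
    rfl
  · rintro Q f f' hQ hf - he ⟨a, ha, hae⟩
    refine ⟨a⁻¹, inv_mem ha, fun y hy => ?_⟩
    obtain ⟨x, hx, rfl⟩ := hf.mem_img.1 hy
    rw [img_img hf, IsMap.img_congr (f := f' ∘ f) (g := id) he, img_id, he x hx, ← hae x hx,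
      ← autFun_mul _ _ (c.toP_mem hQ hx), inv_mul_cancel, autFun_one (c.toP_mem hQ hx)]

theorem lift_aSub (hQ : (prodSys h).IsConj P Q) {b : MulAut Q} (hb : b ∈ aSub h Q)
    (hco : (orderOf b).Coprime p) : LiftRel h P c.le Q (autFun b) := by
  obtain ⟨ht, htP⟩ := c.toP_spec hQ
  have hti := (isMap_F_of_prod h ht).mono (le_normalizerIn (isConj_le hQ).2)
  obtain ⟨a, ha, hae, hao⟩ := exists_aSub_transport hti htP hb
  refine ⟨a, Subgroup.mem_sup_left (mem_aZero ha (by rwa [hao])), fun x hx => ?_⟩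
  rw [img_autFun]
  exact hae x hx

theorem lift_of_core
    (hcore : ∀ (A : Subgroup Ω) (ψ : Ω → Ω), P < A → A ≤ normalizerIn S P →
      IsMap (prodSys h) A ψ → img P ψ = P → Nat.card A = Nat.card X →
      ∃ a ∈ aZero h P ⊔ extT h P c.le, ∀ x ∈ P, autFun a x = ψ x)
    {g : Ω → Ω} (hQ : (prodSys h).IsConj P Q) (hQX : Q < X) (hXN : X ≤ normalizerIn S Q)
    (hg : IsMap (prodSys h) X g) : LiftRel h P c.le Q g := by
  obtain ⟨ht, htP⟩ := c.toP_spec hQ
  have hgQ := hg.mono hQX.le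
  have hQ' : (prodSys h).IsConj P (img Q g) := isConj_trans hQ (isConj_iff.2 ⟨g, hgQ, rfl⟩)
  obtain ⟨ht', ht'P⟩ := c.toP_spec hQ'
  have htX := ht.mono hXN
  obtain ⟨t₁, ht₁, ht₁1, ht₁2⟩ := htX.exists_inv
  have hgN : ∀ x ∈ X, g x ∈ normalizerIn S (img Q g) := fun x hx =>
    map_mem_normalizerIn hg hQX.le hx (hXN hx).2
  have hψ : IsMap (prodSys h) (img X (toP (prodSys h) P Q))
      ((toP (prodSys h) P (img Q g) ∘ g) ∘ t₁) :=
    ht₁.comp (hg.comp ht' hgN) fun y hy => (ht₁2 y hy).1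
  have hPle : P ≤ img X (toP (prodSys h) P Q) := htP.ge.trans (htX.img_mono hQX.le)
  have hlt : P < img X (toP (prodSys h) P Q) := lt_of_le_of_ne hPle fun e => by
    have h1 := card_lt_of_lt hg.le hQX
    rw [← htX.card_img, ← e, isConj_card hQ] at h1
    exact lt_irrefl _ h1
  have hval : ∀ x ∈ Q, ((toP (prodSys h) P (img Q g) ∘ g) ∘ t₁) (toP (prodSys h) P Q x) =
      toP (prodSys h) P (img Q g) (g x) := fun x hx => by
    show toP (prodSys h) P (img Q g) (g (t₁ (toP (prodSys h) P Q x))) = _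
    rw [ht₁1 x (hQX.le hx)]
  obtain ⟨a, ha, hae⟩ := hcore _ _ hlt (fun y hy => by
      obtain ⟨x, hx, rfl⟩ := htX.mem_img.1 hy
      have h1 := map_mem_normalizerIn ht (le_normalizerIn (isConj_le hQ).2) (hXN hx) (hXN hx).2
      rwa [htP] at h1) hψ (img_eq_of_map_le c.le (hψ.mono hPle) le_rfl fun y hy => by
        obtain ⟨x, hx, rfl⟩ := (htX.mono hQX.le).mem_img.1 (htP.ge hy)
        rw [hval x hx]
        exact c.toP_mem hQ' (hgQ.mem_img.2 ⟨x, hx, rfl⟩)) htX.card_img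
  exact ⟨a, ha, fun x hx => by rw [hae _ (c.toP_mem hQ hx), hval x hx]⟩

theorem lift_stab {C : Subgroup Ω} [Finite Q] (hQC : Q ≤ C)
    (IH : ∀ (X Q : Subgroup Ω) (g : Ω → Ω), (prodSys h).IsConj P Q →
      Nat.card C < Nat.card X → Q < X → X ≤ normalizerIn S Q → IsMap (prodSys h) X g →
      LiftRel h P c.le Q g)
    (hQ : (prodSys h).IsConj P Q) (hQlt : Q < C) (ha : (prodSys h).IsFullyAutomized p C)
    (hr : (prodSys h).IsReceptive C)
    {n₀ : Ω} (hn₀ : n₀ ∈ normalizerIn (normalizerIn S C) Q) (hn₀C : n₀ ∉ C) (hp₀ : n₀ ∈ T)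
    (hT : ¬ p ∣ (autInducedBy S C ⊓ autStab ((prodSys h).autGroup C) Q hQC).relIndex
      (autStab ((prodSys h).autGroup C) Q hQC))
    (hCN : C ≤ normalizerIn S Q) {k : MulAut C}
    (hk : k ∈ autStab ((prodSys h).autGroup C) Q hQC) :
    LiftRel h P c.le Q (autFun k) := by
  have hCS : C ≤ S := ha.1
  have hQS : Q ≤ S := hQC.trans hCS
  haveI := finite_of_le hCS
  haveI := finite_mulAut (P := C)
  haveI := finite_mulAut (P := Q)
  set K := autStab ((prodSys h).autGroup C) Q hQC with hK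
  set A := (autInducedBy S C).subgroupOf K with hAdef
  have hAp : IsPGroup p A := (isPGroup_autInducedBy h.pgroup).comap_subtype
  have hAi : ¬ p ∣ A.index := by
    have e : A.index = (autInducedBy S C ⊓ K).relIndex K := by
      rw [Subgroup.inf_relIndex_right]; rfl
    rwa [e]
  set D := (aSub h C).subgroupOf K with hD
  haveI : D.Normal := ⟨fun d hd g => aSub_conj hCS
    ((mem_autGroup_iff hCS).2 (isMap_F_of_prod h ((mem_autGroup_iff hCS).1 g.2.1)))
      (Subgroup.mem_subgroupOf.1 hd)⟩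
  obtain ⟨n, d, hnd, hd, hn, hi⟩ :=
    FamilySat.exists_frattini (D := D) h.pgroup hAp hAi ⟨k, hk⟩
  have hcl := c.classRel_lift
  have hmK : ∀ a : K, IsMap (prodSys h) Q (autFun (a : MulAut C)) ∧
      img Q (autFun (a : MulAut C)) = Q := fun a => by
    have hm := ((mem_autGroup_iff hCS).1 a.2.1).mono hQC
    exact ⟨hm, img_eq_of_map_le hQS hm le_rfl a.2.2⟩
  obtain ⟨G₀, hG₀⟩ : ∃ G₀ : Subgroup K,
      ∀ a : K, a ∈ G₀ ↔ LiftRel h P c.le Q (autFun (a : MulAut C)) := ⟨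
    { carrier := {a | LiftRel h P c.le Q (autFun (a : MulAut C))}
      one_mem' := ⟨1, one_mem _, fun x hx => by
        rw [(hmK 1).2, autFun_one (c.toP_mem hQ hx), OneMemClass.coe_one, autFun_one (hQC hx)]⟩
      mul_mem' := fun {a b} ha hb => by
        have h1 := hcl.comp Q _ (autFun (a : MulAut C)) hQ (hmK b).1
          (by rw [(hmK b).2]; exact (hmK a).1) hb (by rwa [(hmK b).2])
        exact hcl.congr Q _ _ h1 fun x hx => autFun_mul _ _ (hQC hx)
      inv_mem' := fun {a} ha => by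
        have h1 := hcl.inv Q _ (autFun ((a⁻¹ : K) : MulAut C)) hQ (hmK a).1
          (by rw [(hmK a).2]; exact (hmK a⁻¹).1)
          (fun x hx => by rw [InvMemClass.coe_inv]; exact PPrime.autFun_symm (hQC hx)) ha
        rwa [(hmK a).2] at h1 }, fun a => Iff.rfl⟩
  have hNc : Nat.card C < Nat.card (normalizerIn S Q) :=
    card_lt_of_lt inf_le_left (lt_of_le_of_ne hCN fun e => hn₀C (e ▸ ⟨hn₀.1.1, hn₀.2⟩))
  have hAG : A ≤ G₀ := fun a haA => by
    obtain ⟨u, hu, hux⟩ := mem_autInducedBy_iff.1 (Subgroup.mem_subgroupOf.1 haA)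
    exact (hG₀ a).2 <| hcl.congr Q _ _ (IH (normalizerIn S Q) Q _ hQ hNc (hQlt.trans_le hCN) le_rfl
      (isMap_conj inf_le_left hu)) fun x hx => hux x (hQC hx)
  have hdG : d ∈ G₀ := by
    let Sy : Sylow p D := ((hAp.to_le inf_le_left).of_equiv
      (Subgroup.subgroupOfEquivOfLe (inf_le_right : A ⊓ D ≤ D)).symm).toSylow hi
    have htop := pResidual_sup_sylow (p := p) (G := D) Sy
    suffices key : (⊤ : Subgroup D) ≤ G₀.subgroupOf D from
      Subgroup.mem_subgroupOf.1 (key (Subgroup.mem_top (⟨d, hd⟩ : D)))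
    rw [← htop]
    refine sup_le ((Subgroup.closure_le _).2 fun z hz => ?_) fun z hz =>
      Subgroup.mem_subgroupOf.2 (hAG (Subgroup.mem_inf.1 (Subgroup.mem_subgroupOf.1 hz)).1)
    refine Subgroup.mem_subgroupOf.2 ((hG₀ _).2 ?_)
    set res := autRes ((prodSys h).autGroup C) Q hQC (z : K) with hres
    have hzco : (orderOf res).Coprime p := by
      refine Nat.Coprime.coprime_dvd_left (orderOf_map_dvd _ (z : K)) ?_
      have h1 : Nat.Coprime (orderOf z) p := hz
      rwa [← Subgroup.orderOf_coe] at h1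
    exact hcl.congr Q _ _ (c.lift_aSub hQ (b := res)
      (aSub_res hQC hCS (fun x hx => (autFun_autRes (z : K) hx).symm)
        (Subgroup.mem_subgroupOf.1 z.2)) hzco) fun x hx => (autFun_autRes (z : K) hx).symm
  have hnG : n ∈ G₀ := by
    have hnK : (n : MulAut C) ∈ K := n.2
    obtain ⟨g, hg, hge⟩ := (isReceptive_iff.1 hr).2 C (autFun (n : MulAut C))
      ((mem_autGroup_iff hCS).1 hnK.1) (img_autFun _)
    set X := extSub S C (autFun (n : MulAut C)) ⊓ normalizerIn S Q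
    have hCX : C ≤ X := le_inf (le_extSub ((mem_autGroup_iff hCS).1 hnK.1)) hCN
    have hn₀X : n₀ ∈ X := by
      have hcK : conjAut n₀ hn₀.1.2 ∈ K := ⟨autInducedBy_le_autGroup hCS
        (conjAut_mem hn₀.1.1 hn₀.1.2), fun x hx => by
          rw [autFun_conjAut hn₀.1.2 (hQC hx)]
          exact (Subgroup.mem_normalizer_iff.1 hn₀.2 x).1 hx⟩
      have hcT : (⟨_, hcK⟩ : K) ∈ A ⊓ D := by
        refine Subgroup.mem_inf.2 ⟨Subgroup.mem_subgroupOf.2 (conjAut_mem hn₀.1.1 hn₀.1.2),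
          Subgroup.mem_subgroupOf.2 ⟨autInducedBy_le_autGroup hCS
            (conjAut_mem hn₀.1.1 hn₀.1.2), fun x hx => ?_, ?_⟩⟩
        · rw [autFun_conjAut hn₀.1.2 hx, show x⁻¹ * (n₀ * x * n₀⁻¹) = (x⁻¹ * n₀ * x) * n₀⁻¹ by group]
          refine T.mul_mem ?_ (T.inv_mem hp₀)
          have h1 := (Subgroup.mem_normalizer_iff.1 (h.normal (inv_mem (hCS hx))) n₀).1 hp₀
          simpa using h1
        · exact (isMap_conj inf_le_right hp₀).congr fun x hx => autFun_conjAut hn₀.1.2 hx.1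
      have h1 := Subgroup.mem_subgroupOf.1
        (Subgroup.mem_inf.1 ((Subgroup.mem_normalizer_iff.1 hn _).1 hcT)).1
      obtain ⟨u, hu, hux⟩ := mem_autInducedBy_iff.1 h1
      refine Subgroup.mem_inf.2 ⟨⟨hn₀.1, u, hu, fun x hx => ?_⟩, hn₀.1.1, hn₀.2⟩
      rw [Subgroup.coe_mul, Subgroup.coe_mul, Subgroup.coe_inv] at hux
      rw [← hux _ (autFun_mem _ hx), ← autFun_mul _ _ hx, inv_mul_cancel_right, autFun_mul _ _ hx,
        autFun_conjAut hn₀.1.2 hx]
    have hXc : Nat.card C < Nat.card X :=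
      card_lt_of_lt (inf_le_right.trans inf_le_left) (lt_of_le_of_ne hCX fun e => hn₀C (e ▸ hn₀X))
    exact (hG₀ n).2 <| hcl.congr Q g _
      (IH X Q g hQ hXc (hQlt.trans_le hCX) inf_le_right (hg.mono inf_le_left))
      fun x hx => (hge x (hQC hx)).symm
  have hkG : (⟨k, hk⟩ : K) ∈ G₀ := by
    rw [hnd]
    exact mul_mem hnG hdG
  have h1 : LiftRel h P c.le Q (autFun ((⟨k, hk⟩ : K) : MulAut C)) := (hG₀ ⟨k, hk⟩).1 hkG
  exact h1

theorem core : ∀ (d : ℕ) (A : Subgroup Ω) (ψ : Ω → Ω), Nat.card S - Nat.card A = d →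
    P < A → A ≤ normalizerIn S P → IsMap (prodSys h) A ψ → img P ψ = P →
      ∃ a ∈ aZero h P ⊔ extT h P c.le, ∀ x ∈ P, autFun a x = ψ x := by
  intro d
  induction d using Nat.strong_induction_on with
  | _ d ih =>
  intro A ψ hd hPA hAN hψ hψP
  have hψP' := hψ.mono hPA.le
  by_cases hRA : rad T P ≤ A
  · refine ⟨autOf hψP' hψP, Subgroup.mem_sup_right ⟨ψ, hψ.mono hRA, fun x hx => ?_⟩,
      fun x hx => autFun_autOf hψP' hψP hx⟩
    rw [autFun_autOf hψP' hψP hx]
  set V := normalizerIn T P with hV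
  have hnV : A ≤ Subgroup.normalizer (V : Set Ω) := fun a ha => Subgroup.mem_normalizer_iff.2 fun t =>
    and_congr (Subgroup.mem_normalizer_iff.1 (h.normal (hAN ha).1) t)
      (Subgroup.mem_normalizer_iff.1 (Subgroup.le_normalizer (hAN ha).2) t)
  have hARN : A ⊔ V ≤ normalizerIn S P := sup_le hAN (inf_le_inf_right _ h.hTS)
  haveI := finite_of_le (hARN.trans inf_le_left : A ⊔ V ≤ S)
  haveI : Group.IsNilpotent ↥(A ⊔ V) := (h.pgroup.to_le (hARN.trans inf_le_left)).isNilpotent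
  obtain ⟨z, hz, hzA⟩ := SetLike.exists_of_lt
    (lt_inf_normalizer (le_sup_left : A ≤ A ⊔ V) fun e =>
      hRA (sup_le hPA.le (e ▸ le_sup_right)))
  have hz' : z ∈ ((A ⊔ V : Subgroup Ω) : Set Ω) := hz.1
  rw [coe_mul_of_left_le_normalizer_right A V hnV] at hz'
  obtain ⟨a₀, ha₀, r, hr, rfl⟩ := Set.mem_mul.1 hz'
  have hrA : r ∉ A := fun hrA => hzA (mul_mem ha₀ hrA)
  have hrN : r ∈ Subgroup.normalizer (A : Set Ω) := by
    have h1 := mul_mem (inv_mem (Subgroup.le_normalizer ha₀)) hz.2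
    rwa [inv_mul_cancel_left] at h1
  have hrS : r ∈ normalizerIn S P := ⟨h.hTS hr.1, hr.2⟩
  have hAlt : Nat.card A < Nat.card (normalizerIn S P) :=
    card_lt_of_lt inf_le_left (lt_of_le_of_ne hAN fun e => hrA (e ▸ hrS))
  have hBle : img A ψ ≤ normalizerIn S (img P ψ) := fun y hy => by
    obtain ⟨x, hx, rfl⟩ := hψ.mem_img.1 hy
    exact map_mem_normalizerIn hψ hPA.le hx (hAN hx).2
  have hB : img A ψ < normalizerIn S (img P ψ) := lt_of_le_of_ne hBle fun e => by
    rw [← hψ.card_img, e, hψP] at hAlt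
    exact lt_irrefl _ hAlt
  have hIH : ∀ (X Q : Subgroup Ω) (g : Ω → Ω), (prodSys h).IsConj P Q →
      Nat.card A < Nat.card X → Q < X →
      X ≤ normalizerIn S Q → IsMap (prodSys h) X g → LiftRel h P c.le Q g := by
    intro X Q g hQ hX hQX hXN hg
    refine c.lift_of_core (fun A' ψ' h1 h2 h3 h4 h5 => ih _ ?_ A' ψ' rfl h1 h2 h3 h4) hQ hQX hXN hg
    have : Nat.card X ≤ Nat.card S := card_le_of_le' le_rfl hg.le
    omega
  obtain ⟨a, ha, hae⟩ := rel_of_stab (Pred := fun _ n => n ∈ T) h.pgroup c.classRel_lift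
    (fun X f Q n hf _ hn hp => cl_mem h.closed (isMap_F_of_prod h hf) hn hp)
    (c.sat P A (isConj_refl c.le) hPA hψ.le) (isConj_refl c.le)
    hψ hPA hAN (n₀ := r) ⟨hrS, hrN⟩ hrA hr.1 hB hIH
    (fun C Q' _ hQ'C hC hQ' hlt hCa hCr hn hT hCN k hk => by
      obtain ⟨n, hn, hnC, hp⟩ := hn
      exact c.lift_stab hQ'C (fun X Q g hQ hX => hIH X Q g hQ (hC ▸ hX)) hQ' hlt hCa hCr hn hnC
        hp hT hCN hk)
  refine ⟨a, ha, fun x hx => ?_⟩
  have h1 := hae x hx
  rwa [hψP, show toP (prodSys h) P P = id from if_pos rfl] at h1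

theorem lift_of_map {X : Subgroup Ω} {g : Ω → Ω} (hQ : (prodSys h).IsConj P Q) (hQX : Q < X)
    (hg : IsMap (prodSys h) X g) : LiftRel h P c.le Q g := by
  haveI := finite_of_le hg.le
  haveI : Group.IsNilpotent X := (h.pgroup.to_le hg.le).isNilpotent
  exact c.lift_of_core (fun A' ψ' h1 h2 h3 h4 _ => c.core _ A' ψ' rfl h1 h2 h3 h4) hQ
    (X := normalizerIn X Q) (lt_inf_normalizer hQX.le hQX.ne) (inf_le_inf_right _ hg.le)
    (hg.mono inf_le_left)

theorem lift_of_prMap {U : Subgroup Ω} {g : Ω → Ω} (hg : PrMap h U g) :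
    ∀ Q, Q ≤ U → (prodSys h).IsConj P Q → LiftRel h P c.le Q g := by
  induction hg with
  | @conj U s hU hs =>
    intro Q _ hQ
    exact c.lift_of_map hQ (c.lt_self hQ) (isMap_conj le_rfl hs)
  | @gen R U a hR hs ha hco hle =>
    intro Q hQU hQ
    rcases eq_or_lt_of_le (hQU.trans hle) with rfl | hlt
    · exact c.lift_aSub hQ ha hco
    · exact c.lift_of_map hQ hlt ((mem_autGroup_iff hR).1 (gen_mem_autGroup h hR hs ha hco))
  | @comp U R f g h1 h2 hm ih1 ih2 =>
    intro Q hQU hQ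
    have hf := ((isMap_prodSys h).2 h1).mono hQU
    have hle : img Q f ≤ R := hf.img_le_of_forall fun x hx => hm x (hQU hx)
    exact c.classRel_lift.comp Q f g hQ hf (((isMap_prodSys h).2 h2).mono hle) (ih1 Q hQU hQ)
      (ih2 _ hle (isConj_trans hQ (isConj_iff.2 ⟨f, hf, rfl⟩)))
  | @congr U f g _ he ih =>
    intro Q hQU hQ
    exact c.classRel_lift.congr Q f g (ih Q hQU hQ) fun x hx => he x (hQU hx)

/-- The automizer is generated by `aZero` and the extending automorphisms. -/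
theorem autGroup_le : (prodSys h).autGroup P ≤ aZero h P ⊔ extT h P c.le := by
  intro α hα
  have hm := (mem_autGroup_iff c.le).1 hα
  obtain ⟨a, ha, hae⟩ := c.lift_of_prMap ((isMap_prodSys h).1 hm) P le_rfl (isConj_refl c.le)
  rw [img_autFun, show toP (prodSys h) P P = id from if_pos rfl] at hae
  rwa [show α = a from autFun_ext fun x hx => (hae x hx).symm]

end Cls

end CfsgLib.Fusion.Product
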