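import Cfsg.Agent.Lib.Fusion.System.Meet.ProductSys
import Cfsg.Agent.Lib.Fusion.System.PPowerIndex

/-!
# The hyperfocal subgroup of the product

Elements of order prime to `p` in `aSub h P` move `P` inside the hyperfocal subgroup of `E`, every
map of the product is a conjugation by `S` followed by one moving its source inside `T` and lying
in `E` on the part in `T`, and the product has the same hyperfocal subgroup as `E`.
-/

set_option autoImplicit false
set_option maxHeartbeats 1000000
set_option linter.style.haveILetI false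
set_option linter.unusedSectionVars false

open Subgroup
open scoped Classical Pointwise

namespace CfsgLib.Fusion.Product

open Cfsg (FusionSystem autInducedBy)
open Cfsg.FusionSystem (normalizerIn centralizerIn)
open CfsgLib.Fusion CfsgLib.Fusion.CentLift CfsgLib.Fusion.Meet

universe u

variable {Ω : Type u} [Group Ω] {S T : Subgroup Ω} {F : FusionSystem S} {p : ℕ}
  {E : FusionSystem T} {P Q R : Subgroup Ω} {f g : Ω → Ω} [Finite S] [Fact p.Prime]

/-- An element of order prime to `p` in `aSub` moves `P` inside the hyperfocal subgroup of `E`. -/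
theorem disp_mem_hyperfocal (h : Setup F p E E T) (hP : P ≤ S) {a : MulAut P} (ha : a ∈ aSub h P)
    (hco : (orderOf a).Coprime p) {x : Ω} (hx : x ∈ P) :
    x⁻¹ * autFun a x ∈ E.hyperfocalSubgroup p := by
  have hTS := h.hTS
  haveI := finite_of_le hTS
  set K := E.hyperfocalSubgroup p with hK
  set V := P ⊓ T with hVdef
  have hVT : V ≤ T := inf_le_right
  have hst : ∀ v ∈ V, autFun a v ∈ V := fun v hv => aSub_stab ha hv
  have hi : img V (autFun a) = V := img_eq_of_map_le (S := T) hVT ha.2.2 le_rfl hst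
  set b : E.autGroup V := ⟨autOf ha.2.2 hi, autOf_mem ha.2.2 hi⟩ with hb
  have hbco : (orderOf b).Coprime p := by
    rw [← Subgroup.orderOf_coe]
    exact Nat.Coprime.coprime_dvd_left (orderOf_dvd_of_agree (Q := V) inf_le_left
      fun v hv => (autFun_autOf ha.2.2 hi hv).symm) hco
  have hV : ∀ v ∈ V, v⁻¹ * autFun a v ∈ V ⊓ K := fun v hv => Subgroup.mem_inf.2
    ⟨V.mul_mem (V.inv_mem hv) (hst v hv), by
      have h1 := mem_hyperfocal (F := E) hVT (mem_pResidual hbco) hv
      rwa [show autFun ((b : MulAut V)) v = autFun a v from autFun_autOf ha.2.2 hi hv] at h1⟩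
  set d := x⁻¹ * autFun a x with hd
  have hdV : d ∈ V := ⟨P.mul_mem (P.inv_mem hx) (autFun_mem a hx), ha.2.1 x hx⟩
  have key : ∀ k : ℕ, ∃ w ∈ V ⊓ K, autFun (a ^ k) x = x * d ^ k * w := by
    intro k
    induction k with
    | zero => exact ⟨1, one_mem _, by rw [pow_zero, autFun_one hx]; group⟩
    | succ k ih =>
      obtain ⟨w, hw, hwe⟩ := ih
      have hdk : d ^ k ∈ V := V.pow_mem hdV k
      have hwV : w ∈ V := (Subgroup.mem_inf.1 hw).1
      refine ⟨((d ^ k)⁻¹ * autFun a (d ^ k)) * (w * (w⁻¹ * autFun a w)),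
        mul_mem (hV _ hdk) (mul_mem hw (hV w hwV)), ?_⟩
      rw [pow_succ' a, autFun_mul _ _ hx, hwe,
        autFun_map_mul a (P.mul_mem hx hdk.1) hwV.1, autFun_map_mul a hx hdk.1,
        show autFun a x = x * d by rw [hd]; group, pow_succ' d]
      group
  obtain ⟨w, hw, hwe⟩ := key (orderOf a)
  rw [pow_orderOf_eq_one, autFun_one hx] at hwe
  have hdn : d ^ orderOf a ∈ K := by
    have h1 : d ^ orderOf a = x⁻¹ * (x * d ^ orderOf a * w) * w⁻¹ := by group
    rw [← hwe, inv_mul_cancel, one_mul] at h1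
    rw [h1]
    exact K.inv_mem (Subgroup.mem_inf.1 hw).2
  obtain ⟨j, hj⟩ := h.pgroup ⟨d, hP hdV.1⟩
  have hdp : d ^ p ^ j = 1 := congrArg Subtype.val hj
  obtain ⟨m, hm⟩ := exists_pow_eq_self_of_coprime (x := d) (n := orderOf a)
    (Nat.Coprime.coprime_dvd_right (orderOf_dvd_of_pow_eq_one hdp)
      (Nat.Coprime.pow_right j hco))
  rw [← hm]
  exact K.pow_mem hdn m

variable (h : Setup F p E E T)

/-- `f`, corrected by conjugation with `s`, moves `P` inside `T` and lies in `E` on `P ∩ T`. -/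
def Split (P : Subgroup Ω) (f : Ω → Ω) (s : Ω) : Prop :=
  s ∈ S ∧ (∀ x ∈ P, x⁻¹ * (s⁻¹ * f x * s) ∈ T) ∧ IsMap E (P ⊓ T) fun x => s⁻¹ * f x * s

theorem Split.congr {s : Ω} (hf : Split (S := S) (E := E) P f s) (he : ∀ x ∈ P, g x = f x) :
    Split (S := S) (E := E) P g s :=
  ⟨hf.1, fun x hx => by rw [he x hx]; exact hf.2.1 x hx,
    hf.2.2.congr fun x hx => by rw [he x hx.1]⟩

theorem Split.comp {s t : Ω} (hf : Split (S := S) (E := E) P f s)
    (hg : Split (S := S) (E := E) R g t) (hfm : IsMap F P f) (hm : ∀ x ∈ P, f x ∈ R) (h : Setup F p E E T) :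
    Split (S := S) (E := E) P (g ∘ f) (t * s) := by
  obtain ⟨hs, hfd, hfE⟩ := hf
  obtain ⟨ht, hgd, hgE⟩ := hg
  have hTn : ∀ {n : Ω}, n ∈ S → ∀ y ∈ T, n * y * n⁻¹ ∈ T := fun {n} hn y hy =>
    (Subgroup.mem_normalizer_iff.1 (h.normal hn) y).1 hy
  refine ⟨S.mul_mem ht hs, fun x hx => ?_, ?_⟩
  · have h1 := T.mul_mem (hfd x hx) (hTn (inv_mem hs) _ (hgd _ (hm x hx)))
    show x⁻¹ * ((t * s)⁻¹ * g (f x) * (t * s)) ∈ T
    convert h1 using 1
    group
  · have hconj : IsMap F T fun x => s⁻¹ * x * s⁻¹⁻¹ := isMap_conj h.hTS (inv_mem hs)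
    obtain ⟨k, hk, hke⟩ := h.side₁.inv (R ⊓ T) T (fun x => t⁻¹ * g x * t)
      (fun x => s⁻¹ * x * s⁻¹⁻¹) inf_le_right le_rfl hgE
      (fun x hx => by
        have h1 := T.mul_mem hx.2 (hgd x hx.1)
        rwa [mul_inv_cancel_left] at h1) hconj
    have hfx : ∀ x ∈ P ⊓ T, f x ∈ R ⊓ T := fun x hx => ⟨hm x hx.1, cl_mem h.closed hfm hx.1 hx.2⟩
    refine (hfE.comp hk fun x hx => (hconj.mono inf_le_right).mem_img.2
      ⟨f x, hfx x hx, by group⟩).congr fun x hx => ?_
    show (t * s)⁻¹ * g (f x) * (t * s) = k (s⁻¹ * f x * s)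
    rw [show s⁻¹ * f x * s = s⁻¹ * f x * s⁻¹⁻¹ by group, hke _ (hfx x hx)]
    group

variable {h}

/-- Every map of the product splits. -/
theorem PrMap.split (hf : PrMap h P f) : ∃ s, Split (S := S) (E := E) P f s := by
  induction hf with
  | @conj P s hP hs =>
    refine ⟨s, hs, fun x _ => ?_, (isMap_id inf_le_right).congr fun x _ => ?_⟩
    · rw [show x⁻¹ * (s⁻¹ * (s * x * s⁻¹) * s) = 1 by group]; exact one_mem _
    · show s⁻¹ * (s * x * s⁻¹) * s = x
      group
  | @gen R P a _ _ ha _ hle =>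
    exact ⟨1, one_mem _, fun x hx => by simpa using ha.2.1 x (hle hx),
      ((ha.2.2.mono (inf_le_inf_right T hle))).congr fun x _ => by simp⟩
  | @comp P R f g h1 h2 hm ih1 ih2 =>
    obtain ⟨s, hs⟩ := ih1
    obtain ⟨t, ht⟩ := ih2
    exact ⟨_, hs.comp ht h1.isMap hm h⟩
  | @congr P f g _ he ih =>
    obtain ⟨s, hs⟩ := ih
    exact ⟨s, hs.congr he⟩

/-- The elements of order prime to `p` of the automizers of the product lie in `aSub`. -/
theorem mem_aSub_of_prod (hP : P ≤ S) {a : MulAut P} (ha : a ∈ (prodSys h).autGroup P)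
    (hco : (orderOf a).Coprime p) : a ∈ aSub h P := by
  have hm := (mem_autGroup_iff hP).1 ha
  obtain ⟨s, hs⟩ := ((isMap_prodSys h).1 hm).split
  have hF : IsMap F P (autFun a) := isMap_F_of_prod h hm
  have key : ∀ k : ℕ, Split (S := S) (E := E) P (autFun (a ^ k)) (s ^ k) := by
    intro k
    induction k with
    | zero =>
      exact ⟨by simp, fun x hx => by simp [autFun_one hx],
        (isMap_id inf_le_right).congr fun x hx => by simp [autFun_one hx.1]⟩
    | succ k ih =>
      have h1 := ih.comp hs ((mem_autGroup_iff hP).1 (pow_mem ((mem_autGroup_iff hP).2 hF) k))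
        (fun x hx => autFun_mem _ hx) h
      rw [← pow_succ'] at h1
      exact h1.congr fun x hx => by rw [pow_succ' a, autFun_mul _ _ hx]; rfl
  obtain ⟨N, hN⟩ := IsPGroup.iff_card.1 h.pgroup
  have hsN : s ^ p ^ N = 1 := by
    have h1 : (⟨s, hs.1⟩ : S) ^ Nat.card S = 1 := pow_card_eq_one'
    rw [hN] at h1
    exact congrArg Subtype.val h1
  have h1 := key (p ^ N)
  rw [hsN] at h1
  have hmem : a ^ p ^ N ∈ aSub h P :=
    ⟨pow_mem ((mem_autGroup_iff hP).2 hF) _, fun x hx => by simpa using h1.2.1 x hx,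
      h1.2.2.congr fun x _ => by simp⟩
  obtain ⟨m, hm⟩ := Components.exists_pow_pow_eq hco N
  rw [← hm]
  exact pow_mem hmem m

/-- An element of order prime to `p` of an automizer of the product inside `T` lies in `E`. -/
theorem mem_autGroup_E_of_prod (hP : P ≤ T) {a : MulAut P} (ha : a ∈ (prodSys h).autGroup P)
    (hco : (orderOf a).Coprime p) : a ∈ E.autGroup P := by
  have h1 := (mem_aSub_of_prod (hP.trans h.hTS) ha hco).2.2
  rw [inf_eq_left.2 hP] at h1
  exact (mem_autGroup_iff hP).2 h1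

/-- The product has the hyperfocal subgroup of `E`. -/
theorem hyperfocal_prodSys (hE : E.IsNormalIn F p) :
    (prodSys h).hyperfocalSubgroup p = E.hyperfocalSubgroup p := by
  refine le_antisymm ((Subgroup.closure_le _).2 ?_) ((Subgroup.closure_le _).2 ?_)
  · rintro y ⟨P, α, x, hP, hα, rfl⟩
    have key : ∀ z ∈ P, z⁻¹ * autFun ((α : MulAut P)) z ∈ E.hyperfocalSubgroup p := by
      clear x
      unfold Cfsg.pResidual at hα
      induction hα using Subgroup.closure_induction with
      | mem a ha =>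
        intro z hz
        refine disp_mem_hyperfocal h hP (mem_aSub_of_prod hP a.2 ?_) ?_ hz
        all_goals
          have h1 : Nat.Coprime (orderOf a) p := ha
          rwa [← Subgroup.orderOf_coe] at h1
      | one => intro z hz; simp [autFun_one hz]
      | mul a b _ _ ha hb =>
        intro z hz
        have h1 := mul_mem (hb z hz) (ha _ (autFun_mem (b : MulAut P) hz))
        rw [Subgroup.coe_mul, autFun_mul _ _ hz]
        convert h1 using 1
        group
      | inv a _ ha =>
        intro z hz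
        have h1 := inv_mem (ha _ (autFun_mem ((a : MulAut P))⁻¹ hz))
        rw [InvMemClass.coe_inv]
        rw [PPrime.autFun_symm' hz] at h1
        simpa using h1
    have h1 := key _ x.2
    rwa [autFun_coe] at h1
  · rintro y ⟨P, α, x, hP, hα, rfl⟩
    have hsub : E.IsSubsystemOf (prodSys h) := fun P φ hφ =>
      mem_hom_iff.2 (isMap_prod_of_E (h := h) hE (isMap_toFun hφ))
    obtain ⟨β, hβ, hβe⟩ := residual_of_subsystem hsub h.hTS hP hα
    exact Subgroup.subset_closure ⟨P, β, x, hP.trans h.hTS, hβ, by rw [hβe]⟩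

end CfsgLib.Fusion.Product
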