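import Cfsg.Agent.Lib.Fusion.System.Meet.ProductRich

/-!
# Automorphisms agreeing on the part in the hyperfocal subgroup

The hyperfocal subgroup `H` of a normal subsystem is strongly closed. An automorphism of order
prime to `p` in `aSub h P` with `P ∩ H` self-centralizing in `H` commutes with those fixing `P ∩ H`
and moving `P` inside it, modulo conjugations by `Z(P ∩ H)`.
-/

set_option autoImplicit false
set_option maxHeartbeats 1000000
set_option linter.style.haveILetI false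
set_option linter.unusedSectionVars false

open Subgroup
open scoped Classical Pointwise

namespace CfsgLib.Fusion.Product

open Cfsg (FusionSystem autInducedBy)
open Cfsg.FusionSystem (normalizerIn centralizerIn)
open CfsgLib.Fusion CfsgLib.Fusion.CentLift CfsgLib.Fusion.Meet

universe u

variable {Ω : Type u} [Group Ω] {S T U : Subgroup Ω} {F : FusionSystem S} {p : ℕ}
  {E : FusionSystem T} {P Q R X V : Subgroup Ω} {f g : Ω → Ω}

/-- The automorphisms fixing `P ∩ K` and moving `P` inside `K`. -/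
def deltaIn (G : FusionSystem U) (K P : Subgroup Ω) : Subgroup (MulAut P) where
  carrier := {a | a ∈ G.autGroup P ∧ (∀ x ∈ P ⊓ K, autFun a x = x) ∧
    ∀ x ∈ P, x⁻¹ * autFun a x ∈ K}
  one_mem' := ⟨one_mem _, fun x hx => autFun_one hx.1, fun x hx => by
    rw [autFun_one hx, inv_mul_cancel]; exact one_mem _⟩
  mul_mem' := fun {a b} ha hb => ⟨mul_mem ha.1 hb.1, fun x hx => by
      rw [autFun_mul _ _ hx.1, hb.2.1 x hx, ha.2.1 x hx], fun x hx => by
      have h1 := mul_mem (hb.2.2 x hx) (ha.2.2 _ (autFun_mem b hx))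
      rw [show x⁻¹ * autFun b x * ((autFun b x)⁻¹ * autFun a (autFun b x)) =
        x⁻¹ * autFun a (autFun b x) by group, ← autFun_mul _ _ hx] at h1
      exact h1⟩
  inv_mem' := fun {a} ha => ⟨inv_mem ha.1, fun x hx => by
      conv_lhs => rw [← ha.2.1 x hx]
      exact PPrime.autFun_symm hx.1, fun x hx => by
      have h1 := inv_mem (ha.2.2 _ (autFun_mem a⁻¹ hx))
      rw [PPrime.autFun_symm' hx] at h1
      rwa [mul_inv_rev, inv_inv] at h1⟩

theorem mem_deltaIn {G : FusionSystem U} {K : Subgroup Ω} {a : MulAut P} :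
    a ∈ deltaIn G K P ↔ a ∈ G.autGroup P ∧ (∀ x ∈ P ⊓ K, autFun a x = x) ∧
      ∀ x ∈ P, x⁻¹ * autFun a x ∈ K := Iff.rfl

theorem deltaIn_conj {G : FusionSystem U} {K : Subgroup Ω} (hP : P ≤ U)
    (hK : ∀ (R : Subgroup Ω) (f : Ω → Ω), IsMap G R f → ∀ x ∈ R, x ∈ K → f x ∈ K)
    {a b : MulAut P} (ha : a ∈ G.autGroup P) (hb : b ∈ deltaIn G K P) :
    a * b * a⁻¹ ∈ deltaIn G K P := by
  have hm := (mem_autGroup_iff hP).1 ha
  refine ⟨mul_mem (mul_mem ha hb.1) (inv_mem ha), fun x hx => ?_, fun x hx => ?_⟩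
  · have hy : autFun a⁻¹ x ∈ P ⊓ K := ⟨autFun_mem _ hx.1,
      hK _ _ ((mem_autGroup_iff hP).1 (inv_mem ha)) _ hx.1 hx.2⟩
    rw [autFun_mul _ _ hx.1, autFun_mul _ _ hy.1, hb.2.1 _ hy, PPrime.autFun_symm' hx.1]
  · have hy := autFun_mem a⁻¹ hx
    have h1 := hK _ _ hm _ (mul_mem (inv_mem hy) (autFun_mem b hy)) (hb.2.2 _ hy)
    rw [hm.map_mul (inv_mem hy) (autFun_mem b hy), hm.map_inv hy, PPrime.autFun_symm' hx] at h1
    rwa [autFun_mul _ _ hx, autFun_mul _ _ hy]

variable [Finite S] [Fact p.Prime]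

theorem deltaIn_pow_eq_one {G : FusionSystem U} {K : Subgroup Ω} (hP : P ≤ S) {n : ℕ}
    (hn : Nat.card S = p ^ n) {a : MulAut P} (ha : a ∈ deltaIn G K P) : a ^ p ^ n = 1 :=
  autFun_ext fun x hx => by
    rw [pow_fix_step hP hn le_rfl (inf_le_left : P ⊓ K ≤ P) ha.2.1
      (fun y hy => Subgroup.mem_inf.2 ⟨mul_mem (inv_mem hy) (autFun_mem a hy), ha.2.2 y hy⟩) x hx, autFun_one hx]

theorem deltaIn_isPGroup {G : FusionSystem U} {K : Subgroup Ω} (hS : IsPGroup p S) (hP : P ≤ S) :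
    IsPGroup p (deltaIn G K P) := by
  obtain ⟨n, hn⟩ := IsPGroup.iff_card.1 hS
  exact fun a => ⟨n, Subtype.ext (deltaIn_pow_eq_one hP hn a.2)⟩

/-- Maps of a saturated system preserve its hyperfocal subgroup. -/
theorem map_mem_hyperfocal {G : FusionSystem S} (hS : IsPGroup p S) (hG : G.IsSaturated p)
    (hf : IsMap G R f) {x : Ω} (hx : x ∈ R) (hxK : x ∈ G.hyperfocalSubgroup p) :
    f x ∈ G.hyperfocalSubgroup p := by
  obtain ⟨c, hc⟩ := exists_chain hS hG hf
  have h1 := mul_mem (hc.mod absorbs_hyperfocal x hx)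
    ((Subgroup.mem_normalizer_iff.1 (absorbs_hyperfocal.normal hc.mem_S) x).1 hxK)
  rwa [inv_mul_cancel_right] at h1

variable (h : Setup F p E E T)
include h

/-- The hyperfocal subgroup of `E` is strongly closed in `F`. -/
theorem hyperfocal_closed (hf : IsMap F R f) {x : Ω} (hx : x ∈ R)
    (hxK : x ∈ E.hyperfocalSubgroup p) : f x ∈ E.hyperfocalSubgroup p := by
  haveI := finite_of_le h.hTS
  set K := E.hyperfocalSubgroup p with hK
  have hKT : K ≤ T := hyperfocal_le_S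
  obtain ⟨α, hα, k, hk, hke⟩ := decomp_of_strongInv h.pgroup h.sat h.closed h.side₁.sub h.side₁.inv
    (hf.mono (inf_le_left : R ⊓ T ≤ R)) inf_le_right
  rw [hke x ⟨hx, hKT hxK⟩]
  have hαm := (mem_autGroup_iff h.hTS).1 hα
  have key : ∀ y ∈ K, y ∈ T ∧ autFun α y ∈ K := by
    intro y hy
    rw [hK, FusionSystem.hyperfocalSubgroup] at hy
    induction hy using Subgroup.closure_induction with
    | mem y hy =>
      obtain ⟨P, β, z, hPT, hβ, rfl⟩ := hy
      refine ⟨T.mul_mem (T.inv_mem (hPT z.2)) (hPT (SetLike.coe_mem _)), ?_⟩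
      have hres : ∀ u ∈ P, autFun α (u⁻¹ * autFun ((β : MulAut P)) u) ∈ K := by
        clear z
        unfold Cfsg.pResidual at hβ
        induction hβ using Subgroup.closure_induction with
        | mem b hb =>
          intro u hu
          have hbm := (mem_autGroup_iff hPT).1 b.2
          have hαP := hαm.mono hPT
          obtain ⟨k, hk, hke⟩ := h.side₁.inv P P _ (autFun α) le_rfl hPT hbm
            (fun v hv => autFun_mem _ hv) hαP
          have hi : img (img P (autFun α)) k = img P (autFun α) := by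
            refine img_eq_of_map_le (S := T) hk.le hk le_rfl fun v hv => ?_
            obtain ⟨w, hw, rfl⟩ := hαP.mem_img.1 hv
            rw [hke w hw]
            exact hαP.mem_img.2 ⟨_, autFun_mem _ hw, rfl⟩
          set b' : E.autGroup (img P (autFun α)) := ⟨autOf hk hi, autOf_mem hk hi⟩
          have hco : (orderOf b').Coprime p := by
            rw [← Subgroup.orderOf_coe, show ((b' : MulAut (img P (autFun α)))) =
              MulAut.congr (mapEquiv hαP) (b : MulAut P) from autFun_ext fun v hv => ?_,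
              MulEquiv.orderOf_eq, Subgroup.orderOf_coe]
            · exact hb
            obtain ⟨w, hw, rfl⟩ := hαP.mem_img.1 hv
            rw [autFun_congr hαP _ hw, ← hke w hw]
            exact autFun_autOf hk hi hv
          have hv : autFun α u ∈ img P (autFun α) := hαP.mem_img.2 ⟨u, hu, rfl⟩
          have h1 := mem_hyperfocal hk.le (mem_pResidual hco) hv
          rw [show autFun ((b' : MulAut (img P (autFun α)))) (autFun α u) = k (autFun α u) from
            autFun_autOf hk hi hv, hke u hu] at h1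
          rw [hαP.map_mul (inv_mem hu) (autFun_mem _ hu), hαP.map_inv hu]
          exact h1
        | one =>
          intro u hu
          rw [OneMemClass.coe_one, autFun_one hu, inv_mul_cancel, hαm.map_one]
          exact one_mem _
        | mul a b _ _ ha hb =>
          intro u hu
          have hbu := autFun_mem (b : MulAut P) hu
          have h1 := mul_mem (hb u hu) (ha _ hbu)
          rw [← hαm.map_mul (T.mul_mem (T.inv_mem (hPT hu)) (hPT hbu))
            (T.mul_mem (T.inv_mem (hPT hbu)) (hPT (autFun_mem _ hbu))),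
            show u⁻¹ * autFun (b : MulAut P) u * ((autFun (b : MulAut P) u)⁻¹ *
              autFun (a : MulAut P) (autFun (b : MulAut P) u)) =
              u⁻¹ * autFun (a : MulAut P) (autFun (b : MulAut P) u) by group,
            ← autFun_mul _ _ hu, ← Subgroup.coe_mul] at h1
          exact h1
        | inv a _ ha =>
          intro u hu
          have hau := autFun_mem ((a : MulAut P))⁻¹ hu
          have h1 := inv_mem (ha _ hau)
          rw [PPrime.autFun_symm' hu, ← hαm.map_inv (T.mul_mem (T.inv_mem (hPT hau)) (hPT hu)),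
            mul_inv_rev, inv_inv] at h1
          exact h1
      have h1 := hres _ z.2
      rwa [autFun_coe] at h1
    | one => exact ⟨one_mem _, by rw [hαm.map_one]; exact one_mem _⟩
    | mul a b _ _ ha hb =>
      exact ⟨mul_mem ha.1 hb.1, by rw [hαm.map_mul ha.1 hb.1]; exact mul_mem ha.2 hb.2⟩
    | inv a _ ha => exact ⟨inv_mem ha.1, by rw [hαm.map_inv ha.1]; exact inv_mem ha.2⟩
  exact (key _ (map_mem_hyperfocal (h.pgroup.to_le h.hTS) h.side₁.sat hk ⟨hx, hKT hxK⟩ hxK)).2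

theorem hyperfocal_le_T : E.hyperfocalSubgroup p ≤ T := hyperfocal_le_S

theorem hyperfocal_stronglyClosed : F.StronglyClosed (E.hyperfocalSubgroup p) :=
  stronglyClosed_iff.2 ⟨(hyperfocal_le_T h).trans h.hTS,
    fun _ _ hR hf _ hx => hyperfocal_closed h hf hx (hR hx)⟩

theorem img_inf_hyperfocal (hf : IsMap F P f) :
    img P f ⊓ E.hyperfocalSubgroup p = img (P ⊓ E.hyperfocalSubgroup p) f := by
  refine le_antisymm (fun y hy => ?_) fun y hy => ?_
  · obtain ⟨x, hx, rfl⟩ := hf.mem_img.1 hy.1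
    obtain ⟨f', hf', h1, -⟩ := hf.exists_inv
    have h2 := hyperfocal_closed h hf' hy.1 hy.2
    rw [h1 x hx] at h2
    exact (hf.mono inf_le_left).mem_img.2 ⟨x, ⟨hx, h2⟩, rfl⟩
  · obtain ⟨x, hx, rfl⟩ := (hf.mono inf_le_left).mem_img.1 hy
    exact ⟨hf.mem_img.2 ⟨x, hx.1, rfl⟩, hyperfocal_closed h hf hx.1 hx.2⟩

/-- An element of `aSub` of order prime to `p` commutes with the automorphisms fixing `P ∩ H` and
moving `P` inside it, modulo conjugations by `Z(P ∩ H)`. -/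
theorem comm_mem_hyperfocal (hE : E.IsNormalIn F p) (hP : P ≤ S) (hPs : SelfC F T (P ⊓ T))
    (hP₀ : SelfC F (E.hyperfocalSubgroup p) (P ⊓ E.hyperfocalSubgroup p))
    {b e : MulAut P} (hb : b ∈ aSub h P) (hco : (orderOf b).Coprime p)
    (he : e ∈ deltaIn F (E.hyperfocalSubgroup p) P) :
    b * e * b⁻¹ * e⁻¹ ∈ autInducedBy (P ⊓ E.hyperfocalSubgroup p ⊓
      Subgroup.centralizer ((P ⊓ E.hyperfocalSubgroup p : Subgroup Ω) : Set Ω)) P := by
  set K := E.hyperfocalSubgroup p with hK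
  have hKT : K ≤ T := hyperfocal_le_T h
  have hKS : K ≤ S := hKT.trans h.hTS
  have hcl : ∀ (R : Subgroup Ω) (f : Ω → Ω), IsMap F R f → ∀ x ∈ R, x ∈ K → f x ∈ K :=
    fun _ _ hf _ hx hxK => hyperfocal_closed h hf hx hxK
  -- move to a fully normalized place
  obtain ⟨f, hf, hPn, hQn⟩ := exists_both_normalized h hP
  set X := img P f with hX
  have hXV : X ⊓ K = img (P ⊓ K) f := img_inf_hyperfocal h hf
  have hXS := hPn.1
  have hQs : SelfC F T (X ⊓ T) := by
    rw [hX, img_inf_T h hf]; exact hPs.map h.closed (hf.mono inf_le_left)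
  have hVs : SelfC F K (X ⊓ K) := by
    rw [hXV]; exact hP₀.map (hyperfocal_stronglyClosed h) (hf.mono inf_le_left)
  obtain ⟨b₁, hb₁, hb₁e, hb₁o⟩ := exists_aSub_transport hf rfl hb
  have hb₁co : (orderOf b₁).Coprime p := by rwa [hb₁o]
  set e₁ := MulAut.congr (mapEquiv hf) e with he₁
  have he₁e : ∀ x ∈ P, autFun e₁ (f x) = f (autFun e x) := fun x hx => autFun_congr hf e hx
  have he₁D : e₁ ∈ deltaIn F K X := by
    refine ⟨(congr_mem_autGroup_iff hf e).2 he.1, fun y hy => ?_, fun y hy => ?_⟩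
    · rw [hXV] at hy
      obtain ⟨x, hx, rfl⟩ := (hf.mono inf_le_left).mem_img.1 hy
      rw [he₁e x hx.1, he.2.1 x hx]
    · obtain ⟨x, hx, rfl⟩ := hf.mem_img.1 hy
      rw [he₁e x hx, ← hf.map_inv hx, ← hf.map_mul (inv_mem hx) (autFun_mem e hx)]
      exact hcl _ _ hf _ (mul_mem (inv_mem hx) (autFun_mem e hx)) (he.2.2 x hx)
  haveI := finite_of_le hXS
  haveI := finite_mulAut (P := X)
  -- the automorphisms are induced by `S`
  have hΔS : deltaIn F K X ≤ autInducedBy S X := by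
    obtain ⟨-, hi⟩ := (isFullyAutomized_iff h.pgroup).1
      (IsSaturated.automized_receptive h.pgroup h.sat hPn).1
    obtain ⟨k, hk, hkD⟩ := exists_conj_le_of_not_dvd_relIndex (isPGroup_autInducedBy h.pgroup)
      (autInducedBy_le_autGroup hXS) hi (deltaIn_isPGroup (G := F) (K := K) h.pgroup hXS)
      (fun a ha => ha.1)
    intro a ha
    have h1 := hkD (conj_mem_conjBy (g := k) (deltaIn_conj hXS hcl (inv_mem hk) ha))
    rwa [show k * (k⁻¹ * a * k⁻¹⁻¹) * k⁻¹ = a by group] at h1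
  -- the local group
  set Q := X ⊓ T with hQdef
  obtain ⟨D, hD⟩ := exists_loc_self (h := h) hQs hQn
  have hXN : X ≤ normalizerIn S Q := fun x hx => ⟨hXS hx, Subgroup.mem_normalizer_iff.2 fun y =>
    and_congr (Subgroup.mem_normalizer_iff.1 (Subgroup.le_normalizer hx) y)
      (Subgroup.mem_normalizer_iff.1 (h.normal (hXS hx)) y)⟩
  have hnn := nn_eq (Q := Q) h rfl
  have hQX : Q ≤ X := inf_le_left
  haveI := D.model.fin
  have hs : D.Syl X := by
    intro hd
    set KX := D.L ⊓ Subgroup.normalizer (D.τImg X : Set D.model.G)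
    have hNK := D.τImg_nn_le hXN
    obtain ⟨W, hNW, hWK, hWp, hWi⟩ := exists_le_not_dvd_relIndex
      (D.isPGroup_U.to_le (D.τImg_le_U (inf_le_left : Loc.nn S Q X ≤ _))) hNK
    obtain ⟨l, hl, hlW⟩ := exists_conj_le_of_not_dvd_relIndex D.isPGroup_U
      (le_sup_right : D.U ≤ D.L) D.not_dvd_U hWp (hWK.trans inf_le_left)
    have hXn := Loc.le_nn (S := S) (Q := Q) hXN
    obtain ⟨k, hk, hkN, hke⟩ := D.exists_map hXN (g := l) fun x hx =>
      hlW (conj_mem_conjBy (hNW (D.τ_mem inf_le_left (hXn hx))))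
    set X' := img X k
    have hX'N : X' ≤ normalizerIn S Q := hk.img_le_of_forall hkN
    have hle : Nat.card (conjBy l W) ≤ Nat.card (normalizerIn S X') := by
      haveI := finite_of_le (inf_le_left : normalizerIn S X' ≤ S)
      refine le_trans (Subgroup.card_le_of_le (K := D.τImg (normalizerIn (normalizerIn S Q) X'))
        fun z hz => ?_) ((D.card_τImg inf_le_left).le.trans
          (card_le_of_le' inf_le_left fun n hn => ⟨hn.1.1, hn.2⟩))
      obtain ⟨n, hn, rfl⟩ := (D.mem_τImg le_rfl).1 (hlW hz)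
      refine D.τ_mem inf_le_left ⟨hn, conjBy_eq_iff.1 (eq_of_le_of_card_le
        (hX'N.trans inf_le_left) (conjBy_le_iff.2 fun y hy => ?_) (card_conjBy n X').ge)⟩
      obtain ⟨x, hx, rfl⟩ := hk.mem_img.1 hy
      have h2 := (hWK (mem_conjBy.1 hz)).2
      obtain ⟨x', hx', hx'e⟩ := (D.mem_τImg hXN).1
        ((Subgroup.mem_normalizer_iff.1 h2 _).1 (D.τ_mem hXN hx))
      refine hk.mem_img.2 ⟨x', hx', D.τ_inj (hkN x' hx')
        (mul_mem (mul_mem hn (hkN x hx)) (inv_mem hn)) ?_⟩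
      rw [D.τ_conj hn (hkN x hx), hke x' hx', hx'e, hke x hx]
      group
    have h1 : Nat.card (normalizerIn S X') ≤ Nat.card (normalizerIn S X) :=
      hPn.2 _ (isConj_iff.2 ⟨k, hk, rfl⟩)
    have hW : W = D.τImg (Loc.nn S Q X) := (Subgroup.eq_of_le_of_card_ge hNW (by
      refine le_trans ?_ (D.card_τImg inf_le_left).ge
      show _ ≤ Nat.card (Loc.nn S Q X : Subgroup Ω)
      rw [hnn, ← card_conjBy l W]
      exact hle.trans h1)).symm
    exact hWi (hW ▸ hd)
  -- an extension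
  let A : Subgroup Ω :=
    { carrier := {n | n ∈ normalizerIn S X ∧ ∃ a ∈ deltaIn F K X, ∀ x ∈ X, autFun a x = n * x * n⁻¹}
      one_mem' := ⟨one_mem _, 1, one_mem _, fun x hx => by rw [autFun_one hx]; group⟩
      mul_mem' := fun {u v} ⟨hu, a, ha, hau⟩ ⟨hv, c, hc, hcv⟩ =>
        ⟨mul_mem hu hv, a * c, mul_mem ha hc, fun x hx => by
          rw [autFun_mul _ _ hx, hau _ (autFun_mem c hx), hcv x hx]; group⟩
      inv_mem' := fun {u} ⟨hu, a, ha, hau⟩ => ⟨inv_mem hu, a⁻¹, inv_mem ha, fun x hx => by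
        have h1 := hau _ (autFun_mem a⁻¹ hx)
        rw [PPrime.autFun_symm' hx] at h1
        calc autFun a⁻¹ x = u⁻¹ * (u * autFun a⁻¹ x * u⁻¹) * u := by group
          _ = u⁻¹ * x * u⁻¹⁻¹ := by rw [← h1]; group⟩ }
  have hAN : A ≤ normalizerIn S X := fun n hn => hn.1
  set X₂ := X ⊔ A with hX₂
  have hXX₂ : X ≤ X₂ := le_sup_left
  have hX₂n : X₂ ≤ Loc.nn S Q X := hnn.symm ▸ sup_le (le_normalizerIn hXS) hAN
  have hX₂N : X₂ ≤ normalizerIn S Q := hX₂n.trans inf_le_left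
  obtain ⟨g, hg, hge⟩ := D.exists_lift_closure hE hXN rfl
    (Subgroup.subset_closure ⟨hb₁, hb₁co⟩)
  have hgX : conjBy g (D.τImg X) = D.τImg X := by
    refine Subgroup.eq_of_le_of_card_ge (conjBy_le_iff.2 fun z hz => ?_) (card_conjBy g _).ge
    obtain ⟨x, hx, rfl⟩ := (D.mem_τImg hXN).1 hz
    rw [← hge x hx]
    exact D.τ_mem hXN (autFun_mem b₁ hx)
  have hbF := hb₁.1
  have hext : X₂ ≤ extSub S X (autFun b₁) := by
    refine sup_le (le_extSub ((mem_autGroup_iff hXS).1 hbF)) fun n hn => ?_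
    obtain ⟨hnN, a, ha, hae⟩ := hn
    obtain ⟨m, hm, hme⟩ := mem_autInducedBy_iff.1 (hΔS (deltaIn_conj hXS hcl hbF ha))
    refine ⟨hnN, m, hm, fun x hx => ?_⟩
    rw [← hme _ (autFun_mem b₁ hx), ← autFun_mul _ _ hx, inv_mul_cancel_right, autFun_mul _ _ hx,
      hae x hx]
  obtain ⟨c, hcL, hc, hcN, -⟩ := D.exists_extension hE hQX hXN hs hQX hXX₂ hX₂n
    (Subgroup.mem_sup_left hg) hgX fun z hz => by
      obtain ⟨hzN, m, hm, hme⟩ := mem_extSub.1 (hext hz)
      have hmX : m ∈ normalizerIn S X := by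
        refine ⟨hm, ?_⟩
        have h1 := mem_normalizer_img ((mem_autGroup_iff hXS).1 hbF) hzN.2 hme
        rwa [img_autFun] at h1
      have hm' : m ∈ Loc.nn S Q X := hnn.symm ▸ hmX
      refine ⟨m, hm', fun y hy => ?_⟩
      obtain ⟨w, hw, rfl⟩ := (D.mem_τImg hXN).1 hy
      obtain ⟨x, hx, rfl⟩ : ∃ x ∈ X, autFun b₁ x = w :=
        ⟨autFun b₁⁻¹ w, autFun_mem _ hw, PPrime.autFun_symm' hw⟩
      have hzx := (Subgroup.mem_normalizer_iff.1 hzN.2 x).1 hx
      rw [← D.τ_conj hm'.1 (hXN hw), ← hme x hx, hge _ hzx, hge x hx,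
        D.τ_conj (hX₂N hz) (hXN hx)]
      group
  set g' := c * g with hg'
  have hg'L : g' ∈ D.L := mul_mem hcL (Subgroup.mem_sup_left hg)
  have hg'e : ∀ x ∈ X, D.τ (autFun b₁ x) = g' * D.τ x * g'⁻¹ := fun x hx => by
    rw [hge x hx, hg']
    have h1 := Subgroup.mem_centralizer_iff.1 hc (g * D.τ x * g⁻¹)
      (hgX.le (conj_mem_conjBy (D.τ_mem hXN hx)))
    calc g * D.τ x * g⁻¹ = c * (g * D.τ x * g⁻¹) * c⁻¹ := by rw [← h1]; group
      _ = _ := by group
  have hg'X₂ : ∀ z ∈ X₂, g' * D.τ z * g'⁻¹ ∈ D.τImg X₂ := by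
    have hX : X ≤ D.pre ((D.τImg X₂).comap (MulAut.conj g').toMonoidHom) := fun x hx => by
      refine ⟨hXN hx, ?_⟩
      show g' * D.τ x * g'⁻¹ ∈ D.τImg X₂
      rw [← hg'e x hx]
      exact D.τ_mem hX₂N (hXX₂ (autFun_mem b₁ hx))
    have hA : A ≤ D.pre ((D.τImg X₂).comap (MulAut.conj g').toMonoidHom) := fun n hn => by
      have hnX : n ∈ X₂ := Subgroup.mem_sup_right hn
      refine ⟨hX₂N hnX, ?_⟩
      show g' * D.τ n * g'⁻¹ ∈ D.τImg X₂
      obtain ⟨m, hm, hme⟩ := (D.mem_τImg (inf_le_left : Loc.nn S Q X ≤ _)).1 (hcN n hnX)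
      rw [← hme]
      obtain ⟨hnN, a, ha, hae⟩ := hn
      refine D.τ_mem hX₂N (Subgroup.mem_sup_right ⟨hnn ▸ hm, b₁ * a * b₁⁻¹,
        deltaIn_conj hXS hcl hbF ha, fun x hx => ?_⟩)
      have hy := autFun_mem b₁⁻¹ hx
      rw [autFun_mul _ _ hx, autFun_mul _ _ hy, hae _ hy]
      refine D.τ_inj (hXN (autFun_mem _ ((Subgroup.mem_normalizer_iff.1 hnN.2 _).1 hy)))
        (mul_mem (mul_mem hm.1 (hXN hx)) (inv_mem hm.1)) ?_
      rw [hg'e _ ((Subgroup.mem_normalizer_iff.1 hnN.2 _).1 hy), D.τ_conj hm.1 (hXN hx),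
        D.τ_conj (hX₂N hnX) (hXN hy), hme, show D.τ x = g' * D.τ (autFun b₁⁻¹ x) * g'⁻¹ by
          rw [← hg'e _ hy, PPrime.autFun_symm' hx]]
      group
    exact fun z hz => (sup_le hX hA hz).2
  obtain ⟨k, hk⟩ := Components.exists_coprime_pow (p := p) g'
  obtain ⟨m, hm⟩ := Components.exists_pow_pow_eq hb₁co k
  set n₁ := p ^ k * m with hn₁
  have hpow : ∀ (j : ℕ), (∀ z ∈ D.τImg X₂, g' ^ j * z * (g' ^ j)⁻¹ ∈ D.τImg X₂) ∧
      ∀ x ∈ X, D.τ (autFun (b₁ ^ j) x) = g' ^ j * D.τ x * (g' ^ j)⁻¹ := by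
    intro j
    induction j with
    | zero => exact ⟨fun z hz => by simpa using hz, fun x hx => by simp [autFun_one hx]⟩
    | succ j ih =>
      refine ⟨fun z hz => ?_, fun x hx => ?_⟩
      · obtain ⟨w, hw, hwe⟩ := (D.mem_τImg hX₂N).1 (ih.1 z hz)
        have h1 := hg'X₂ w hw
        rw [hwe] at h1
        convert h1 using 1
        rw [pow_succ' g']
        group
      · rw [pow_succ' b₁, autFun_mul _ _ hx, hg'e _ (autFun_mem _ hx), ih.2 x hx, pow_succ' g']
        group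
  obtain ⟨B, hB, hBco, hBe⟩ := D.exists_aut_of_coprime hE (hQX.trans hXX₂) hX₂N
    (g := g' ^ n₁) (pow_mem hg'L _)
    (by rw [hn₁, pow_mul]; exact Nat.Coprime.coprime_dvd_left (orderOf_pow_dvd m) hk)
    fun z hz => (hpow n₁).1 _ (D.τ_mem hX₂N hz)
  have hBb : ∀ x ∈ X, autFun B x = autFun b₁ x := fun x hx => by
    refine D.τ_inj (hX₂N (autFun_mem B (hXX₂ hx))) (hXN (autFun_mem b₁ hx)) ?_
    rw [hBe x (hXX₂ hx), ← (hpow n₁).2 x hx, hn₁, pow_mul, hm]
  -- the commutator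
  obtain ⟨n, hn, hne⟩ := mem_autInducedBy_iff.1 (hΔS he₁D)
  have hnA : n ∈ A := ⟨⟨hn, mem_normalizer_of_autFun hne⟩, e₁, he₁D, hne⟩
  have hnX₂ : n ∈ X₂ := Subgroup.mem_sup_right hnA
  have hX₂S : X₂ ≤ S := hX₂N.trans inf_le_left
  set z := n⁻¹ * autFun B n with hz
  have hzK : z ∈ K := disp_mem_hyperfocal h hX₂S hB hBco hnX₂
  have hnc : ∀ v ∈ X ⊓ K, n * v * n⁻¹ = v := fun v hv => by
    rw [← hne v hv.1, he₁D.2.1 v hv]
  have hBm := (mem_autGroup_iff hX₂S).1 hB.1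
  have hBnc : ∀ v ∈ X ⊓ K, autFun B n * v * (autFun B n)⁻¹ = v := fun v hv => by
    have hv' : autFun b₁⁻¹ v ∈ X ⊓ K := ⟨autFun_mem _ hv.1,
      hcl _ _ ((mem_autGroup_iff hXS).1 (inv_mem hbF)) _ hv.1 hv.2⟩
    have h1 := hBm.map_conj hnX₂ (hXX₂ hv'.1)
    rw [hnc _ hv', hBb _ hv'.1, PPrime.autFun_symm' hv.1] at h1
    exact h1.symm
  have hzV : z ∈ X ⊓ K := hVs.cent hKS ⟨hzK, Subgroup.mem_centralizer_iff.2 fun v hv => by
    have h1 := hBnc v hv
    have h2 := hnc v hv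
    have hBn : autFun B n = n * z := by rw [hz]; group
    rw [hBn] at h1
    calc v * z = n⁻¹ * (n * v * n⁻¹) * (n * z) := by group
      _ = n⁻¹ * v * (n * z) := by rw [h2]
      _ = n⁻¹ * (n * z * v * (n * z)⁻¹) * (n * z) := by rw [h1]
      _ = z * v := by group⟩
  have hcomm : ∀ x ∈ X, autFun (b₁ * e₁ * b₁⁻¹ * e₁⁻¹) x = z * x * z⁻¹ := fun x hx => by
    have hu := autFun_mem e₁⁻¹ hx
    have hy := autFun_mem b₁⁻¹ hu
    have hney := autFun_mem e₁ hy
    rw [autFun_mul _ _ hx, autFun_mul _ _ hu, autFun_mul _ _ hy, hne _ hy,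
      ← hBb _ (by rw [← hne _ hy]; exact hney), hBm.map_conj hnX₂ (hXX₂ hy), hBb _ hy,
      PPrime.autFun_symm' hu]
    have hxu : x = n * autFun e₁⁻¹ x * n⁻¹ := by rw [← hne _ hu, PPrime.autFun_symm' hx]
    have hzn : n * z * n⁻¹ = z := hnc z hzV
    calc autFun B n * autFun e₁⁻¹ x * (autFun B n)⁻¹
        = (n * z * n⁻¹) * (n * autFun e₁⁻¹ x * n⁻¹) * (n * z * n⁻¹)⁻¹ := by rw [hz]; group
      _ = z * x * z⁻¹ := by rw [hzn, ← hxu]
  have hzc : z ∈ X ⊓ K ⊓ Subgroup.centralizer ((X ⊓ K : Subgroup Ω) : Set Ω) := by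
    refine Subgroup.mem_inf.2 ⟨hzV, Subgroup.mem_centralizer_iff.2 fun v hv => ?_⟩
    have h2 := hnc v hv
    have h1 := hBnc v hv
    rw [show autFun B n = n * z by rw [hz]; group] at h1
    calc v * z = n⁻¹ * (n * v * n⁻¹) * (n * z) := by group
      _ = n⁻¹ * v * (n * z) := by rw [h2]
      _ = n⁻¹ * (n * z * v * (n * z)⁻¹) * (n * z) := by rw [h1]
      _ = z * v := by group
  -- back to `P`
  rw [hXV] at hzc
  obtain ⟨w, hw, hwz⟩ := (hf.mono inf_le_left).mem_img.1 (Subgroup.mem_inf.1 hzc).1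
  refine mem_autInducedBy_iff.2 ⟨w, Subgroup.mem_inf.2 ⟨hw,
    Subgroup.mem_centralizer_iff.2 fun q hq => ?_⟩, fun x hx => ?_⟩
  · refine hf.inj (mul_mem hq.1 hw.1) (mul_mem hw.1 hq.1) ?_
    rw [hf.map_mul hq.1 hw.1, hf.map_mul hw.1 hq.1, hwz]
    exact Subgroup.mem_centralizer_iff.1 (Subgroup.mem_inf.1 hzc).2 _
      ((hf.mono inf_le_left).mem_img.2 ⟨q, hq, rfl⟩)
  · refine hf.inj (autFun_mem _ hx) (mul_mem (mul_mem hw.1 hx) (inv_mem hw.1)) ?_
    rw [hf.map_conj hw.1 hx, hwz, ← hcomm _ (hf.mem_img.2 ⟨x, hx, rfl⟩)]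
    have hb₁c : b₁ = MulAut.congr (mapEquiv hf) b := autFun_ext fun w hw => by
      obtain ⟨u, hu, rfl⟩ := hf.mem_img.1 hw
      rw [hb₁e u hu, autFun_congr hf b hu]
    rw [hb₁c, he₁, ← map_inv, ← map_inv, ← map_mul, ← map_mul, ← map_mul, autFun_congr hf _ hx]

/-- Two elements of `aSub` of order prime to `p` agreeing on `P ∩ H` differ by a power and a
conjugation by `Z(P ∩ H)`. -/
theorem exists_pow_eq_mod_hyperfocal (hE : E.IsNormalIn F p) (hP : P ≤ S)
    (hPs : SelfC F T (P ⊓ T))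
    (hP₀ : SelfC F (E.hyperfocalSubgroup p) (P ⊓ E.hyperfocalSubgroup p)) {a b : MulAut P}
    (hb : b ∈ aSub h P) (hbco : (orderOf b).Coprime p) (haco : (orderOf a).Coprime p)
    (hd : b⁻¹ * a ∈ deltaIn F (E.hyperfocalSubgroup p) P) :
    ∃ n : ℕ, a * (b ^ n)⁻¹ ∈ autInducedBy (P ⊓ E.hyperfocalSubgroup p ⊓
      Subgroup.centralizer ((P ⊓ E.hyperfocalSubgroup p : Subgroup Ω) : Set Ω)) P := by
  haveI := finite_of_le hP
  set K := E.hyperfocalSubgroup p
  set d := b⁻¹ * a with hdd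
  set Z := autInducedBy (P ⊓ K ⊓ Subgroup.centralizer ((P ⊓ K : Subgroup Ω) : Set Ω)) P with hZ
  have hN : ∀ {u v : MulAut P}, u ∈ F.autGroup P → v ∈ Z → u * v * u⁻¹ ∈ Z := by
    intro u v hu hv
    obtain ⟨z, hz, hzb⟩ := mem_autInducedBy_iff.1 hv
    have hm := (mem_autGroup_iff hP).1 hu
    obtain ⟨hz₁, hz₂⟩ := Subgroup.mem_inf.1 hz
    refine mem_autInducedBy_iff.2 ⟨autFun u z, Subgroup.mem_inf.2
      ⟨⟨autFun_mem u hz₁.1, hyperfocal_closed h hm hz₁.1 hz₁.2⟩,
        Subgroup.mem_centralizer_iff.2 fun q hq => ?_⟩, fun x hx => ?_⟩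
    · have hq' : autFun u⁻¹ q ∈ P ⊓ K := ⟨autFun_mem _ hq.1,
        hyperfocal_closed h ((mem_autGroup_iff hP).1 (inv_mem hu)) hq.1 hq.2⟩
      rw [← PPrime.autFun_symm' (α := u) hq.1, ← hm.map_mul hq'.1 hz₁.1,
        ← hm.map_mul hz₁.1 hq'.1, Subgroup.mem_centralizer_iff.1 hz₂ _ hq']
    · rw [autFun_mul _ _ hx, autFun_mul _ _ (autFun_mem _ hx), hzb _ (autFun_mem _ hx),
        hm.map_conj hz₁.1 (autFun_mem _ hx), PPrime.autFun_symm' hx]
  have had : a = b * d := by rw [hdd]; group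
  have key : ∀ n : ℕ, a ^ n * (b ^ n * d ^ n)⁻¹ ∈ Z := by
    intro n
    induction n with
    | zero => simp
    | succ n ih =>
      have hc := comm_mem_hyperfocal h hE hP hPs hP₀ hb hbco (pow_mem hd n)
      have hbn : b ^ n ∈ F.autGroup P := pow_mem hb.1 n
      have h1 := mul_mem ih (hN hbn (inv_mem hc))
      convert h1 using 1
      rw [pow_succ, pow_succ, pow_succ, had]
      group
  obtain ⟨N, hN'⟩ := IsPGroup.iff_card.1 h.pgroup
  have hq := key (p ^ N)
  rw [deltaIn_pow_eq_one hP hN' hd, mul_one] at hq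
  obtain ⟨m, hm⟩ := Components.exists_pow_pow_eq haco N
  have hpow : ∀ j : ℕ, (a ^ p ^ N) ^ j * ((b ^ p ^ N) ^ j)⁻¹ ∈ Z := by
    intro j
    induction j with
    | zero => simp
    | succ j ih =>
      have hu : a ^ p ^ N ∈ F.autGroup P := pow_mem
        (by rw [had]; exact mul_mem hb.1 hd.1) _
      have h1 := mul_mem (hN hu ih) hq
      convert h1 using 1
      rw [pow_succ' (a ^ p ^ N), pow_succ (b ^ p ^ N)]
      group
  refine ⟨p ^ N * m, ?_⟩
  have h1 := hpow m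
  rwa [hm, ← pow_mul] at h1

end CfsgLib.Fusion.Product
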