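import Cfsg.Agent.Lib.Fusion.System.Meet.Label
import Cfsg.Agent.Lib.Fusion.Residual

/-!
# Extension of local automorphisms by labelled maps

Automorphisms of `Q` induced by the local subgroup extend to the overgroups in `N_T(Q)` allowed
by conjugation, by composites of good automorphisms of order prime to `p` and conjugations by `T`.
-/

set_option autoImplicit false
set_option maxHeartbeats 1000000
set_option linter.style.haveILetI false
set_option linter.unusedSectionVars false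

open Subgroup
open scoped Classical Pointwise

namespace CfsgLib.Fusion.Meet

open Cfsg (FusionSystem autInducedBy)
open Cfsg.FusionSystem (normalizerIn centralizerIn preimageAlong)
open CfsgLib.Fusion CfsgLib.Fusion.CentLift CfsgLib.Fusion.RealizedNormal

universe u

variable {Ω : Type u} [Group Ω] {S T T' T₁ T₂ : Subgroup Ω} {F : FusionSystem S} {p : ℕ}
  {E : FusionSystem T'} {E₁ : FusionSystem T₁} {E₂ : FusionSystem T₂}
  {P Q R X Y : Subgroup Ω} {f : Ω → Ω}

namespace LModel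

variable (M : LModel F p Q)

/-- An element of the model stabilizing the images of two subgroups stabilizes that of their join. -/
theorem conj_mem_sup (g : M.G) {A B : Subgroup Ω} (hA : A ≤ normalizerIn S Q)
    (hB : B ≤ normalizerIn S Q) (ha : ∀ x ∈ A, g * M.e x * g⁻¹ ∈ imgι M.ι A)
    (hb : ∀ x ∈ B, g * M.e x * g⁻¹ ∈ imgι M.ι B) :
    ∀ x ∈ A ⊔ B, g * M.e x * g⁻¹ ∈ imgι M.ι (A ⊔ B) := by
  set K := preimageAlong M.ι ((imgι M.ι (A ⊔ B)).comap (MulAut.conj g).toMonoidHom) with hK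
  have h1 : A ≤ K := fun x hx => mem_preimageAlong.2 ⟨hA hx, imgι_mono le_sup_left (ha x hx)⟩
  have h2 : B ≤ K := fun x hx => mem_preimageAlong.2 ⟨hB hx, imgι_mono le_sup_right (hb x hx)⟩
  exact fun x hx => (mem_preimageAlong.1 (sup_le h1 h2 hx)).2

theorem conj_base (g : M.G) {x : Ω} (hx : x ∈ base S Q) :
    g * M.e x * g⁻¹ ∈ imgι M.ι (base S Q) := by
  rw [← M.e_act g hx]
  exact ext1_mem_imgι M.base_le_nQ (autFun_mem _ hx)

theorem conj_Q (g : M.G) {x : Ω} (hx : x ∈ Q) : g * M.e x * g⁻¹ ∈ imgι M.ι Q := by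
  rw [← M.e_res g hx]
  exact ext1_mem_imgι (le_sup_left.trans M.base_le_nQ) (autFun_mem _ hx)

/-- An automorphism given by conjugation with `g` has order dividing that of `g`. -/
theorem orderOf_dvd {g : M.G} {W : Subgroup Ω} (hW : W ≤ normalizerIn S Q) {a : MulAut W}
    (ha : ∀ x ∈ W, M.e (autFun a x) = g * M.e x * g⁻¹) : orderOf a ∣ orderOf g := by
  have key : ∀ (n : ℕ), ∀ x ∈ W, M.e (autFun (a ^ n) x) = g ^ n * M.e x * (g ^ n)⁻¹ := by
    intro n
    induction n with
    | zero => intro x hx; rw [pow_zero, pow_zero, autFun_one hx]; group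
    | succ n ih =>
      intro x hx
      rw [pow_succ' a, pow_succ' g, autFun_mul _ _ hx, ha _ (autFun_mem _ hx), ih x hx]
      group
  refine orderOf_dvd_of_pow_eq_one (autFun_ext fun x hx => ?_)
  refine M.inj (hW (autFun_mem _ hx)) (hW (autFun_mem _ hx)) ?_
  rw [key _ x hx, pow_orderOf_eq_one, autFun_one hx]
  group

variable [Finite S] [Fact p.Prime]

/-- The part of one side. -/
theorem isMap_side (hS : IsPGroup p S) (hs : Side F p E) (hQ : F.IsFullyNormalized Q)
    (hF : F.IsSaturated p) (hQX : Q ≤ X) (hXT : X ≤ normalizerIn T' Q) {g : M.G}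
    (hg : (orderOf g).Coprime p) (hE : IsMap E (ubase T' Q) (autFun (M.act g)))
    (hf : IsMap F (X ⊔ base S Q) f) (hfe : ∀ x ∈ X ⊔ base S Q, M.e (f x) = g * M.e x * g⁻¹)
    (hfX : ∀ x ∈ X, f x ∈ X) : IsMap E (ubase T' X) f := by
  have hQT : Q ≤ T' := hQX.trans (hXT.trans inf_le_left)
  have hXT' : X ≤ T' := hXT.trans inf_le_left
  have hNB := M.base_le_nQ
  set U := ubase T' Q with hU
  have hUB : U ≤ base S Q := ubase_le_base hs.le
  set Xi := X ⊔ U with hXi
  have hW : Xi ≤ X ⊔ base S Q := sup_le_sup_left hUB X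
  have hXiT : Xi ≤ T' := sup_le hXT' (ubase_le hQT)
  have hWN : X ⊔ base S Q ≤ normalizerIn S Q :=
    sup_le (hXT.trans (inf_le_inf_right _ hs.le)) hNB
  have hfQ : img Q f = Q := img_eq_of_map_le M.le hf (hQX.trans le_sup_left) fun q hq =>
    mem_of_ext1_mem_imgι M.real.1 (le_sup_left.trans hNB)
      ⟨hf.mem_S (Subgroup.mem_sup_left (hQX hq)), (hXT (hfX q (hQX hq))).2⟩ (by
        show M.e (f q) ∈ _
        rw [hfe q (Subgroup.mem_sup_left (hQX hq))]
        exact M.conj_Q g hq)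
  have hfU : ∀ x ∈ U, f x = autFun (M.act g) x := fun x hx => by
    have hxW : x ∈ X ⊔ base S Q := Subgroup.mem_sup_right (hUB hx)
    have h1 := map_mem_normalizerIn hf (hQX.trans le_sup_left) hxW (hNB (hUB hx)).2
    rw [hfQ] at h1
    exact M.inj h1 (hNB (autFun_mem _ (hUB hx))) (by rw [hfe x hxW, M.e_act g (hUB hx)])
  have hfXi : ∀ z ∈ Xi, f z ∈ Xi := fun z hz => (hf.mono hW).map_mem_of_sup
    (fun u hu => Subgroup.mem_sup_left (hfX u hu))
    (fun u hu => Subgroup.mem_sup_right (by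
      rw [hfU u hu]; exact stab_ubase hs hQT (M.act_stab g) hu)) hz
  have hi : img Xi f = Xi := img_eq_of_map_le (hXiT.trans hs.le) hf hW hfXi
  have hn : ∀ x ∈ X, ∀ u ∈ U, x * u * x⁻¹ ∈ U := fun x hx u hu => by
    have hxN : x ∈ normalizerIn T' Q := hXT hx
    have hxn := mem_normalizer_base (S := S) hs.le hxN
    have hst : conjAut x hxn ∈ stabR F Q := ⟨(mem_autGroup_iff (base_le M.le)).2
      ((isMap_conj (base_le M.le) (hs.le hxN.1)).congr fun y hy => autFun_conjAut hxn hy),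
      fun y hy => by
        rw [autFun_conjAut hxn hy]; exact Subgroup.mem_normalizer_iff.1 hxN.2 y⟩
    have h1 := stab_ubase hs hQT hst hu
    rwa [autFun_conjAut hxn (hUB hu)] at h1
  have hXU : Xi ≤ Subgroup.normalizer (U : Set Ω) := by
    refine sup_le (fun x hx => Subgroup.mem_normalizer_iff.2 fun u => ⟨hn x hx u, fun hu => ?_⟩)
      Subgroup.le_normalizer
    have := hn x⁻¹ (inv_mem hx) _ hu
    rwa [show x⁻¹ * (x * u * x⁻¹) * x⁻¹⁻¹ = u by group] at this
  have hd := M.orderOf_dvd (g := g) (hW.trans hWN) (a := autOf (hf.mono hW) hi)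
    fun x hx => by rw [autFun_autOf _ hi hx, hfe x (hW hx)]
  have hα := hs.ext_centric hS hXiT le_sup_right hXU
    (hs.isCentric_ubase hS hF hQT (IsSaturated.isFullyCentralized hS hF hQ))
    (autOf_mem (hf.mono hW) hi) (Nat.Coprime.coprime_dvd_left hd hg)
    (fun u hu => by
      rw [autFun_autOf _ hi (Subgroup.mem_sup_right hu), hfU u hu]
      exact stab_ubase hs hQT (M.act_stab g) hu)
    (hE.congr fun u hu => by rw [autFun_autOf _ hi (Subgroup.mem_sup_right hu), hfU u hu])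
  have hub : ubase T' X ≤ Xi := sup_le le_sup_left fun c hc => Subgroup.mem_sup_right
    (Subgroup.mem_sup_right ⟨hc.1, Subgroup.centralizer_le hQX hc.2⟩)
  exact (((mem_autGroup_iff hXiT).1 hα).mono hub).congr
    fun x hx => (autFun_autOf _ hi (hub hx)).symm

variable (h : Setup F p E₁ E₂ T) (hQ : F.IsFullyNormalized Q) (hQs : SelfC F T Q)
include h hQ hQs

/-- An element of the local subgroup of order prime to `p` normalizing the image of `X` gives a
labelled automorphism of `X`. -/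
theorem exists_lab_of_normalizing (hQX : Q ≤ X) (hX : X ≤ normalizerIn T Q) {g : M.G}
    (hg : g ∈ M.hSub h hQs.le) (hgo : (orderOf g).Coprime p)
    (hgX : ∀ x ∈ X, g * M.e x * g⁻¹ ∈ imgι M.ι X) :
    ∃ f, Lab F E₁ E₂ T p X f 1 ∧ (∀ x ∈ X, f x ∈ X) ∧
      ∀ x ∈ X, M.e (f x) = g * M.e x * g⁻¹ := by
  have hNB := M.base_le_nQ
  have hXN : X ≤ normalizerIn S Q := hX.trans (inf_le_inf_right _ h.hTS)
  have hW : X ⊔ base S Q ≤ normalizerIn S Q := sup_le hXN hNB
  have hgW := M.conj_mem_sup g hXN hNB hgX fun x hx => M.conj_base g hx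
  obtain ⟨f, hf, hfN, hfe⟩ := M.conj_map hW fun x hx => imgι_le_range _ (hgW x hx)
  have hfX : ∀ x ∈ X, f x ∈ X := fun x hx => by
    refine mem_of_ext1_mem_imgι M.real.1 hXN (hfN x (Subgroup.mem_sup_left hx)) ?_
    show M.e (f x) ∈ _
    rw [hfe x (Subgroup.mem_sup_left hx)]
    exact hgX x hx
  have hXS : X ≤ S := hXN.trans inf_le_left
  have hiX : img X f = X := img_eq_of_map_le hXS hf le_sup_left hfX
  have hCB : centralizerIn S X ≤ base S Q := fun c hc =>
    Subgroup.mem_sup_right ⟨hc.1, Subgroup.centralizer_le hQX hc.2⟩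
  have hBW : base S X ≤ X ⊔ base S Q := sup_le_sup_left hCB X
  have hfB : ∀ z ∈ base S X, f z ∈ base S X := fun z hz => (hf.mono hBW).map_mem_of_sup
    (fun u hu => Subgroup.mem_sup_left (hfX u hu))
    (fun c hc => Subgroup.mem_sup_right (hiX ▸ map_mem_centralizerIn hf le_sup_left
      (Subgroup.mem_sup_right (hCB hc)) hc.2)) hz
  have hiB : img (base S X) f = base S X := img_eq_of_map_le (base_le hXS) hf hBW hfB
  set a := autOf (hf.mono hBW) hiB with ha
  have hae : ∀ x ∈ base S X, autFun a x = f x := fun x hx => autFun_autOf _ hiB hx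
  have hXc := isFullyCentralized_over h.pgroup h.sat h.closed hQ hQs hQX hX
  have hK := M.hSub_le h hQ hQs.le hg
  rw [M.mem_kSub] at hK
  have hgood : Good F E₁ E₂ T X a := by
    refine ⟨⟨autOf_mem _ hiB, fun x hx => ?_⟩, fun y hy => ?_, ?_, ?_⟩
    · rw [hae x hx]
      refine ⟨hfX x, fun hfx => ?_⟩
      obtain ⟨u, hu, hue⟩ := (hf.mono le_sup_left).mem_img.1 (hiX.ge hfx)
      rwa [hf.inj (hBW hx) (Subgroup.mem_sup_left hu) hue.symm]
    · rw [hae y hy]
      have hyN : y ∈ normalizerIn S Q := hW (hBW hy)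
      have hd : y⁻¹ * f y ∈ normalizerIn S Q := mul_mem (inv_mem hyN) (hfN y (hBW hy))
      refine (M.mem_of_mem_hSub h hQ hQs.le hd ?_).1
      rw [M.mul (inv_mem hyN) (hfN y (hBW hy)), M.e_inv hyN, hfe y (hBW hy),
        show (M.e y)⁻¹ * (g * M.e y * g⁻¹) = ((M.e y)⁻¹ * g * (M.e y)⁻¹⁻¹) * g⁻¹ by group]
      exact mul_mem ((M.hSub_normal h hQ hQs.le).conj_mem g hg _) (inv_mem hg)
    · exact (M.isMap_side h.pgroup h.side₁ hQ h.sat hQX
        (hX.trans (inf_le_inf_right _ h.le₁)) hgo hK.2.2.1 hf hfe hfX).congr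
        fun x hx => hae x (ubase_le_base h.side₁.le hx)
    · exact (M.isMap_side h.pgroup h.side₂ hQ h.sat hQX
        (hX.trans (inf_le_inf_right _ h.le₂)) hgo hK.2.2.2 hf hfe hfX).congr
        fun x hx => hae x (ubase_le_base h.side₂.le hx)
  have hco : (orderOf a).Coprime p := Nat.Coprime.coprime_dvd_left
    (M.orderOf_dvd (hBW.trans hW) fun x hx => by rw [hae x hx, hfe x (hBW hx)]) hgo
  exact ⟨f, ((Lab.good (hQs.mono hQX (hX.trans inf_le_left)) hXc hgood hco).congr
    fun x hx => (hae x (Subgroup.mem_sup_left hx)).symm), hfX,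
    fun x hx => hfe x (Subgroup.mem_sup_left hx)⟩

omit hQs in
theorem preimageAlong_hSub (hQT : Q ≤ T) :
    preimageAlong M.ι (M.hSub h hQT) = normalizerIn T Q := by
  refine le_antisymm (fun x hx => ?_) fun t ht => ?_
  · obtain ⟨hxN, hxH⟩ := mem_preimageAlong.1 hx
    exact M.mem_of_mem_hSub h hQ hQT hxN hxH
  · exact mem_preimageAlong.2 ⟨⟨h.hTS ht.1, ht.2⟩, M.mem_hSub_of_T h hQT ht⟩

/-- Maps extending to a labelled map stabilizing `Q`. -/
def RecMap (F : FusionSystem S) (E₁ : FusionSystem T₁) (E₂ : FusionSystem T₂) (T : Subgroup Ω)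
    (p : ℕ) (Q P : Subgroup Ω) (f : Ω → Ω) : Prop :=
  P ≤ normalizerIn T Q ∧ (∀ x ∈ P, f x ∈ normalizerIn T Q) ∧
    ∃ g, Lab F E₁ E₂ T p (P ⊔ Q) g 1 ∧ (∀ x ∈ P, g x = f x) ∧ ∀ q ∈ Q, g q ∈ Q

/-- Maps of the normal subgroup come from labelled maps. -/
theorem recMap_of_nlMap [(M.hSub h hQs.le).Normal]
    (hf : IsMap (nlSystem (M.hSub h hQs.le) M.real) P f) : RecMap F E₁ E₂ T p Q P f := by
  set H := M.hSub h hQs.le with hH
  set U := preimageAlong M.ι H with hU
  have hUeq : U = normalizerIn T Q := M.preimageAlong_hSub h hQ hQs.le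
  have hUN : U ≤ normalizerIn S Q := hUeq.trans_le (inf_le_inf_right _ h.hTS)
  haveI : Finite U := finite_of_le (hUN.trans inf_le_left)
  haveI : Finite (normalizerIn S Q) := finite_of_le (inf_le_left (b := Subgroup.normalizer (Q : Set Ω)))
  have hUp : IsPGroup p U := h.pgroup.to_le (hUN.trans inf_le_left)
  obtain ⟨Sy, hSy⟩ := M.sylow
  have hsat := isSaturated_nlSystem H M.real (h.pgroup.to_le inf_le_left) hSy
  have hQT := hQs.le
  let E0 : FusionSystem U := mkSystem F U (RecMap F E₁ E₂ T p Q)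
    (fun P f ⟨h1, h2, g, hg, hge, _⟩ => ⟨((hg.isMap h).mono le_sup_left).congr
      fun x hx => (hge x hx).symm, hUeq ▸ h1, fun x hx => hUeq.ge (h2 x hx)⟩)
    (fun P f f' ⟨h1, h2, g, hg, hge, hgQ⟩ he => ⟨h1, fun x hx => by rw [he x hx]; exact h2 x hx,
      g, hg, fun x hx => (hge x hx).trans (he x hx).symm, hgQ⟩)
    (fun P t hP ht => by
      have ht' := hUeq.le ht
      exact ⟨hP.trans hUeq.le, fun x hx => mul_mem (mul_mem ht' (hUeq.le (hP hx))) (inv_mem ht'),
        _, Lab.of_T h ht'.1 (sup_le ((hP.trans hUeq.le).trans inf_le_left) hQT),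
        fun _ _ => rfl, fun q hq => (Subgroup.mem_normalizer_iff.1 ht'.2 q).1 hq⟩)
    (fun P R f f' ⟨h1, h2, g, hg, hge, hgQ⟩ ⟨_, h4, g', hg', hge', hgQ'⟩ hm =>
      ⟨h1, fun x hx => h4 _ (hm x hx), g' ∘ g, by
        have := hg.comp hg' fun z hz => (hg.isMap h).map_mem_of_sup
          (fun x hx => Subgroup.mem_sup_left (hge x hx ▸ hm x hx))
          (fun q hq => Subgroup.mem_sup_right (hgQ q hq)) hz
        rwa [mul_one] at this,
        fun x hx => by show g' (g x) = f' (f x); rw [hge x hx, hge' _ (hm x hx)],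
        fun q hq => hgQ' _ (hgQ q hq)⟩)
    (fun P f f' ⟨h1, h2, g, hg, hge, hgQ⟩ hf' he => by
      obtain ⟨g', hg', hg1, hg2⟩ := hg.exists_inv h
      have hgm := hg.isMap h
      have hgP : IsMap F P g := hgm.mono le_sup_left
      have hiQ : img Q g = Q := img_eq_of_map_le M.le hgm le_sup_right hgQ
      have hsup : img P f ⊔ Q ≤ img (P ⊔ Q) g := by
        refine sup_le ?_ (hiQ.ge.trans (hgm.img_mono le_sup_right))
        rw [← IsMap.img_congr hge]
        exact hgm.img_mono le_sup_left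
      have hfP : IsMap F P f := hgP.congr fun x hx => (hge x hx).symm
      have hf'v : ∀ y ∈ img P f, ∃ x ∈ P, f x = y ∧ f' y = x := fun y hy => by
        obtain ⟨x, hx, rfl⟩ := hfP.mem_img.1 hy
        exact ⟨x, hx, rfl, he x hx⟩
      refine ⟨hfP.img_le_of_forall h2, fun y hy => ?_, g', ?_, fun y hy => ?_, fun q hq => ?_⟩
      · obtain ⟨x, hx, -, hxy⟩ := hf'v y hy
        rw [hxy]; exact h1 hx
      · have := hg'.mono hsup
        rwa [inv_one] at this
      · obtain ⟨x, hx, rfl, hxy⟩ := hf'v y hy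
        rw [hxy, ← hge x hx, hg1 x (Subgroup.mem_sup_left hx)]
      · obtain ⟨u, hu, rfl⟩ := (hgm.mono le_sup_right).mem_img.1 (hiQ.ge hq)
        rw [hg1 u (Subgroup.mem_sup_right hu)]
        exact hu)
  refine (isMap_mkSystem_iff _).1 (isMap_of_autGroup_le hUp hsat (E := E0) (fun R hR => ?_) hf)
  have hn : (nlSystem H M.real).IsFullyNormalized R := by
    rcases hR with rfl | hR
    · exact ⟨le_rfl, fun R' _ => card_le_of_le' inf_le_left (le_normalizerIn le_rfl |>.trans' inf_le_left)⟩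
    · exact hR.2.1
  have hRU : R ≤ U := hn.1
  have hRN : R ≤ normalizerIn S Q := hRU.trans hUN
  set A := (nlSystem H M.real).autGroup R with hA
  obtain ⟨P0, hP0⟩ := ((IsSaturated.automized_receptive hUp hsat hn).1).2
  haveI := finite_of_le hRU
  haveI := finite_mulAut (P := R)
  have hgen := pResidual_sup_sylow (p := p) (G := A) P0
  suffices key : (⊤ : Subgroup A) ≤ (E0.autGroup R).subgroupOf A from fun a ha =>
    key (Subgroup.mem_top (⟨a, ha⟩ : A))
  rw [← hgen]
  refine sup_le ((Subgroup.closure_le _).2 fun α hα => ?_) fun α hα => ?_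
  · rw [SetLike.mem_coe, Subgroup.mem_subgroupOf, mem_autGroup_iff hRU]
    obtain ⟨-, -, g, hgH, hge⟩ := (isMap_nlSystem_iff H M.real).1 ((mem_autGroup_iff hRU).1 α.2)
    haveI := M.fin
    obtain ⟨k, hk⟩ := Components.exists_coprime_pow (p := p) g
    have hαco : (orderOf (α : MulAut R)).Coprime p := by
      have h1 : Nat.Coprime (orderOf α) p := hα
      rwa [← Subgroup.orderOf_coe] at h1
    obtain ⟨m, hm⟩ := Components.exists_pow_pow_eq hαco k
    set g' := g ^ (p ^ k * m) with hg'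
    have hg'co : (orderOf g').Coprime p := by
      rw [hg', pow_mul]
      exact Nat.Coprime.coprime_dvd_left (orderOf_pow_dvd m) hk
    have hconj : ∀ (n : ℕ), ∀ x ∈ R,
        M.e (autFun ((α : MulAut R) ^ n) x) = g ^ n * M.e x * (g ^ n)⁻¹ := by
      intro n
      induction n with
      | zero => intro x hx; rw [pow_zero, pow_zero, autFun_one hx]; group
      | succ n ih =>
        intro x hx
        rw [pow_succ' (α : MulAut R), pow_succ' g, autFun_mul _ _ hx,
          show M.e (autFun (α : MulAut R) (autFun ((α : MulAut R) ^ n) x)) =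
            g * M.e (autFun ((α : MulAut R) ^ n) x) * g⁻¹ from hge _ (autFun_mem _ hx), ih x hx]
        group
    have hαe : ∀ x ∈ R, M.e (autFun (α : MulAut R) x) = g' * M.e x * g'⁻¹ := fun x hx => by
      have := hconj (p ^ k * m) x hx
      rwa [pow_mul, hm] at this
    have hQN : Q ≤ normalizerIn S Q := le_sup_left.trans M.base_le_nQ
    have hXT : R ⊔ Q ≤ normalizerIn T Q :=
      sup_le (hRU.trans hUeq.le) (le_normalizerIn hQT)
    obtain ⟨f₁, hf₁, hf₁X, hf₁e⟩ := M.exists_lab_of_normalizing h hQ hQs le_sup_right hXT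
      (g := g') (H.pow_mem hgH _) hg'co (M.conj_mem_sup g' hRN hQN
        (fun x hx => hαe x hx ▸ ext1_mem_imgι hRN (autFun_mem _ hx)) fun x hx => M.conj_Q g' hx)
    refine (isMap_mkSystem_iff _).2 ⟨hRU.trans hUeq.le, fun x hx => hUeq.le (hRU (autFun_mem _ hx)),
      f₁, hf₁, fun x hx => ?_, fun q hq => ?_⟩
    · exact M.inj ((hXT.trans (inf_le_inf_right _ h.hTS)) (hf₁X x (Subgroup.mem_sup_left hx)))
        (hRN (autFun_mem _ hx)) ((hf₁e x (Subgroup.mem_sup_left hx)).trans (hαe x hx).symm)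
    · have h1 := M.conj_Q g' hq
      rw [← hf₁e q (Subgroup.mem_sup_right hq)] at h1
      exact mem_of_ext1_mem_imgι M.real.1 hQN
        ((hXT.trans (inf_le_inf_right _ h.hTS)) (hf₁X q (Subgroup.mem_sup_right hq))) h1
  · rw [hP0] at hα
    obtain ⟨t, ht, hte⟩ := mem_autInducedBy_iff.1 (Subgroup.mem_subgroupOf.1 hα)
    rw [Subgroup.mem_subgroupOf, mem_autGroup_iff hRU]
    exact (isMap_conj hRU ht).congr fun x hx => hte x hx

/-- An automorphism induced by the local subgroup extends to the overgroups allowed by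
conjugation, with label `1`. -/
theorem exists_lab_ext {k : MulAut Q} (hk : k ∈ M.mGroup h hQs.le) (hQY : Q ≤ Y)
    (hY : Y ≤ normalizerIn T Q)
    (hkY : ∀ y ∈ Y, ∃ t ∈ T, ∀ q ∈ Q, autFun k (y * q * y⁻¹) = t * autFun k q * t⁻¹) :
    ∃ e, Lab F E₁ E₂ T p Y e 1 ∧ ∀ q ∈ Q, e q = autFun k q := by
  haveI := M.hSub_normal h hQ hQs.le
  haveI := M.fin
  obtain ⟨g, hgH, rfl⟩ := hk
  set H := M.hSub h hQs.le with hH
  have hVN : normalizerIn T Q ≤ normalizerIn S Q := inf_le_inf_right _ h.hTS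
  have hYN : Y ≤ normalizerIn S Q := hY.trans hVN
  set V := imgι M.ι (normalizerIn T Q) with hV
  set C := M.res.ker ⊓ H with hC
  haveI : C.Normal := Subgroup.normal_inf_normal _ _
  have hVH : V ≤ H := fun z hz => by
    obtain ⟨t, ht, rfl⟩ := (mem_imgι hVN).1 hz
    exact M.mem_hSub_of_T h hQs.le ht
  have hres : ∀ {t : Ω}, t ∈ normalizerIn T Q → ∀ q ∈ Q,
      autFun (M.res (M.e t)) q = t * q * t⁻¹ := fun {t} ht q hq => by
    rw [M.autFun_res _ hq, M.act_e (hVN ht), autFun_conjAut _ (Subgroup.mem_sup_left hq)]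
  have hYM : conjBy g (imgι M.ι Y) ≤ V ⊔ C := conjBy_le_iff.2 fun z hz => by
    obtain ⟨y, hy, rfl⟩ := (mem_imgι hYN).1 hz
    obtain ⟨t, ht, hte⟩ := hkY y hy
    set b := M.res (g * M.e y * g⁻¹)
    have hb : ∀ q ∈ Q, autFun b q = t * q * t⁻¹ := fun q hq => by
      have hq' := autFun_mem (M.res g)⁻¹ hq
      have h1 := hte _ hq'
      rw [PPrime.autFun_symm' hq] at h1
      rw [show b = M.res g * M.res (M.e y) * (M.res g)⁻¹ by simp [b], autFun_mul _ _ hq,
        autFun_mul _ _ hq', hres (hY hy) _ hq', h1]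
    have htN : t ∈ normalizerIn T Q := ⟨ht, mem_normalizer_of_autFun hb⟩
    have he : (M.e t)⁻¹ * (g * M.e y * g⁻¹) ∈ C := by
      refine Subgroup.mem_inf.2 ⟨?_, mul_mem (inv_mem (M.mem_hSub_of_T h hQs.le htN))
        (mul_mem (mul_mem hgH (M.mem_hSub_of_T h hQs.le (hY hy))) (inv_mem hgH))⟩
      have e1 : M.res (M.e t) = b :=
        autFun_ext fun q hq => (hres htN q hq).trans (hb q hq).symm
      rw [MonoidHom.mem_ker, map_mul, map_inv, e1]
      exact inv_mul_cancel b
    have h3 := mul_mem (Subgroup.mem_sup_left (T := C) (ext1_mem_imgι (ι := M.ι) hVN htN))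
      (Subgroup.mem_sup_right (S := V) he)
    rwa [mul_inv_cancel_left] at h3
  have hpV : IsPGroup p V := ((h.pgroup.to_le inf_le_left : IsPGroup p (normalizerIn S Q)).to_subgroup
    _).map _
  have hpY : IsPGroup p (conjBy g (imgι M.ι Y)) :=
    isPGroup_conjBy g (((h.pgroup.to_le inf_le_left : IsPGroup p (normalizerIn S Q)).to_subgroup _).map _)
  have hi : ¬ p ∣ V.relIndex (V ⊔ C) := fun hd => M.not_dvd_relIndex_hSub h hQ hQs.le
    (hd.trans (Dvd.intro _ (Subgroup.relIndex_mul_relIndex _ _ _ le_sup_left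
      (sup_le hVH inf_le_right))))
  obtain ⟨l, hl, hlY⟩ := exists_conj_le_of_not_dvd_relIndex hpV le_sup_left hi hpY hYM
  rw [← SetLike.mem_coe, Subgroup.mul_normal V C] at hl
  obtain ⟨v, hv, c, hc, rfl⟩ := Set.mem_mul.1 hl
  set g' := c * g with hg'
  have hg'H : g' ∈ H := mul_mem (Subgroup.mem_inf.1 hc).2 hgH
  have hg'res : M.res g' = M.res g := by
    rw [hg', map_mul, MonoidHom.mem_ker.1 (Subgroup.mem_inf.1 hc).1, one_mul]
  have hg'Y : ∀ y ∈ Y, g' * M.e y * g'⁻¹ ∈ V := fun y hy => by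
    have h1 := hlY (conj_mem_conjBy (g := v * c) (conj_mem_conjBy (g := g)
      (ext1_mem_imgι (ι := M.ι) hYN hy)))
    have h2 := mul_mem (mul_mem (inv_mem hv) h1) hv
    rwa [show v⁻¹ * (v * c * (g * ext1 M.ι y * g⁻¹) * (v * c)⁻¹) * v = g' * M.e y * g'⁻¹ by
      rw [hg']; group] at h2
  obtain ⟨f, hf, hfN, hfe⟩ := M.conj_map hYN fun y hy => imgι_le_range _ (hg'Y y hy)
  have hfT : ∀ y ∈ Y, f y ∈ normalizerIn T Q := fun y hy =>
    mem_of_ext1_mem_imgι M.real.1 hVN (hfN y hy) (show M.e (f y) ∈ V by rw [hfe y hy]; exact hg'Y y hy)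
  have hnl : IsMap (nlSystem H M.real) Y f := (isMap_nlSystem_iff H M.real).2
    ⟨hY.trans (M.preimageAlong_hSub h hQ hQs.le).ge,
      fun y hy => (M.preimageAlong_hSub h hQ hQs.le).ge (hfT y hy), g', hg'H, hfe⟩
  obtain ⟨-, -, e, he, hee, -⟩ := M.recMap_of_nlMap h hQ hQs hnl
  refine ⟨e, he.mono le_sup_left, fun q hq => ?_⟩
  rw [hee q (hQY hq), ← hg'res]
  exact M.inj (hfN q (hQY hq)) (M.base_le_nQ (Subgroup.mem_sup_left (autFun_mem _ hq)))
    ((hfe q (hQY hq)).trans (M.e_res g' hq).symm)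

end LModel

end CfsgLib.Fusion.Meet
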