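import Cfsg.Agent.Lib.Fusion.System.Meet.ProductDisp
import Cfsg.Agent.Lib.Fusion.System.Meet.Rec

/-!
# The local group of the product

For `Q` self-centralizing in `T`, carried by `φ` on `N_S(Q)` to a fully normalized `Q₀` with
`N_T(Q)` going onto `N_T(Q₀)`, the local subgroup at `Q₀` and the image of `N_S(Q)` generate a
group with that image as a Sylow `p`-subgroup. Conjugations by it between subgroups over `Q` give
maps of the product.
-/

set_option autoImplicit false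
set_option maxHeartbeats 1000000
set_option linter.style.haveILetI false
set_option linter.unusedSectionVars false

open Subgroup
open scoped Classical Pointwise

namespace CfsgLib.Fusion.Product

open Cfsg (FusionSystem autInducedBy)
open Cfsg.FusionSystem (normalizerIn centralizerIn)
open CfsgLib.Fusion CfsgLib.Fusion.CentLift CfsgLib.Fusion.Meet

universe u

variable {Ω : Type u} [Group Ω] {S T : Subgroup Ω} {F : FusionSystem S} {p : ℕ}
  {E : FusionSystem T} {P Q R X Y Z : Subgroup Ω} {f : Ω → Ω} [Finite S] [Fact p.Prime]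

/-- The data of a local group at `Q`. -/
structure Loc (h : Setup F p E E T) (Q : Subgroup Ω) where
  qs : SelfC F T Q
  φ : Ω → Ω
  map : IsMap F (normalizerIn S Q) φ
  norm : F.IsFullyNormalized (img Q φ)
  tmax : normalizerIn T (img Q φ) ≤ img (normalizerIn T Q) φ
  model : LModel F p (img Q φ)

namespace Loc

variable {h : Setup F p E E T} (D : Loc h Q)

/-- The image of an element. -/
noncomputable def τ (x : Ω) : D.model.G := D.model.e (D.φ x)

/-- The image of a subgroup. -/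
def τImg (X : Subgroup Ω) : Subgroup D.model.G := imgι D.model.ι (img X D.φ)

theorem qS (D : Loc h Q) : Q ≤ S := D.qs.le.trans h.hTS

theorem qN (D : Loc h Q) : Q ≤ normalizerIn S Q := le_normalizerIn D.qS

theorem qs₀ : SelfC F T (img Q D.φ) := D.qs.map h.closed (D.map.mono D.qN)

/-- The local subgroup. -/
def H : Subgroup D.model.G := D.model.hSub h D.qs₀.le

theorem H_normal : D.H.Normal := D.model.hSub_normal h D.norm D.qs₀.le

/-- The Sylow subgroup. -/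
def U : Subgroup D.model.G := D.τImg (normalizerIn S Q)

/-- The group. -/
def L : Subgroup D.model.G := D.H ⊔ D.U

theorem φ_mem {x : Ω} (hx : x ∈ normalizerIn S Q) : D.φ x ∈ normalizerIn S (img Q D.φ) :=
  map_mem_normalizerIn D.map D.qN hx hx.2

theorem img_le_N (hX : X ≤ normalizerIn S Q) : img X D.φ ≤ normalizerIn S (img Q D.φ) :=
  (D.map.mono hX).img_le_of_forall fun _ hx => D.φ_mem (hX hx)

theorem τ_mul {x y : Ω} (hx : x ∈ normalizerIn S Q) (hy : y ∈ normalizerIn S Q) :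
    D.τ (x * y) = D.τ x * D.τ y := by
  rw [τ, τ, τ, D.map.map_mul hx hy, D.model.mul (D.φ_mem hx) (D.φ_mem hy)]

theorem τ_inv {x : Ω} (hx : x ∈ normalizerIn S Q) : D.τ x⁻¹ = (D.τ x)⁻¹ := by
  rw [τ, τ, D.map.map_inv hx, D.model.e_inv (D.φ_mem hx)]

theorem τ_conj {x y : Ω} (hx : x ∈ normalizerIn S Q) (hy : y ∈ normalizerIn S Q) :
    D.τ (x * y * x⁻¹) = D.τ x * D.τ y * (D.τ x)⁻¹ := by
  rw [D.τ_mul (mul_mem hx hy) (inv_mem hx), D.τ_mul hx hy, D.τ_inv hx]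

theorem τ_inj {x y : Ω} (hx : x ∈ normalizerIn S Q) (hy : y ∈ normalizerIn S Q)
    (he : D.τ x = D.τ y) : x = y :=
  D.map.inj hx hy (D.model.inj (D.φ_mem hx) (D.φ_mem hy) he)

theorem mem_τImg (hX : X ≤ normalizerIn S Q) {z : D.model.G} :
    z ∈ D.τImg X ↔ ∃ x ∈ X, D.τ x = z := by
  rw [τImg, mem_imgι (D.img_le_N hX)]
  constructor
  · rintro ⟨y, hy, rfl⟩
    obtain ⟨x, hx, rfl⟩ := (D.map.mono hX).mem_img.1 hy
    exact ⟨x, hx, rfl⟩
  · rintro ⟨x, hx, rfl⟩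
    exact ⟨D.φ x, (D.map.mono hX).mem_img.2 ⟨x, hx, rfl⟩, rfl⟩

theorem τ_mem (hX : X ≤ normalizerIn S Q) {x : Ω} (hx : x ∈ X) : D.τ x ∈ D.τImg X :=
  (D.mem_τImg hX).2 ⟨x, hx, rfl⟩

theorem τ_mem_U {x : Ω} (hx : x ∈ normalizerIn S Q) : D.τ x ∈ D.U := D.τ_mem le_rfl hx

theorem mem_of_τ_mem (hX : X ≤ normalizerIn S Q) {x : Ω} (hx : x ∈ normalizerIn S Q)
    (he : D.τ x ∈ D.τImg X) : x ∈ X := by
  obtain ⟨y, hy, hye⟩ := (D.mem_τImg hX).1 he
  rwa [D.τ_inj hx (hX hy) hye.symm]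

theorem τImg_mono (hY : Y ≤ normalizerIn S Q) (hXY : X ≤ Y) : D.τImg X ≤ D.τImg Y := fun z hz => by
  obtain ⟨x, hx, rfl⟩ := (D.mem_τImg (hXY.trans hY)).1 hz
  exact D.τ_mem hY (hXY hx)

theorem τImg_le_U (hX : X ≤ normalizerIn S Q) : D.τImg X ≤ D.U := D.τImg_mono le_rfl hX

theorem card_τImg (hX : X ≤ normalizerIn S Q) : Nat.card (D.τImg X) = Nat.card X := by
  rw [τImg, card_imgι D.model.real.1 (D.img_le_N hX), (D.map.mono hX).card_img]

theorem isPGroup_U : IsPGroup p D.U :=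
  ((h.pgroup.to_le inf_le_left : IsPGroup p (normalizerIn S (img Q D.φ))).to_subgroup _).map _

theorem τ_mem_L {x : Ω} (hx : x ∈ normalizerIn S Q) : D.τ x ∈ D.L :=
  Subgroup.mem_sup_right (D.τ_mem_U hx)

theorem τImg_le_L (hX : X ≤ normalizerIn S Q) : D.τImg X ≤ D.L :=
  (D.τImg_le_U hX).trans le_sup_right

theorem mem_L {g : D.model.G} (hg : g ∈ D.L) : ∃ k ∈ D.H, ∃ u ∈ D.U, g = k * u := by
  haveI := D.H_normal
  rw [L, ← SetLike.mem_coe, Subgroup.normal_mul D.H D.U] at hg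
  obtain ⟨k, hk, u, hu, e⟩ := Set.mem_mul.1 hg
  exact ⟨k, hk, u, hu, e.symm⟩

theorem not_dvd_U : ¬ p ∣ D.U.relIndex D.L := by
  haveI := D.H_normal
  rw [L, relIndex_sup_of_normal]
  intro hd
  refine D.model.not_dvd_relIndex_hSub h D.norm D.qs₀.le (hd.trans ?_)
  refine Subgroup.relIndex_dvd_of_le_left _ fun z hz => ?_
  have hTN : normalizerIn T Q ≤ normalizerIn S Q := inf_le_inf_right _ h.hTS
  obtain ⟨t, ht, rfl⟩ := (mem_imgι (inf_le_inf_right _ h.hTS)).1 hz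
  obtain ⟨x, hx, rfl⟩ := (D.map.mono hTN).mem_img.1 (D.tmax ht)
  exact D.τ_mem_U (hTN hx)

theorem mem_H_of_coprime {g : D.model.G} (hg : g ∈ D.L) (hco : (orderOf g).Coprime p) :
    g ∈ D.H := by
  haveI := D.H_normal
  obtain ⟨k, hk, u, hu, rfl⟩ := D.mem_L hg
  have key : ∀ n : ℕ, (k * u) ^ n * (u ^ n)⁻¹ ∈ D.H := by
    intro n
    induction n with
    | zero => simp
    | succ n ih =>
      have h1 := mul_mem hk (D.H_normal.conj_mem _ ih u)
      convert h1 using 1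
      rw [pow_succ', pow_succ' u]
      group
  obtain ⟨j, hj⟩ := D.isPGroup_U ⟨u, hu⟩
  have huj : u ^ p ^ j = 1 := congrArg Subtype.val hj
  have h1 := key (p ^ j)
  rw [huj, inv_one, mul_one] at h1
  obtain ⟨m, hm⟩ := Components.exists_pow_pow_eq hco j
  rw [← hm]
  exact pow_mem h1 m

/-- Conjugation by an element is a map of `F`. -/
theorem exists_map (hX : X ≤ normalizerIn S Q) {g : D.model.G}
    (hg : ∀ x ∈ X, g * D.τ x * g⁻¹ ∈ D.U) :
    ∃ f, IsMap F X f ∧ (∀ x ∈ X, f x ∈ normalizerIn S Q) ∧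
      ∀ x ∈ X, D.τ (f x) = g * D.τ x * g⁻¹ := by
  have hX₀ := D.img_le_N hX
  obtain ⟨k, hk, hkN, hke⟩ := D.model.conj_map hX₀ fun y hy => by
    obtain ⟨x, hx, rfl⟩ := (D.map.mono hX).mem_img.1 hy
    exact imgι_le_range _ (hg x hx)
  obtain ⟨ψ, hψ, hψ1, hψ2⟩ := D.map.exists_inv
  have hval : ∀ x ∈ X, ∃ n ∈ normalizerIn S Q, D.φ n = k (D.φ x) := fun x hx => by
    have hx' : D.φ x ∈ img X D.φ := (D.map.mono hX).mem_img.2 ⟨x, hx, rfl⟩
    obtain ⟨n, hn, hne⟩ := (D.mem_τImg le_rfl).1 (hg x hx)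
    refine ⟨n, hn, D.model.inj (D.φ_mem hn) (hkN _ hx') ?_⟩
    rw [hke _ hx']
    exact hne
  have hkm : ∀ x ∈ X, (k ∘ D.φ) x ∈ img (normalizerIn S Q) D.φ := fun x hx => by
    obtain ⟨n, hn, hne⟩ := hval x hx
    exact D.map.mem_img.2 ⟨n, hn, hne⟩
  refine ⟨ψ ∘ (k ∘ D.φ), ((D.map.mono hX).comp hk fun x hx =>
    (D.map.mono hX).mem_img.2 ⟨x, hx, rfl⟩).comp hψ hkm,
    fun x hx => (hψ2 _ (hkm x hx)).1, fun x hx => ?_⟩
  show D.model.e (D.φ (ψ (k (D.φ x)))) = _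
  rw [show D.φ (ψ (k (D.φ x))) = k (D.φ x) from (hψ2 _ (hkm x hx)).2]
  exact hke _ ((D.map.mono hX).mem_img.2 ⟨x, hx, rfl⟩)

variable (hE : E.IsNormalIn F p)
include hE

/-- Elements of order prime to `p` give elements of `aSub`. -/
theorem exists_aut_of_coprime (hQX : Q ≤ X) (hX : X ≤ normalizerIn S Q) {g : D.model.G}
    (hg : g ∈ D.L) (hco : (orderOf g).Coprime p)
    (hgX : ∀ x ∈ X, g * D.τ x * g⁻¹ ∈ D.τImg X) :
    ∃ a ∈ aSub h X, (orderOf a).Coprime p ∧ ∀ x ∈ X, D.τ (autFun a x) = g * D.τ x * g⁻¹ := by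
  have hgH := D.mem_H_of_coprime hg hco
  set X₀ := img X D.φ with hX₀
  have hX₀N : X₀ ≤ normalizerIn S (img Q D.φ) := D.img_le_N hX
  have hφX := D.map.mono hX
  have hgX₀ : ∀ y ∈ X₀, g * D.model.e y * g⁻¹ ∈ imgι D.model.ι X₀ := fun y hy => by
    obtain ⟨x, hx, rfl⟩ := hφX.mem_img.1 hy
    exact hgX x hx
  obtain ⟨f, hf, hfN, hfe⟩ := D.model.conj_map hX₀N fun y hy => imgι_le_range _ (hgX₀ y hy)
  have hfX : ∀ y ∈ X₀, f y ∈ X₀ := fun y hy =>
    mem_of_ext1_mem_imgι D.model.real.1 hX₀N (hfN y hy) (by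
      show D.model.e (f y) ∈ _
      rw [hfe y hy]; exact hgX₀ y hy)
  have hX₀S : X₀ ≤ S := hX₀N.trans inf_le_left
  have hfi := img_eq_of_map_le hX₀S hf le_rfl hfX
  set a₀ := autOf hf hfi with ha₀
  have hae : ∀ y ∈ X₀, D.model.e (autFun a₀ y) = g * D.model.e y * g⁻¹ := fun y hy => by
    rw [ha₀, autFun_autOf hf hfi hy, hfe y hy]
  have hdisp : ∀ y ∈ X₀, y⁻¹ * autFun a₀ y ∈ T := fun y hy => by
    have hN := mul_mem (inv_mem (hX₀N hy)) (hX₀N (autFun_mem a₀ hy))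
    refine (D.model.mem_of_mem_hSub h D.norm D.qs₀.le hN ?_).1
    rw [D.model.mul (inv_mem (hX₀N hy)) (hX₀N (autFun_mem a₀ hy)), D.model.e_inv (hX₀N hy), hae y hy,
      show (D.model.e y)⁻¹ * (g * D.model.e y * g⁻¹) = ((D.model.e y)⁻¹ * g * (D.model.e y)⁻¹⁻¹) * g⁻¹ by group]
    exact mul_mem (D.H_normal.conj_mem g hgH _) (inv_mem hgH)
  have hQV : img Q D.φ ≤ X₀ ⊓ T := le_inf (hφX.img_mono hQX) D.qs₀.le
  have hVN : X₀ ⊓ T ≤ normalizerIn T (img Q D.φ) := fun y hy => ⟨hy.2, (hX₀N hy.1).2⟩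
  have hVN' : X₀ ⊓ T ≤ normalizerIn S (img Q D.φ) := inf_le_left.trans hX₀N
  obtain ⟨f₁, hf₁, hf₁X, hf₁e⟩ := D.model.exists_lab_of_normalizing h D.norm D.qs₀ hQV hVN hgH hco
    fun y hy => by
      rw [← hae y hy.1]
      refine ext1_mem_imgι hVN' ⟨autFun_mem a₀ hy.1, ?_⟩
      have h1 := T.mul_mem hy.2 (hdisp y hy.1)
      rwa [mul_inv_cancel_left] at h1
  have hA₀ : a₀ ∈ aSub h X₀ :=
    ⟨autOf_mem hf hfi, hdisp, (hf₁.isMap_sides h).1.congr fun y hy =>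
      D.model.inj (hX₀N (autFun_mem a₀ hy.1)) (hVN' (hf₁X y hy))
        ((hae y hy.1).trans (hf₁e y hy).symm)⟩
  obtain ⟨ψ, hψ, hψ1, hψ2⟩ := hφX.exists_inv
  have hψi : img X₀ ψ = X := by
    rw [hX₀, img_img hφX, IsMap.img_congr (g := id) (f := ψ ∘ D.φ) hψ1, img_id]
  obtain ⟨a, ha, hab, hao⟩ := exists_aSub_transport hψ hψi hA₀
  refine ⟨a, ha, ?_, fun x hx => ?_⟩
  · rw [hao]
    exact Nat.Coprime.coprime_dvd_left (D.model.orderOf_dvd hX₀N hae) hco
  · have hy : D.φ x ∈ X₀ := hφX.mem_img.2 ⟨x, hx, rfl⟩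
    have h1 := hab _ hy
    rw [hψ1 x hx] at h1
    show D.model.e (D.φ (autFun a x)) = _
    rw [h1, (hψ2 _ (autFun_mem a₀ hy)).2, hae _ hy]
    rfl

/-- The automorphisms of order prime to `p` in `aSub` come from the local subgroup. -/
theorem exists_lift_closure (hP : P ≤ normalizerIn S Q) (hPT : P ⊓ T = Q) {a : MulAut P}
    (ha : a ∈ Subgroup.closure {b | b ∈ aSub h P ∧ (orderOf b).Coprime p}) :
    ∃ g ∈ D.H, ∀ x ∈ P, D.τ (autFun a x) = g * D.τ x * g⁻¹ := by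
  induction ha using Subgroup.closure_induction with
  | mem b hb =>
    have hφP := D.map.mono hP
    obtain ⟨c, hc, hcb, hco⟩ := exists_aSub_transport hφP rfl hb.1
    obtain ⟨g, hg, hge⟩ := exists_lift_eq h hE D.model D.norm D.qs₀ (D.img_le_N hP)
      (by rw [img_inf_T h hφP, hPT]) hc (by rw [hco]; exact hb.2)
    refine ⟨g, hg, fun x hx => ?_⟩
    show D.model.e (D.φ (autFun b x)) = _
    rw [← hcb x hx, hge _ (hφP.mem_img.2 ⟨x, hx, rfl⟩)]
    rfl
  | one => exact ⟨1, one_mem _, fun x hx => by rw [autFun_one hx]; group⟩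
  | mul a b _ _ ha hb =>
    obtain ⟨g, hg, hge⟩ := ha
    obtain ⟨k, hk, hke⟩ := hb
    refine ⟨g * k, mul_mem hg hk, fun x hx => ?_⟩
    rw [autFun_mul _ _ hx, hge _ (autFun_mem b hx), hke x hx]
    group
  | inv a _ ha =>
    obtain ⟨g, hg, hge⟩ := ha
    refine ⟨g⁻¹, inv_mem hg, fun x hx => ?_⟩
    have h1 := hge _ (autFun_mem a⁻¹ hx)
    rw [PPrime.autFun_symm' hx] at h1
    rw [h1]
    group

omit hE

/-- The normalizer of `X` in `N_S(Q)`. -/
abbrev nn (S Q X : Subgroup Ω) : Subgroup Ω := normalizerIn (normalizerIn S Q) X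

theorem le_nn (hX : X ≤ normalizerIn S Q) : X ≤ nn S Q X := le_inf hX Subgroup.le_normalizer

theorem τImg_normalized (hX : X ≤ normalizerIn S Q) {z : D.model.G} (hz : z ∈ D.τImg (nn S Q X)) :
    z ∈ Subgroup.normalizer (D.τImg X : Set D.model.G) := by
  obtain ⟨n, hn, rfl⟩ := (D.mem_τImg inf_le_left).1 hz
  have key : ∀ m ∈ nn S Q X, ∀ y ∈ D.τImg X, D.τ m * y * (D.τ m)⁻¹ ∈ D.τImg X := by
    intro m hm y hy
    obtain ⟨x, hx, rfl⟩ := (D.mem_τImg hX).1 hy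
    rw [← D.τ_conj hm.1 (hX hx)]
    exact D.τ_mem hX ((Subgroup.mem_normalizer_iff.1 hm.2 x).1 hx)
  refine Subgroup.mem_normalizer_iff.2 fun y => ⟨key n hn y, fun hy => ?_⟩
  have h1 := key n⁻¹ (inv_mem hn) _ hy
  rw [D.τ_inv hn.1] at h1
  simpa [mul_assoc] using h1

/-- `τ(N_{N_S(Q)}(X))` is a Sylow subgroup of the stabilizer of `τ X`. -/
def Syl (X : Subgroup Ω) : Prop :=
  ¬ p ∣ (D.τImg (nn S Q X)).relIndex (D.L ⊓ Subgroup.normalizer (D.τImg X : Set D.model.G))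

theorem τImg_nn_le (hX : X ≤ normalizerIn S Q) :
    D.τImg (nn S Q X) ≤ D.L ⊓ Subgroup.normalizer (D.τImg X : Set D.model.G) :=
  le_inf (D.τImg_le_L inf_le_left) fun _ hz => D.τImg_normalized hX hz

/-- The elements of `N_S(Q)` going into `Z`. -/
def pre (Z : Subgroup D.model.G) : Subgroup Ω where
  carrier := {x | x ∈ normalizerIn S Q ∧ D.τ x ∈ Z}
  one_mem' := ⟨one_mem _, by
    have h1 := D.τ_mul (one_mem (normalizerIn S Q)) (one_mem _)
    rw [one_mul, left_eq_mul] at h1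
    rw [h1]; exact one_mem _⟩
  mul_mem' := fun {a b} ha hb => ⟨mul_mem ha.1 hb.1, by rw [D.τ_mul ha.1 hb.1]; exact mul_mem ha.2 hb.2⟩
  inv_mem' := fun {a} ha => ⟨inv_mem ha.1, by rw [D.τ_inv ha.1]; exact inv_mem ha.2⟩

theorem τImg_pre {Z : Subgroup D.model.G} (hZ : Z ≤ D.U) : D.τImg (D.pre Z) = Z := by
  ext z
  rw [D.mem_τImg (show D.pre Z ≤ normalizerIn S Q from fun x hx => hx.1)]
  refine ⟨?_, fun hz => ?_⟩
  · rintro ⟨x, hx, rfl⟩
    exact hx.2
  · obtain ⟨x, hx, rfl⟩ := (D.mem_τImg le_rfl).1 (hZ hz)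
    exact ⟨x, ⟨hx, hz⟩, rfl⟩

/-- Every `X` over `Q` is carried by `L`, with its normalizer, to one with the Sylow property. -/
theorem exists_syl (hQX : Q ≤ X) (hX : X ≤ normalizerIn S Q) :
    ∃ l ∈ D.L, ∃ k, IsMap F (nn S Q X) k ∧ (∀ x ∈ nn S Q X, k x ∈ nn S Q (img X k)) ∧
      (∀ x ∈ nn S Q X, D.τ (k x) = l * D.τ x * l⁻¹) ∧ Q ≤ img X k ∧
      img X k ≤ normalizerIn S Q ∧ D.Syl (img X k) := by
  haveI := D.H_normal
  haveI := D.model.fin
  set K := D.L ⊓ Subgroup.normalizer (D.τImg X : Set D.model.G) with hK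
  have hNK := D.τImg_nn_le hX
  have hnN : nn S Q X ≤ normalizerIn S Q := inf_le_left
  obtain ⟨W, hNW, hWK, hWp, hWi⟩ := exists_le_not_dvd_relIndex
    (D.isPGroup_U.to_le (D.τImg_le_U hnN)) hNK
  obtain ⟨l, hl, hlW⟩ := exists_conj_le_of_not_dvd_relIndex D.isPGroup_U
    (le_sup_right : D.U ≤ D.L) D.not_dvd_U hWp
    (hWK.trans inf_le_left)
  replace hl : l ∈ D.L := hl
  obtain ⟨k, hk, hkN, hke⟩ := D.exists_map hnN (g := l) fun x hx =>
    hlW (conj_mem_conjBy (hNW (D.τ_mem hnN hx)))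
  have hXn := le_nn hX
  set X' := img X k with hX'
  have hX'N : X' ≤ normalizerIn S Q :=
    (hk.mono hXn).img_le_of_forall fun x hx => hkN x (hXn hx)
  have hkX : conjBy l (D.τImg X) = D.τImg X' := by
    ext z
    rw [mem_conjBy, D.mem_τImg hX, D.mem_τImg hX'N]
    constructor
    · rintro ⟨x, hx, hxe⟩
      refine ⟨k x, (hk.mono hXn).mem_img.2 ⟨x, hx, rfl⟩, ?_⟩
      rw [hke x (hXn hx), hxe]
      group
    · rintro ⟨y, hy, rfl⟩
      obtain ⟨x, hx, rfl⟩ := (hk.mono hXn).mem_img.1 hy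
      exact ⟨x, hx, by rw [hke x (hXn hx)]; group⟩
  refine ⟨l, hl, k, hk, fun x hx => ⟨hkN x hx, (map_mem_normalizerIn hk hXn hx hx.2).2⟩, hke,
    fun q hq => ?_, hX'N, ?_⟩
  · -- `Q` is normal in the group
    haveI := D.H_normal
    have hqN := D.qN hq
    obtain ⟨x, hx, hxe⟩ : ∃ x ∈ X, D.τ x = l⁻¹ * D.τ q * l := by
      have h1 := D.model.conj_Q l⁻¹ (x := D.φ q)
        ((D.map.mono D.qN).mem_img.2 ⟨q, hq, rfl⟩)
      rw [inv_inv] at h1
      obtain ⟨q', hq', hq'e⟩ := (D.mem_τImg D.qN).1 h1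
      exact ⟨q', hQX hq', hq'e⟩
    refine (hk.mono hXn).mem_img.2 ⟨x, hx, D.τ_inj (hkN x (hXn hx)) hqN ?_⟩
    rw [hke x (hXn hx), hxe]
    group
  · have hW' : conjBy l W ≤ D.τImg (nn S Q X') := fun z hz => by
      obtain ⟨n, hn, rfl⟩ := (D.mem_τImg le_rfl).1 (hlW hz)
      refine D.τ_mem inf_le_left ⟨hn, conjBy_eq_iff.1 (eq_of_le_of_card_le
        (hX'N.trans inf_le_left) (conjBy_le_iff.2 fun y hy => ?_) (card_conjBy n X').ge)⟩
      refine D.mem_of_τ_mem hX'N (mul_mem (mul_mem hn (hX'N hy)) (inv_mem hn)) ?_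
      rw [D.τ_conj hn (hX'N hy), ← hkX]
      have h2 := (hWK (mem_conjBy.1 hz)).2
      have h3 : D.τ y ∈ conjBy l (D.τImg X) := hkX.ge (D.τ_mem hX'N hy)
      have h4 := (Subgroup.mem_normalizer_iff.1 h2 _).1 (mem_conjBy.1 h3)
      rw [mem_conjBy]
      convert h4 using 1
      group
    have hKK : D.L ⊓ Subgroup.normalizer (D.τImg X' : Set D.model.G) = conjBy l K := by
      ext z
      rw [mem_conjBy, hK, Subgroup.mem_inf, Subgroup.mem_inf, ← hkX]
      refine and_congr ⟨fun hz => mul_mem (mul_mem (inv_mem hl) hz) hl, fun hz => ?_⟩ ?_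
      · have h1 := mul_mem (mul_mem hl hz) (inv_mem hl)
        convert h1 using 1
        group
      · simp only [← conjBy_eq_iff, conjBy_conjBy]
        constructor
        · intro e
          have := congrArg (conjBy l⁻¹) e
          rwa [conjBy_conjBy, conjBy_inv_conjBy, ← mul_assoc] at this
        · intro e
          have := congrArg (conjBy l) e
          rw [conjBy_conjBy] at this
          convert this using 2
          group
    intro hd
    refine hWi ?_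
    rw [hKK] at hd
    have h1 := hd.trans (Subgroup.relIndex_dvd_of_le_left _ hW')
    rwa [conjBy, conjBy, Subgroup.relIndex_map_map_of_injective _ _ (MulAut.conj l).injective] at h1

/-- Conjugation by `g` gives a map of the product on `X`. -/
def Gives (X : Subgroup Ω) (g : D.model.G) : Prop :=
  ∃ f, IsMap (prodSys h) X f ∧ (∀ x ∈ X, f x ∈ normalizerIn S Q) ∧
    ∀ x ∈ X, D.τ (f x) = g * D.τ x * g⁻¹

theorem Gives.comp (hX : X ≤ normalizerIn S Q) {g g' : D.model.G} {k : Ω → Ω}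
    (hk : IsMap (prodSys h) X k) (hkY : ∀ x ∈ X, k x ∈ Y)
    (hke : ∀ x ∈ X, D.τ (k x) = g * D.τ x * g⁻¹) (hg' : D.Gives Y g') : D.Gives X (g' * g) := by
  obtain ⟨f, hf, hfN, hfe⟩ := hg'
  refine ⟨f ∘ k, hk.comp hf hkY, fun x hx => hfN _ (hkY x hx), fun x hx => ?_⟩
  show D.τ (f (k x)) = _
  rw [hfe _ (hkY x hx), hke x hx]
  group

include hE

/-- Stabilizers of subgroups with the Sylow property act as the product does. -/
theorem exists_aut_of_syl (hQX : Q ≤ X) (hX : X ≤ normalizerIn S Q) (hs : D.Syl X)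
    {g : D.model.G} (hg : g ∈ D.L ⊓ Subgroup.normalizer (D.τImg X : Set D.model.G)) :
    ∃ a ∈ (prodSys h).autGroup X, ∀ x ∈ X, D.τ (autFun a x) = g * D.τ x * g⁻¹ := by
  haveI := D.model.fin
  set K := D.L ⊓ Subgroup.normalizer (D.τImg X : Set D.model.G)
  have hXS : X ≤ S := hX.trans inf_le_left
  let G₀ : Subgroup D.model.G :=
    { carrier := {g | ∃ a ∈ (prodSys h).autGroup X, ∀ x ∈ X, D.τ (autFun a x) = g * D.τ x * g⁻¹}
      one_mem' := ⟨1, one_mem _, fun x hx => by rw [autFun_one hx]; group⟩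
      mul_mem' := fun {u v} ⟨a, ha, hau⟩ ⟨b, hb, hbv⟩ => ⟨a * b, mul_mem ha hb, fun x hx => by
        rw [autFun_mul _ _ hx, hau _ (autFun_mem b hx), hbv x hx]; group⟩
      inv_mem' := fun {u} ⟨a, ha, hau⟩ => ⟨a⁻¹, inv_mem ha, fun x hx => by
        have h1 := hau _ (autFun_mem a⁻¹ hx)
        rw [PPrime.autFun_symm' hx] at h1
        rw [h1]; group⟩ }
  have hNK := D.τImg_nn_le hX
  let Sy : Sylow p K := ((D.isPGroup_U.to_le (D.τImg_le_U inf_le_left)).of_equiv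
    (Subgroup.subgroupOfEquivOfLe hNK).symm).toSylow hs
  have htop := pResidual_sup_sylow (p := p) (G := K) Sy
  suffices key : (⊤ : Subgroup K) ≤ G₀.subgroupOf K from key (Subgroup.mem_top (⟨g, hg⟩ : K))
  rw [← htop]
  refine sup_le ((Subgroup.closure_le _).2 fun z hz => ?_) fun z hz => ?_
  · have hco : (orderOf (z : D.model.G)).Coprime p := by
      have h1 : Nat.Coprime (orderOf z) p := hz
      rwa [← Subgroup.orderOf_coe] at h1
    obtain ⟨a, ha, haco, hae⟩ := D.exists_aut_of_coprime hE hQX hX z.2.1 hco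
      fun x hx => (Subgroup.mem_normalizer_iff.1 z.2.2 _).1 (D.τ_mem hX hx)
    exact ⟨a, gen_mem_autGroup h hXS (D.qs.mono (le_inf hQX D.qs.le) inf_le_right) ha haco, hae⟩
  · obtain ⟨n, hn, hne⟩ := (D.mem_τImg (inf_le_left : nn S Q X ≤ _)).1
      (Subgroup.mem_subgroupOf.1 hz)
    refine ⟨conjAut n hn.2, autInducedBy_le_autGroup hXS (conjAut_mem hn.1.1 hn.2), fun x hx => ?_⟩
    rw [autFun_conjAut hn.2 hx, D.τ_conj hn.1 (hX hx), hne]
    rfl

/-- Conjugations by the group between subgroups over `Q` are maps of the product. -/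
theorem gives (hQX : Q ≤ X) (hX : X ≤ normalizerIn S Q) {g : D.model.G} (hg : g ∈ D.L)
    (hgX : ∀ x ∈ X, g * D.τ x * g⁻¹ ∈ D.U) : D.Gives X g := by
  induction hk : Nat.card (normalizerIn S Q) - Nat.card X using Nat.strong_induction_on
    generalizing X g with
  | _ n ih =>
  subst hk
  haveI := D.model.fin
  have hNS : normalizerIn S Q ≤ S := inf_le_left
  by_cases hXN : X = normalizerIn S Q
  · subst hXN
    have hn : g ∈ Subgroup.normalizer (D.τImg (normalizerIn S Q) : Set D.model.G) :=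
      conjBy_eq_iff.1 (Subgroup.eq_of_le_of_card_ge (conjBy_le_iff.2 fun z hz => by
        obtain ⟨x, hx, rfl⟩ := (D.mem_τImg le_rfl).1 hz
        exact hgX x hx) (card_conjBy g _).ge)
    have hs : D.Syl (normalizerIn S Q) := by
      rw [Syl, show nn S Q (normalizerIn S Q) = normalizerIn S Q from
        inf_eq_left.2 Subgroup.le_normalizer]
      exact fun hd => D.not_dvd_U (hd.trans (Dvd.intro _ (Subgroup.relIndex_mul_relIndex _ _ _
        (le_inf le_sup_right Subgroup.le_normalizer) inf_le_left)))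
    obtain ⟨a, ha, hae⟩ := D.exists_aut_of_syl hE hQX le_rfl hs ⟨hg, hn⟩
    exact ⟨autFun a, (mem_autGroup_iff hNS).1 ha, fun x hx => autFun_mem a hx, hae⟩
  obtain ⟨f, hf, hfN, hfe⟩ := D.exists_map hX hgX
  set Y := img X f with hY
  have hYN : Y ≤ normalizerIn S Q := hf.img_le_of_forall hfN
  haveI := finite_of_le hNS
  have hlt : ∀ {W : Subgroup Ω}, W ≤ normalizerIn S Q → Nat.card W = Nat.card X →
      Nat.card (normalizerIn S Q) - Nat.card (nn S Q W) <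
        Nat.card (normalizerIn S Q) - Nat.card X := by
    intro W hW hWc
    haveI : Group.IsNilpotent (normalizerIn S Q) := (h.pgroup.to_le hNS).isNilpotent
    have hne : W ≠ normalizerIn S Q := fun e => hXN
      (eq_of_le_of_card_le hNS hX (by rw [← e, hWc]))
    have h1 : Nat.card W < Nat.card (nn S Q W) :=
      card_lt_of_lt (inf_le_left.trans hNS : nn S Q W ≤ S) (lt_inf_normalizer hW hne)
    have h2 : Nat.card (nn S Q W) ≤ Nat.card (normalizerIn S Q) :=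
      card_le_of_le' hNS inf_le_left
    omega
  have hQY : Q ≤ Y := fun q hq => by
    obtain ⟨q', hq', hq'e⟩ : ∃ q' ∈ Q, D.τ q' = g⁻¹ * D.τ q * g := by
      have h1 := D.model.conj_Q g⁻¹ (x := D.φ q) ((D.map.mono D.qN).mem_img.2 ⟨q, hq, rfl⟩)
      rw [inv_inv] at h1
      exact (D.mem_τImg D.qN).1 h1
    refine hf.mem_img.2 ⟨q', hQX hq', D.τ_inj (hfN _ (hQX hq')) (D.qN hq) ?_⟩
    rw [hfe _ (hQX hq'), hq'e]
    group
  -- to members with the Sylow property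
  obtain ⟨l, hl, k, hk, hkn, hke, hQX', hX', hXs⟩ := D.exists_syl hQX hX
  obtain ⟨l', hl', k', hk', hk'n, hk'e, hQY', hY', hYs⟩ := D.exists_syl hQY hYN
  have hcard' : Nat.card (img X k) = Nat.card X := (hk.mono (le_nn hX)).card_img
  obtain ⟨m, hm, hmN, hme⟩ := ih _ (hlt hX rfl) (hQX.trans (le_nn hX)) inf_le_left hl
    (fun x hx => hke x hx ▸ D.τ_mem_U (hkn x hx).1) rfl
  obtain ⟨m', hm', hm'N, hm'e⟩ := ih _ (hlt hYN hf.card_img) (hQY.trans (le_nn hYN)) inf_le_left hl'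
    (fun x hx => hk'e x hx ▸ D.τ_mem_U (hk'n x hx).1) rfl
  set X' := img X k
  set Y' := img Y k'
  set g₁ := l' * g * l⁻¹ with hg₁
  have hkX : ∀ x' ∈ X', ∃ x ∈ X, k x = x' := fun x' hx' => (hk.mono (le_nn hX)).mem_img.1 hx'
  have hg₁X : ∀ x' ∈ X', g₁ * D.τ x' * g₁⁻¹ ∈ D.τImg Y' := fun x' hx' => by
    obtain ⟨x, hx, rfl⟩ := hkX x' hx'
    have hfx : f x ∈ Y := hf.mem_img.2 ⟨x, hx, rfl⟩
    have h1 := D.τ_mem hY' ((hk'.mono (le_nn hYN)).mem_img.2 ⟨f x, hfx, rfl⟩)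
    rw [hk'e _ (le_nn hYN hfx), hfe x hx] at h1
    rw [hke x (le_nn hX hx), hg₁]
    convert h1 using 1
    group
  have hg₁eq : conjBy g₁ (D.τImg X') = D.τImg Y' := by
    refine Subgroup.eq_of_le_of_card_ge (conjBy_le_iff.2 fun z hz => ?_) ?_
    · obtain ⟨x, hx, rfl⟩ := (D.mem_τImg hX').1 hz
      exact hg₁X x hx
    · rw [card_conjBy, D.card_τImg hX', D.card_τImg hY', hcard',
        (hk'.mono (le_nn hYN)).card_img, hf.card_img]
  have hg₁L : g₁ ∈ D.L := mul_mem (mul_mem hl' hg) (inv_mem hl)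
  -- correct `g₁` on the normalizers
  have hnX' : nn S Q X' ≤ normalizerIn S Q := inf_le_left
  have hcK : conjBy g₁ (D.τImg (nn S Q X')) ≤
      D.L ⊓ Subgroup.normalizer (D.τImg Y' : Set D.model.G) := conjBy_le_iff.2 fun z hz => by
    refine Subgroup.mem_inf.2 ⟨mul_mem (mul_mem hg₁L (D.τImg_le_L hnX' hz)) (inv_mem hg₁L), ?_⟩
    have h1 := conjBy_eq_iff.2 (D.τImg_normalized hX' hz)
    refine conjBy_eq_iff.1 ?_
    rw [← hg₁eq, conjBy_conjBy, show g₁ * z * g₁⁻¹ * g₁ = g₁ * z by group, ← conjBy_conjBy g₁ z, h1]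
  obtain ⟨u, hu, huN⟩ := exists_conj_le_of_not_dvd_relIndex
    (D.isPGroup_U.to_le (D.τImg_le_U (inf_le_left : nn S Q Y' ≤ _))) (D.τImg_nn_le hY') hYs
    (isPGroup_conjBy g₁ (D.isPGroup_U.to_le (D.τImg_le_U hnX'))) hcK
  rw [conjBy_conjBy] at huN
  obtain ⟨r, hr, hrN, hre⟩ := ih _ (hlt hX' hcard') (hQX'.trans (le_nn hX')) inf_le_left
    (g := u * g₁) (mul_mem hu.1 hg₁L)
    (fun x hx => D.τImg_le_U inf_le_left (huN (conj_mem_conjBy (D.τ_mem hnX' hx)))) rfl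
  obtain ⟨b, hb, hbe⟩ := D.exists_aut_of_syl hE hQY' hY' hYs (inv_mem hu)
  obtain ⟨mi, hmi, hmi1, -⟩ := (hm'.mono (le_nn hYN)).exists_inv
  have hY'm : img Y m' = Y' := IsMap.img_congr fun y hy => D.τ_inj (hm'N y (le_nn hYN hy))
    (hk'n y (le_nn hYN hy)).1 (by rw [hm'e y (le_nn hYN hy), hk'e y (le_nn hYN hy)])
  rw [hY'm] at hmi
  -- the four steps
  have hrY : ∀ x' ∈ X', r x' ∈ Y' := fun x' hx' => by
    refine D.mem_of_τ_mem hY' (hrN x' (le_nn hX' hx')) ?_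
    rw [hre x' (le_nn hX' hx')]
    have h1 := (Subgroup.mem_normalizer_iff.1 hu.2 _).1 (hg₁X x' hx')
    convert h1 using 1
    group
  have hmX : ∀ x ∈ X, m x ∈ X' := fun x hx => by
    refine D.mem_of_τ_mem hX' (hmN x (le_nn hX hx)) ?_
    rw [hme x (le_nn hX hx), ← hke x (le_nn hX hx)]
    exact D.τ_mem hX' ((hk.mono (le_nn hX)).mem_img.2 ⟨x, hx, rfl⟩)
  have hback : D.Gives Y' l'⁻¹ := ⟨mi, hmi, fun y hy => by
    obtain ⟨x, hx, rfl⟩ := (hm'.mono (le_nn hYN)).mem_img.1 (hY'm.ge hy)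
    rw [hmi1 x hx]; exact hYN hx, fun y hy => by
    obtain ⟨x, hx, rfl⟩ := (hm'.mono (le_nn hYN)).mem_img.1 (hY'm.ge hy)
    rw [hmi1 x hx, hm'e x (le_nn hYN hx)]; group⟩
  have h3 : D.Gives Y' (l'⁻¹ * u⁻¹) := Gives.comp D hY'
    ((mem_autGroup_iff (hY'.trans hNS)).1 hb) (fun y hy => autFun_mem b hy) hbe hback
  have h2 : D.Gives X' (l'⁻¹ * u⁻¹ * (u * g₁)) := Gives.comp D hX' (hr.mono (le_nn hX')) hrY
    (fun x hx => hre x (le_nn hX' hx)) h3
  have h1 : D.Gives X (l'⁻¹ * u⁻¹ * (u * g₁) * l) := Gives.comp D hX (hm.mono (le_nn hX)) hmX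
    (fun x hx => hme x (le_nn hX hx)) h2
  rwa [show l'⁻¹ * u⁻¹ * (u * g₁) * l = g by rw [hg₁]; group] at h1

/-- An element carrying `Y` onto a member `X` with the Sylow property, corrected by the
centralizer of `X`, extends to the part of the normalizer acting as that of `X`. -/
theorem exists_extension (hQX : Q ≤ X) (hX : X ≤ normalizerIn S Q) (hXs : D.Syl X)
    (hQY : Q ≤ Y) (hYZ : Y ≤ Z) (hZ : Z ≤ nn S Q Y) {g : D.model.G} (hg : g ∈ D.L)
    (hgY : conjBy g (D.τImg Y) = D.τImg X)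
    (hgZ : ∀ z ∈ Z, ∃ m ∈ nn S Q X, ∀ y ∈ D.τImg X,
      g * D.τ z * g⁻¹ * y * (g * D.τ z * g⁻¹)⁻¹ = D.τ m * y * (D.τ m)⁻¹) :
    ∃ c ∈ D.L, c ∈ Subgroup.centralizer (D.τImg X : Set D.model.G) ∧
      (∀ z ∈ Z, c * g * D.τ z * (c * g)⁻¹ ∈ D.τImg (nn S Q X)) ∧ D.Gives Z (c * g) := by
  haveI := D.model.fin
  have hZN : Z ≤ normalizerIn S Q := hZ.trans inf_le_left
  set N := D.τImg (nn S Q X) with hN
  set C := D.L ⊓ Subgroup.centralizer (D.τImg X : Set D.model.G) with hC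
  set K := D.L ⊓ Subgroup.normalizer (D.τImg X : Set D.model.G) with hK
  have hNC : N ≤ Subgroup.normalizer (C : Set D.model.G) := fun n hn => by
    have hnK := D.τImg_nn_le hX hn
    have key : ∀ n ∈ K, ∀ c ∈ C, n * c * n⁻¹ ∈ C := fun n hn c hc => by
      refine Subgroup.mem_inf.2 ⟨mul_mem (mul_mem hn.1 hc.1) (inv_mem hn.1),
        Subgroup.mem_centralizer_iff.2 fun y hy => ?_⟩
      have hy' := (Subgroup.mem_normalizer_iff.1 (inv_mem hn.2) y).1 hy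
      have h1 := Subgroup.mem_centralizer_iff.1 hc.2 _ hy'
      calc y * (n * c * n⁻¹) = n * (n⁻¹ * y * n⁻¹⁻¹ * c) * n⁻¹ := by group
        _ = n * c * n⁻¹ * y := by rw [h1]; group
    refine Subgroup.mem_normalizer_iff.2 fun c => ⟨key n hnK c, fun hc => ?_⟩
    have := key n⁻¹ (inv_mem hnK) _ hc
    simpa [mul_assoc] using this
  have hWK : N ⊔ C ≤ K := sup_le (D.τImg_nn_le hX)
    (inf_le_inf_left _ (Subgroup.centralizer_le_normalizer _))
  have hgW : conjBy g (D.τImg Z) ≤ N ⊔ C := conjBy_le_iff.2 fun u hu => by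
    obtain ⟨z, hz, rfl⟩ := (D.mem_τImg hZN).1 hu
    obtain ⟨m, hm, hme⟩ := hgZ z hz
    have hmN : D.τ m ∈ N := D.τ_mem inf_le_left hm
    set w := g * D.τ z * g⁻¹
    have hc : (D.τ m)⁻¹ * w ∈ C := by
      refine Subgroup.mem_inf.2 ⟨mul_mem (inv_mem (D.τ_mem_L hm.1))
        (mul_mem (mul_mem hg (D.τ_mem_L (hZN hz))) (inv_mem hg)), ?_⟩
      refine Subgroup.mem_centralizer_iff.2 fun y hy => ?_
      calc y * ((D.τ m)⁻¹ * w) = (D.τ m)⁻¹ * (D.τ m * y * (D.τ m)⁻¹) * w := by group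
        _ = (D.τ m)⁻¹ * w * y := by rw [← hme y hy]; group
    have h1 := mul_mem (Subgroup.mem_sup_left (T := C) hmN) (Subgroup.mem_sup_right (S := N) hc)
    rwa [mul_inv_cancel_left] at h1
  obtain ⟨e, he, heN⟩ := exists_conj_le_of_not_dvd_relIndex
    (D.isPGroup_U.to_le (D.τImg_le_U inf_le_left)) (le_sup_left : N ≤ N ⊔ C)
    (fun hd => hXs (hd.trans (Dvd.intro _ (Subgroup.relIndex_mul_relIndex _ _ _ le_sup_left hWK))))
    (isPGroup_conjBy g (D.isPGroup_U.to_le (D.τImg_le_U hZN))) hgW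
  rw [← SetLike.mem_coe, coe_mul_of_left_le_normalizer_right N C hNC] at he
  obtain ⟨v, hv, c, hc, rfl⟩ := Set.mem_mul.1 he
  have hcN : ∀ z ∈ Z, c * g * D.τ z * (c * g)⁻¹ ∈ N := fun z hz => by
    have h1 := heN (conj_mem_conjBy (g := v * c) (conj_mem_conjBy (g := g) (D.τ_mem hZN hz)))
    have h2 := mul_mem (mul_mem (inv_mem hv) h1) hv
    convert h2 using 1
    group
  exact ⟨c, hc.1, hc.2, hcN, D.gives hE (hQY.trans hYZ) hZN (mul_mem hc.1 hg)
    fun z hz => D.τImg_le_U inf_le_left (hcN z hz)⟩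

end Loc

end CfsgLib.Fusion.Product
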