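import Cfsg.Agent.Lib.Fusion.System.Meet.ProductClass

/-!
# Saturation of the product over `T`, and the local properties below it

Over `T` the maps of the product are the conjugations of the local group at `T`, so the product is
saturated there. Below, a member with the Sylow property in its local group has its `aZero` meeting
`Aut_S` in a Sylow subgroup and its elements of `aZero` extend as far as conjugation allows.
-/

set_option autoImplicit false
set_option maxHeartbeats 1000000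
set_option linter.style.haveILetI false
set_option linter.unusedSectionVars false

open Subgroup
open scoped Classical Pointwise

namespace CfsgLib.Fusion.Product

open Cfsg (FusionSystem autInducedBy)
open Cfsg.FusionSystem (normalizerIn centralizerIn)
open CfsgLib.Fusion CfsgLib.Fusion.CentLift CfsgLib.Fusion.Meet
open CfsgLib.Fusion.FamilySat (SatAt)

universe u

section Groups

variable {G : Type*} [Group G] {p : ℕ}

variable [Finite G] [Fact p.Prime]

theorem relIndex_sup_of_le_normalizer {H N : Subgroup G}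
    (hn : H ≤ Subgroup.normalizer (N : Set G)) : H.relIndex (N ⊔ H) = H.relIndex N := by
  set L := Subgroup.normalizer (N : Set G) with hL
  have hN : N ≤ L := Subgroup.le_normalizer
  haveI : (N.subgroupOf L).Normal := Subgroup.normal_in_normalizer
  have h4 := relIndex_sup_of_normal (H.subgroupOf L) (N.subgroupOf L)
  rwa [← Subgroup.subgroupOf_sup hN hn, Subgroup.relIndex_subgroupOf (sup_le hN hn),
    Subgroup.relIndex_subgroupOf hN] at h4

theorem not_dvd_inf_of_normalized {U W N : Subgroup G} (hU : IsPGroup p U) (hUW : U ≤ W)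
    (hi : ¬ p ∣ U.relIndex W) (hNW : N ≤ W) (hn : ∀ w ∈ W, ∀ n ∈ N, w * n * w⁻¹ ∈ N) :
    ¬ p ∣ (U ⊓ N).relIndex N := by
  haveI : (N.subgroupOf W).Normal := ⟨fun n hn' w => hn w w.2 n hn'⟩
  let Sy : Sylow p W := (hU.of_equiv (Subgroup.subgroupOfEquivOfLe hUW).symm).toSylow hi
  have h1 := not_dvd_relIndex_inf_of_normal Sy (N.subgroupOf W)
  rwa [show ((Sy : Subgroup W) ⊓ N.subgroupOf W) = (U ⊓ N).subgroupOf W from
    (Subgroup.comap_inf _ _ _).symm, Subgroup.relIndex_subgroupOf hNW] at h1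

end Groups

variable {Ω : Type u} [Group Ω] {S T : Subgroup Ω} {F : FusionSystem S} {p : ℕ}
  {E : FusionSystem T} {P Q R X : Subgroup Ω} {f g : Ω → Ω} [Finite S] [Fact p.Prime]

/-- A map of the normalizer of a fully normalized subgroup. -/
theorem normalized_img {G : FusionSystem S} (hP : G.IsFullyNormalized P)
    (hg : IsMap G (normalizerIn S P) g) :
    img (normalizerIn S P) g = normalizerIn S (img P g) ∧ G.IsFullyNormalized (img P g) := by
  have hPN := le_normalizerIn (S := S) hP.1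
  have hgP := hg.mono hPN
  have hconj : G.IsConj P (img P g) := isConj_iff.2 ⟨g, hgP, rfl⟩
  have hN : img (normalizerIn S P) g = normalizerIn S (img P g) := by
    refine eq_of_le_of_card_le inf_le_left (fun y hy => ?_) (hg.card_img ▸ hP.2 _ hconj)
    obtain ⟨x, hx, rfl⟩ := hg.mem_img.1 hy
    exact map_mem_normalizerIn hg hPN hx hx.2
  refine ⟨hN, hgP.img_le, fun R hR => ?_⟩
  rw [← hN, hg.card_img]
  exact hP.2 R (isConj_trans hconj hR)

variable {h : Setup F p E E T}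

/-- A subgroup with largest normalizer in `T` has a local group. -/
theorem exists_loc (hQs : SelfC F T Q) (hQ : TMax F T Q) : Nonempty (Loc h Q) := by
  obtain ⟨Q₀, hQQ, hQ₀⟩ := exists_fullyNormalized (F := F) (hQs.le.trans h.hTS)
  obtain ⟨ha, hr⟩ := IsSaturated.automized_receptive h.pgroup h.sat hQ₀
  obtain ⟨φ, hφ, hφQ, -⟩ := exists_map_normalizer h.pgroup ha hr hQQ
  subst hφQ
  obtain ⟨M⟩ := exists_lModel h.pgroup h.sat hQ₀
  refine ⟨⟨hQs, φ, hφ, hQ₀, ?_, M⟩⟩
  have hTN : normalizerIn T Q ≤ normalizerIn S Q := inf_le_inf_right _ h.hTS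
  refine (eq_of_le_of_card_le (inf_le_left.trans h.hTS) ((hφ.mono hTN).img_le_of_forall fun x hx =>
    ⟨cl_mem h.closed hφ (hTN hx) hx.1,
      (map_mem_normalizerIn hφ (le_normalizerIn (hQs.le.trans h.hTS)) (hTN hx) hx.2).2⟩) ?_).ge
  rw [(hφ.mono hTN).card_img]
  exact hQ.2 φ (hφ.mono (le_normalizerIn (hQs.le.trans h.hTS)))

/-- A fully normalized subgroup has a local group with `φ = id`. -/
theorem exists_loc_self (hQs : SelfC F T Q) (hQ : F.IsFullyNormalized Q) :
    ∃ D : Loc h Q, D.φ = id := by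
  have hQ' : F.IsFullyNormalized (img Q id) := by rwa [img_id]
  obtain ⟨M⟩ := exists_lModel h.pgroup h.sat hQ'
  refine ⟨⟨hQs, id, isMap_id inf_le_left, hQ', ?_, M⟩, rfl⟩
  rw [img_id, img_id]

theorem nn_eq (h : Setup F p E E T) (hX : X ⊓ T = Q) :
    Loc.nn S Q X = normalizerIn S X := by
  refine le_antisymm (fun x hx => ⟨hx.1.1, hx.2⟩) fun x hx => ⟨⟨hx.1, ?_⟩, hx.2⟩
  subst hX
  exact Subgroup.mem_normalizer_iff.2 fun y =>
    and_congr (Subgroup.mem_normalizer_iff.1 hx.2 y) (Subgroup.mem_normalizer_iff.1 (h.normal hx.1) y)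

namespace Loc

variable (D : Loc h Q) (hE : E.IsNormalIn F p)
include hE

/-- The action of the stabilizer of a member with the Sylow property. -/
theorem exists_autHom (hQX : Q ≤ X) (hX : X ≤ normalizerIn S Q) (hs : D.Syl X) :
    ∃ W : Subgroup (MulAut X), W ≤ (prodSys h).autGroup X ∧
      (∀ a : MulAut X, a ∈ W ↔ ∃ g ∈ D.L ⊓ Subgroup.normalizer (D.τImg X : Set D.model.G),
        ∀ x ∈ X, D.τ (autFun a x) = g * D.τ x * g⁻¹) ∧
      autInducedBy (nn S Q X) X ≤ W ∧ ¬ p ∣ (autInducedBy (nn S Q X) X).relIndex W := by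
  haveI := D.model.fin
  set K := D.L ⊓ Subgroup.normalizer (D.τImg X : Set D.model.G) with hK
  have hw : ∀ g : K, ∃ a ∈ (prodSys h).autGroup X,
      ∀ x ∈ X, D.τ (autFun a x) = (g : D.model.G) * D.τ x * (g : D.model.G)⁻¹ :=
    fun g => D.exists_aut_of_syl hE hQX hX hs g.2
  choose a ha hae using hw
  have hu : ∀ (g : K) (b : MulAut X),
      (∀ x ∈ X, D.τ (autFun b x) = (g : D.model.G) * D.τ x * (g : D.model.G)⁻¹) → a g = b :=
    fun g b hb => autFun_ext fun x hx => D.τ_inj (hX (autFun_mem _ hx)) (hX (autFun_mem _ hx))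
      ((hae g x hx).trans (hb x hx).symm)
  let r : K →* MulAut X := MonoidHom.mk' a fun u v => hu _ _ fun x hx => by
    rw [autFun_mul _ _ hx, hae u _ (autFun_mem _ hx), hae v x hx, Subgroup.coe_mul]
    group
  have hr : ∀ g : K, r g = a g := fun _ => rfl
  have hNK := D.τImg_nn_le hX
  have hUr : ((D.τImg (nn S Q X)).subgroupOf K).map r = autInducedBy (nn S Q X) X := by
    ext b
    rw [mem_autInducedBy_iff]
    constructor
    · rintro ⟨g, hg, rfl⟩
      obtain ⟨n, hn, hne⟩ := (D.mem_τImg (inf_le_left : nn S Q X ≤ _)).1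
        (Subgroup.mem_subgroupOf.1 hg)
      refine ⟨n, hn, fun x hx => ?_⟩
      rw [hr, hu g (conjAut n hn.2) fun y hy => by
        rw [autFun_conjAut hn.2 hy, D.τ_conj hn.1 (hX hy), hne], autFun_conjAut hn.2 hx]
    · rintro ⟨n, hn, hne⟩
      refine ⟨⟨D.τ n, hNK (D.τ_mem inf_le_left hn)⟩, Subgroup.mem_subgroupOf.2
        (D.τ_mem inf_le_left hn), hu _ _ fun x hx => ?_⟩
      rw [hne x hx, D.τ_conj hn.1 (hX hx)]
  refine ⟨r.range, ?_, fun b => ⟨?_, ?_⟩, ?_, ?_⟩
  · rintro _ ⟨g, rfl⟩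
    exact ha g
  · rintro ⟨g, rfl⟩
    exact ⟨g, g.2, hae g⟩
  · rintro ⟨g, hg, hge⟩
    exact ⟨⟨g, hg⟩, hu ⟨g, hg⟩ b hge⟩
  · rw [← hUr]
    exact Subgroup.map_le_range r _
  · intro hd
    refine hs (hd.trans ?_)
    rw [← hUr, MonoidHom.range_eq_map, ← Subgroup.relIndex_comap, Subgroup.relIndex_top_right]
    exact Subgroup.index_dvd_of_le (Subgroup.le_comap_map r _)

end Loc

/-- Over `T` every map of the product is a conjugation by the local group at `T`. -/
theorem exists_induced_of_prMap (hE : E.IsNormalIn F p) (D : Loc h T) {U : Subgroup Ω} {f : Ω → Ω}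
    (hf : PrMap h U f) : ∀ X, T ≤ X → X ≤ U →
      ∃ g ∈ D.L, ∀ x ∈ X, D.τ (f x) = g * D.τ x * g⁻¹ := by
  have hN : ∀ {x : Ω}, x ∈ S → x ∈ normalizerIn S T := fun hx => ⟨hx, h.normal hx⟩
  induction hf with
  | @conj U s hU hs =>
    intro X _ hXU
    exact ⟨D.τ s, D.τ_mem_L (hN hs), fun x hx => D.τ_conj (hN hs) (hN (hU (hXU hx)))⟩
  | @gen R U a hR _ ha hco hle =>
    intro X hTX hXU
    have hRT : R ⊓ T = T := inf_eq_right.2 ((hTX.trans hXU).trans hle)
    obtain ⟨g, hg, hge⟩ := D.exists_lift_closure hE (fun x hx => hN (hR hx)) hRT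
      (Subgroup.subset_closure ⟨ha, hco⟩)
    exact ⟨g, Subgroup.mem_sup_left hg, fun x hx => hge x (hle (hXU hx))⟩
  | @comp U R f f' h1 _ hm ih1 ih2 =>
    intro X hTX hXU
    obtain ⟨g, hg, hge⟩ := ih1 X hTX hXU
    have hfX := h1.isMap.mono hXU
    have hTY : T ≤ img X f := by
      have hi : img T f = T := img_eq_of_map_le h.hTS hfX hTX
        fun x hx => cl_mem h.closed hfX (hTX hx) hx
      exact hi.ge.trans (hfX.img_mono hTX)
    obtain ⟨g', hg', hg'e⟩ := ih2 (img X f) hTY (hfX.img_le_of_forall fun x hx => hm x (hXU hx))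
    refine ⟨g' * g, mul_mem hg' hg, fun x hx => ?_⟩
    show D.τ (f' (f x)) = _
    rw [hg'e _ (hfX.mem_img.2 ⟨x, hx, rfl⟩), hge x hx]
    group
  | @congr U f f' _ he ih =>
    intro X hTX hXU
    obtain ⟨g, hg, hge⟩ := ih X hTX hXU
    exact ⟨g, hg, fun x hx => by rw [he x (hXU hx), hge x hx]⟩

/-- The product is saturated over `T`. -/
theorem satAt_top (hE : E.IsNormalIn F p) (hP : P ≤ S) (hTP : T ≤ P) :
    SatAt (prodSys h) p P := by
  obtain ⟨D⟩ := exists_loc (h := h) (selfC_T h) ⟨le_rfl, fun f _ => by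
    rw [show normalizerIn T T = T from inf_eq_left.2 Subgroup.le_normalizer]
    exact card_le_of_le' h.hTS inf_le_left⟩
  have hN : ∀ {x : Ω}, x ∈ S → x ∈ normalizerIn S T := fun hx => ⟨hx, h.normal hx⟩
  have hPN : P ≤ normalizerIn S T := fun x hx => hN (hP hx)
  obtain ⟨l, hl, k, hk, hkn, hke, hTX, hXN, hs⟩ := D.exists_syl hTP hPN
  set X := img P k
  have hPn := Loc.le_nn (S := S) (Q := T) hPN
  obtain ⟨k', hk', hk'N, hk'e⟩ := D.gives hE hTP hPN hl
    fun x hx => hke x (hPn hx) ▸ D.τ_mem_U (hkn x (hPn hx)).1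
  have hXS : X ≤ S := hXN.trans inf_le_left
  have hconj : (prodSys h).IsConj P X := isConj_iff.2 ⟨k', hk', IsMap.img_congr fun x hx =>
    D.τ_inj (hk'N x hx) (hkn x (hPn hx)).1 (by rw [hk'e x hx, hke x (hPn hx)])⟩
  refine ⟨X, hconj, ?_, ?_⟩
  · obtain ⟨W, -, hW, hUW, hi⟩ := D.exists_autHom hE hTX hXN hs
    refine (isFullyAutomized_iff h.pgroup).2 ⟨hXS, fun hd => hi ?_⟩
    have hle : (prodSys h).autGroup X ≤ W := fun a ha => by
      obtain ⟨g, hg, hge⟩ := exists_induced_of_prMap hE D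
        ((isMap_prodSys h).1 ((mem_autGroup_iff hXS).1 ha)) X hTX le_rfl
      refine (hW a).2 ⟨g, ⟨hg, conjBy_eq_iff.1 ?_⟩, hge⟩
      haveI := D.model.fin
      refine Subgroup.eq_of_le_of_card_ge (conjBy_le_iff.2 fun z hz => ?_) (card_conjBy g _).ge
      obtain ⟨x, hx, rfl⟩ := (D.mem_τImg hXN).1 hz
      rw [← hge x hx]
      exact D.τ_mem hXN (autFun_mem a hx)
    have hSe : autInducedBy S X = autInducedBy (Loc.nn S T X) X := by
      refine le_antisymm (fun a ha => ?_) (autInducedBy_mono (inf_le_left.trans inf_le_left))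
      obtain ⟨n, hn, hne⟩ := mem_autInducedBy_iff.1 ha
      exact mem_autInducedBy_iff.2 ⟨n, ⟨hN hn, mem_normalizer_of_autFun hne⟩, hne⟩
    rw [hSe] at hd
    exact hd.trans (Dvd.intro _ (Subgroup.relIndex_mul_relIndex _ _ _
      (hSe ▸ autInducedBy_le_autGroup hXS) hle))
  · refine isReceptive_iff.2 ⟨hXS, fun Y f hf hfX => ?_⟩
    have hYS := hf.le
    have hTY : T ≤ Y := by
      obtain ⟨f', hf', -, hf'2⟩ := hf.exists_inv
      rw [hfX] at hf' hf'2
      have hf'F := isMap_F_of_prod h hf'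
      have hi : img T f' = T := img_eq_of_map_le h.hTS hf'F hTX
        fun x hx => cl_mem h.closed hf'F (hTX hx) hx
      exact hi.ge.trans (((hf'F.mono hTX)).img_le_of_forall fun x hx => (hf'2 x (hTX hx)).1)
    have hYN : Y ≤ normalizerIn S T := fun x hx => hN (hYS hx)
    obtain ⟨g, hg, hge⟩ := exists_induced_of_prMap hE D ((isMap_prodSys h).1 hf) Y hTY le_rfl
    have hgY : conjBy g (D.τImg Y) = D.τImg X := by
      ext z
      rw [mem_conjBy, D.mem_τImg hYN, D.mem_τImg hXN]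
      constructor
      · rintro ⟨y, hy, hye⟩
        exact ⟨f y, hfX.le (hf.mem_img.2 ⟨y, hy, rfl⟩), by rw [hge y hy, hye]; group⟩
      · rintro ⟨x, hx, rfl⟩
        obtain ⟨y, hy, rfl⟩ := hf.mem_img.1 (hfX.ge hx)
        exact ⟨y, hy, by rw [hge y hy]; group⟩
    set Z := extSub S Y f
    have hZn : Z ≤ Loc.nn S T Y := fun z hz => ⟨hN hz.1.1, hz.1.2⟩
    obtain ⟨c, -, hc, -, f', hf', -, hf'e⟩ := D.exists_extension hE hTX hXN hs hTY (le_extSub hf)
      hZn hg hgY fun z hz => by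
        obtain ⟨hzN, w, hw, hwe⟩ := mem_extSub.1 hz
        refine ⟨w, ⟨hN hw, hfX ▸ mem_normalizer_img hf hzN.2 hwe⟩, fun y hy => ?_⟩
        obtain ⟨x, hx, rfl⟩ := (D.mem_τImg hXN).1 hy
        obtain ⟨u, hu, rfl⟩ := hf.mem_img.1 (hfX.ge hx)
        have hzu := (Subgroup.mem_normalizer_iff.1 hzN.2 u).1 hu
        rw [← D.τ_conj (hN hw) (hXN hx), ← hwe u hu, hge _ hzu, hge u hu,
          D.τ_conj (hYN (le_normalizerIn hYS |> fun _ => hu) |> fun _ => hN hzN.1) (hYN hu)]
        group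
    refine ⟨f', hf', fun y hy => ?_⟩
    have hy' := le_extSub hf hy
    refine D.τ_inj (hN (hf'.mem_S hy')) (hN (hf.mem_S hy)) ?_
    rw [hf'e y hy', hge y hy]
    have h1 := Subgroup.mem_centralizer_iff.1 hc (g * D.τ y * g⁻¹)
      (hgY.le (conj_mem_conjBy (D.τ_mem hYN hy)))
    calc c * g * D.τ y * (c * g)⁻¹ = c * (g * D.τ y * g⁻¹) * c⁻¹ := by group
      _ = g * D.τ y * g⁻¹ := by rw [← h1]; group

/-- The local properties of a member of a class below `T`. -/
structure Rich (h : Setup F p E E T) (P : Subgroup Ω) : Prop where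
  index : ¬ p ∣ (autInducedBy S P ⊓ aZero h P).relIndex (aZero h P)
  ext : ∀ a ∈ aZero h P, ∀ Z : Subgroup Ω, P ≤ Z → Z ≤ normalizerIn S P →
    (∀ z ∈ Z, ∃ m ∈ normalizerIn S P, ∀ x ∈ P,
      autFun a (z * x * z⁻¹) = m * autFun a x * m⁻¹) →
    ∃ f, IsMap (prodSys h) Z f ∧ ∀ x ∈ P, f x = autFun a x

/-- A member with the Sylow property in its local group is rich. -/
theorem rich_of_syl (hE : E.IsNormalIn F p) (hPT : P ⊓ T = Q) (D : Loc h Q)
    (hPN : P ≤ normalizerIn S Q) (hs : D.Syl P) : Rich h P := by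
  have hQP : Q ≤ P := hPT ▸ inf_le_left
  have hP : P ≤ S := hPN.trans inf_le_left
  haveI := D.model.fin
  haveI := finite_of_le hP
  haveI := finite_mulAut (P := P)
  have hnn := nn_eq (Q := Q) h hPT
  have hstab : ∀ a ∈ aZero h P, ∃ g ∈ D.L ⊓ Subgroup.normalizer (D.τImg P : Set D.model.G),
      ∀ x ∈ P, D.τ (autFun a x) = g * D.τ x * g⁻¹ := fun a ha => by
    obtain ⟨g, hg, hge⟩ := D.exists_lift_closure hE hPN hPT ha
    refine ⟨g, ⟨Subgroup.mem_sup_left hg, conjBy_eq_iff.1 ?_⟩, hge⟩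
    refine Subgroup.eq_of_le_of_card_ge (conjBy_le_iff.2 fun z hz => ?_) (card_conjBy g _).ge
    obtain ⟨x, hx, rfl⟩ := (D.mem_τImg hPN).1 hz
    rw [← hge x hx]
    exact D.τ_mem hPN (autFun_mem a hx)
  constructor
  · obtain ⟨W, hWA, hW, hUW, hi⟩ := D.exists_autHom hE hQP hPN hs
    rw [hnn] at hUW hi
    have hSe : autInducedBy S P = autInducedBy (normalizerIn S P) P := by
      refine le_antisymm (fun a ha => ?_) (autInducedBy_mono inf_le_left)
      obtain ⟨n, hn, hne⟩ := mem_autInducedBy_iff.1 ha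
      exact mem_autInducedBy_iff.2 ⟨n, ⟨hn, mem_normalizer_of_autFun hne⟩, hne⟩
    rw [hSe]
    refine not_dvd_inf_of_normalized ((isPGroup_autInducedBy h.pgroup).to_le
      (autInducedBy_mono inf_le_left)) hUW hi (fun a ha => (hW a).2 (hstab a ha)) fun w hw a ha => ?_
    exact aZero_conj hP ((mem_autGroup_iff hP).2 (isMap_F_of_prod h
      ((mem_autGroup_iff hP).1 (hWA hw)))) ha
  · intro a ha Z hPZ hZ hcond
    obtain ⟨g, hg, hge⟩ := hstab a ha
    have hgP : conjBy g (D.τImg P) = D.τImg P := conjBy_eq_iff.2 hg.2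
    obtain ⟨c, -, hc, -, f, hf, hfN, hfe⟩ := D.exists_extension hE hQP hPN hs hQP hPZ
      (hnn.symm ▸ hZ) hg.1 hgP fun z hz => by
        obtain ⟨m, hm, hme⟩ := hcond z hz
        have hm' : m ∈ Loc.nn S Q P := hnn.symm ▸ hm
        have hz' : z ∈ Loc.nn S Q P := hnn.symm ▸ hZ hz
        refine ⟨m, hm', fun y hy => ?_⟩
        obtain ⟨w, hw, rfl⟩ := (D.mem_τImg hPN).1 hy
        obtain ⟨x, hx, rfl⟩ : ∃ x ∈ P, autFun a x = w :=
          ⟨autFun a⁻¹ w, autFun_mem _ hw, PPrime.autFun_symm' hw⟩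
        have hzx := (Subgroup.mem_normalizer_iff.1 hz'.2 x).1 hx
        rw [← D.τ_conj hm'.1 (hPN hw), ← hme x hx, hge _ hzx, hge x hx, D.τ_conj hz'.1 (hPN hx)]
        group
    refine ⟨f, hf, fun x hx => D.τ_inj (hfN x (hPZ hx)) (hPN (autFun_mem a hx)) ?_⟩
    rw [hfe x (hPZ hx), hge x hx]
    have h1 := Subgroup.mem_centralizer_iff.1 hc (g * D.τ x * g⁻¹)
      (hgP.le (conj_mem_conjBy (D.τ_mem hPN hx)))
    calc c * g * D.τ x * (c * g)⁻¹ = c * (g * D.τ x * g⁻¹) * c⁻¹ := by group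
      _ = g * D.τ x * g⁻¹ := by rw [← h1]; group

theorem aZero_back (hf : IsMap F P f) (hi : img P f = R) {b : MulAut R} (hb : b ∈ aZero h R) :
    ∃ a ∈ aZero h P, ∀ x ∈ P, autFun b (f x) = f (autFun a x) := by
  subst hi
  obtain ⟨f', hf', hf'1, hf'2⟩ := hf.exists_inv
  have hi' : img (img P f) f' = P := by
    rw [img_img hf, IsMap.img_congr (f := f' ∘ f) (g := id) hf'1, img_id]
  have h1 := aZero_transport hf' hb
  have hval : ∀ y ∈ img P f, autFun (MulAut.congr (mapEquiv hf') b) (f' y) = f' (autFun b y) :=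
    fun y hy => autFun_congr hf' b hy
  revert h1 hval
  generalize MulAut.congr (mapEquiv hf') b = a
  revert a
  rw [hi']
  intro a h1 hval
  refine ⟨a, h1, fun x hx => ?_⟩
  have h2 := hval _ (hf.mem_img.2 ⟨x, hx, rfl⟩)
  rw [hf'1 x hx] at h2
  rw [h2, (hf'2 _ (autFun_mem b (hf.mem_img.2 ⟨x, hx, rfl⟩))).2]

/-- Maps between normalizers carry richness along. -/
theorem Rich.map (hr : Rich h P) (hP : P ≤ S) {θ : Ω → Ω}
    (hθ : IsMap (prodSys h) (normalizerIn S P) θ)
    (hN : img (normalizerIn S P) θ = normalizerIn S (img P θ)) : Rich h (img P θ) := by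
  have hPN : P ≤ normalizerIn S P := le_normalizerIn hP
  have hθP := (isMap_F_of_prod h hθ).mono hPN
  haveI := finite_of_le hP
  haveI := finite_of_le hθP.img_le
  haveI := finite_mulAut (P := P)
  haveI := finite_mulAut (P := img P θ)
  constructor
  · set e := (MulAut.congr (mapEquiv hθP)).toMonoidHom with he
    have hA : (aZero h P).map e = aZero h (img P θ) := by
      refine le_antisymm ?_ fun b hb => ?_
      · rintro _ ⟨a, ha, rfl⟩
        exact aZero_transport hθP ha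
      · obtain ⟨a, ha, hae⟩ := aZero_back hθP rfl hb
        refine ⟨a, ha, autFun_ext fun y hy => ?_⟩
        obtain ⟨x, hx, rfl⟩ := hθP.mem_img.1 hy
        rw [hae x hx]
        exact autFun_congr hθP a hx
    have hle : (autInducedBy S P ⊓ aZero h P).map e ≤
        autInducedBy S (img P θ) ⊓ aZero h (img P θ) := by
      rintro _ ⟨a, ha, rfl⟩
      refine Subgroup.mem_inf.2 ⟨?_, hA.le ⟨a, ha.2, rfl⟩⟩
      obtain ⟨n, hn, hne⟩ := mem_autInducedBy_iff.1 ha.1
      have hn' : n ∈ normalizerIn S P := ⟨hn, mem_normalizer_of_autFun hne⟩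
      refine mem_autInducedBy_iff.2 ⟨θ n, hθ.mem_S hn', fun y hy => ?_⟩
      obtain ⟨x, hx, rfl⟩ := hθP.mem_img.1 hy
      rw [show autFun (e a) (θ x) = θ (autFun a x) from autFun_congr hθP a hx, hne x hx,
        hθ.map_conj hn' (hPN hx)]
    intro hd
    refine hr.index ?_
    have h1 := hd.trans (Subgroup.relIndex_dvd_of_le_left _ hle)
    rwa [← hA, Subgroup.relIndex_map_map_of_injective _ _
      (MulAut.congr (mapEquiv hθP)).injective] at h1
  · intro b hb Z hPZ hZ hcond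
    obtain ⟨a, ha, hae⟩ := aZero_back hθP rfl hb
    obtain ⟨θ', hθ', hθ'1, hθ'2⟩ := hθ.exists_inv
    rw [hN] at hθ' hθ'2
    have hZ' := hθ'.mono hZ
    have hmem : ∀ x ∈ P, θ x ∈ img P θ := fun x hx => hθP.mem_img.2 ⟨x, hx, rfl⟩
    have hPZ' : P ≤ img Z θ' := fun x hx =>
      hZ'.mem_img.2 ⟨θ x, hPZ (hmem x hx), hθ'1 x (hPN hx)⟩
    obtain ⟨f, hf, hfe⟩ := hr.ext a ha (img Z θ') hPZ'
      (hZ'.img_le_of_forall fun z hz => (hθ'2 z (hZ hz)).1) fun u hu => by
        obtain ⟨z, hz, rfl⟩ := hZ'.mem_img.1 hu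
        obtain ⟨hzN, hze⟩ := hθ'2 z (hZ hz)
        obtain ⟨m, hm, hme⟩ := hcond z hz
        obtain ⟨hmN, hme'⟩ := hθ'2 m hm
        refine ⟨θ' m, hmN, fun x hx => ?_⟩
        have hax := autFun_mem a hx
        have hzx := (Subgroup.mem_normalizer_iff.1 hzN.2 x).1 hx
        refine hθ.inj (hPN (autFun_mem a hzx)) (mul_mem (mul_mem hmN (hPN hax)) (inv_mem hmN)) ?_
        rw [← hae _ hzx, hθ.map_conj hzN (hPN hx), hθ.map_conj hmN (hPN hax), hze, hme',
          hme _ (hmem x hx), hae x hx]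
    have hfP : img P f = P := (IsMap.img_congr hfe).trans (img_autFun a)
    have hfN : ∀ u ∈ img Z θ', f u ∈ normalizerIn S P := fun u hu => by
      obtain ⟨z, hz, rfl⟩ := hZ'.mem_img.1 hu
      have h1 := map_mem_normalizerIn hf hPZ' hu (hθ'2 z (hZ hz)).1.2
      rwa [hfP] at h1
    refine ⟨θ ∘ (f ∘ θ'), (hZ'.comp hf fun z hz => hZ'.mem_img.2 ⟨z, hz, rfl⟩).comp hθ
      fun z hz => hfN _ (hZ'.mem_img.2 ⟨z, hz, rfl⟩), fun y hy => ?_⟩
    obtain ⟨x, hx, rfl⟩ := hθP.mem_img.1 hy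
    show θ (f (θ' (θ x))) = _
    rw [hθ'1 x (hPN hx), hfe x hx, hae x hx]

end CfsgLib.Fusion.Product
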