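import Cfsg.Agent.Lib.Fusion.System.Meet.ProductLift
import Cfsg.Agent.Lib.Fusion.System.Meet.Greatest
import Cfsg.Agent.Lib.Fusion.System.FamilySatCriterion

/-!
# The product system and moves to subgroups with large normalizers in `T`

`prodSys h` is generated by the conjugations by `S` and the automorphisms of order prime to `p` in
`aSub h R` for the `R` with `R ∩ T` self-centralizing in `T`. It contains `E`. Every `Q ≤ T` is
moved by a map of it on `N_S(Q)` to a member with largest normalizer in `T`.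
-/

set_option autoImplicit false
set_option maxHeartbeats 1000000
set_option linter.style.haveILetI false
set_option linter.unusedSectionVars false

open Subgroup
open scoped Classical Pointwise

namespace CfsgLib.Fusion.Product

open Cfsg (FusionSystem autInducedBy)
open Cfsg.FusionSystem (normalizerIn centralizerIn)
open CfsgLib.Fusion CfsgLib.Fusion.CentLift CfsgLib.Fusion.Meet
open CfsgLib.Fusion.FamilySat (SatAt autStab exists_move exists_to_normalized)

universe u

variable {Ω : Type u} [Group Ω] {S T : Subgroup Ω} {F : FusionSystem S} {p : ℕ}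
  {E : FusionSystem T} {P Q R C X : Subgroup Ω} {f g : Ω → Ω} [Finite S] [Fact p.Prime]

/-- The maps of the product. -/
inductive PrMap (h : Setup F p E E T) : Subgroup Ω → (Ω → Ω) → Prop
  | conj {P : Subgroup Ω} {s : Ω} : P ≤ S → s ∈ S → PrMap h P fun x => s * x * s⁻¹
  | gen {R P : Subgroup Ω} {a : MulAut R} : R ≤ S → SelfC F T (R ⊓ T) → a ∈ aSub h R →
      (orderOf a).Coprime p → P ≤ R → PrMap h P (autFun a)
  | comp {P R : Subgroup Ω} {f g : Ω → Ω} : PrMap h P f → PrMap h R g → (∀ x ∈ P, f x ∈ R) →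
      PrMap h P (g ∘ f)
  | congr {P : Subgroup Ω} {f g : Ω → Ω} : PrMap h P f → (∀ x ∈ P, g x = f x) → PrMap h P g

variable {h : Setup F p E E T}

theorem PrMap.isMap (hf : PrMap h P f) : IsMap F P f := by
  induction hf with
  | conj hP hs => exact isMap_conj hP hs
  | gen hR _ ha _ hle => exact ((mem_autGroup_iff hR).1 ha.1).mono hle
  | comp _ _ hm h1 h2 => exact h1.comp h2 hm
  | congr _ he h1 => exact h1.congr he

theorem PrMap.inverse (hf : PrMap h P f) :
    ∃ f', PrMap h (img P f) f' ∧ ∀ x ∈ P, f' (f x) = x := by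
  induction hf with
  | @conj P s hP hs =>
    exact ⟨_, .conj (isMap_conj (F := F) hP hs).img_le (S.inv_mem hs), fun x _ => by group⟩
  | @gen R P a hR hs ha hco hle =>
    have hm := ((mem_autGroup_iff hR).1 ha.1).mono hle
    exact ⟨_, .gen (a := a⁻¹) hR hs (inv_mem ha) (by rwa [orderOf_inv])
      (hm.img_le_of_forall fun x hx => autFun_mem a (hle hx)),
      fun x hx => PPrime.autFun_symm (hle hx)⟩
  | @comp P R f g h1 h2 hm ih1 ih2 =>
    obtain ⟨f', hf', hf1⟩ := ih1
    obtain ⟨g', hg', hg1⟩ := ih2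
    have hfm := h1.isMap
    have hgm := h2.isMap
    have hfR : img P f ≤ R := hfm.img_le_of_forall hm
    have hle : img P (g ∘ f) ≤ img R g := by
      rw [← img_img hfm]
      exact hgm.img_mono hfR
    refine ⟨f' ∘ g', ?_, fun x hx => by
      show f' (g' (g (f x))) = x
      rw [hg1 _ (hm x hx), hf1 x hx]⟩
    have hmono : PrMap h (img P (g ∘ f)) g' := (PrMap.comp (.conj
      (hle.trans hgm.img_le) S.one_mem) hg' fun y hy => by
        simpa using hle hy).congr fun y hy => by simp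
    refine hmono.comp hf' fun y hy => ?_
    obtain ⟨x, hx, rfl⟩ := (hfm.comp hgm hm).mem_img.1 hy
    show g' (g (f x)) ∈ img P f
    rw [hg1 _ (hm x hx)]
    exact hfm.mem_img.2 ⟨x, hx, rfl⟩
  | @congr P f g _ he ih =>
    obtain ⟨f', hf', h1⟩ := ih
    exact ⟨f', (IsMap.img_congr he).symm ▸ hf', fun x hx => by rw [he x hx, h1 x hx]⟩

variable (h)

/-- The product of `E` with `S`. -/
noncomputable def prodSys : FusionSystem S :=
  mkSystem F S (PrMap h)
    (fun _ _ hf => ⟨hf.isMap, hf.isMap.le, fun _ hx => hf.isMap.mem_S hx⟩)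
    (fun _ _ _ hf he => hf.congr he)
    (fun _ _ hP ht => .conj hP ht)
    (fun _ _ _ _ hf hg hm => hf.comp hg hm)
    (fun P f f' hf _ he => by
      obtain ⟨k, hk, hke⟩ := hf.inverse
      refine hk.congr fun y hy => ?_
      obtain ⟨x, hx, rfl⟩ := hf.isMap.mem_img.1 hy
      rw [he x hx, hke x hx])

theorem isMap_prodSys : IsMap (prodSys h) P f ↔ PrMap h P f := isMap_mkSystem_iff _

theorem prodSys_sub : (prodSys h).IsSubsystemOf F := fun _ _ hφ =>
  mem_hom_iff.2 ((isMap_prodSys h).1 (isMap_toFun hφ)).isMap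

theorem isMap_F_of_prod (hf : IsMap (prodSys h) P f) : IsMap F P f :=
  ((isMap_prodSys h).1 hf).isMap

theorem gen_mem_autGroup (hP : P ≤ S) (hPs : SelfC F T (P ⊓ T)) {a : MulAut P}
    (ha : a ∈ aSub h P) (hco : (orderOf a).Coprime p) : a ∈ (prodSys h).autGroup P :=
  (mem_autGroup_iff hP).2 ((isMap_prodSys h).2 (.gen hP hPs ha hco le_rfl))

variable {h}
variable (hE : E.IsNormalIn F p)
include hE

/-- `E` lies in the product. -/
theorem isMap_prod_of_E (hf : IsMap E P f) : IsMap (prodSys h) P f := by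
  have hTp := h.pgroup.to_le h.hTS
  haveI := finite_of_le h.hTS
  let E0 : FusionSystem T := mkSystem F T
    (fun P f => IsMap (prodSys h) P f ∧ P ≤ T ∧ ∀ x ∈ P, f x ∈ T)
    (fun P f hf => ⟨isMap_F_of_prod h hf.1, hf.2⟩)
    (fun P f g hf he => ⟨hf.1.congr he, hf.2.1, fun x hx => by rw [he x hx]; exact hf.2.2 x hx⟩)
    (fun P t hP ht => ⟨isMap_conj (hP.trans h.hTS) (h.hTS ht), hP,
      fun x hx => T.mul_mem (T.mul_mem ht (hP hx)) (T.inv_mem ht)⟩)
    (fun P R f g hf hg hm => ⟨hf.1.comp hg.1 hm, hf.2.1, fun x hx => hg.2.2 _ (hm x hx)⟩)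
    (fun P f f' hf _ he => by
      obtain ⟨k, hk, hk1, -⟩ := hf.1.exists_inv
      have hm : ∀ y ∈ img P f, f' y = k y := fun y hy => by
        obtain ⟨x, hx, rfl⟩ := hf.1.mem_img.1 hy
        rw [he x hx, hk1 x hx]
      refine ⟨hk.congr hm, hf.1.img_le_of_forall hf.2.2, fun y hy => ?_⟩
      obtain ⟨x, hx, rfl⟩ := hf.1.mem_img.1 hy
      rw [he x hx]
      exact hf.2.1 hx)
  refine ((isMap_mkSystem_iff _).1 (isMap_of_autGroup_le hTp h.side₁.sat (E := E0)
    (fun R hR α hα => ?_) hf)).1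
  have hRT : R ≤ T := hR.elim (fun e => e.le) fun hR => hR.1.1
  have hRS := hRT.trans h.hTS
  have hc : E.IsCentric R := by
    rcases hR with rfl | hR
    · exact ⟨le_rfl, fun Z hZ => by
        rw [eq_of_le_of_card_le le_rfl (isConj_le hZ).2 (isConj_card hZ).ge]
        exact inf_le_left⟩
    · exact hR.1
  have hRn : E.IsFullyNormalized R := by
    rcases hR with rfl | hR
    · exact isFullyNormalized_self
    · exact hR.2.1
  have hRs : SelfC F T (R ⊓ T) := by rw [inf_eq_left.2 hRT]; exact selfC_of_centric h hE.1 hc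
  obtain ⟨t, ht, β, hβ, he⟩ := exists_conj_mul_residual
    (IsSaturated.automized_receptive hTp h.side₁.sat hRn).1 ⟨α, hα⟩
  have hβp : (β : MulAut R) ∈ (prodSys h).autGroup R := by
    have hle : Cfsg.pResidual p (E.autGroup R) ≤
        ((prodSys h).autGroup R).comap (E.autGroup R).subtype := (Subgroup.closure_le _).2 fun b hb => by
      have hbm := (mem_autGroup_iff hRT).1 b.2
      refine gen_mem_autGroup h hRS hRs ⟨(mem_autGroup_iff hRS).2 (hbm.ofSubsystem h.side₁.sub),
        fun x hx => T.mul_mem (T.inv_mem (hRT hx)) (hbm.mem_S hx), hbm.mono inf_le_left⟩ ?_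
      have h1 : Nat.Coprime (orderOf b) p := hb
      rwa [← Subgroup.orderOf_coe] at h1
    exact hle hβ
  have hα' : α ∈ (prodSys h).autGroup R := by
    rw [show α = conjAut t ht.2 * (β : MulAut R) from autFun_ext fun x hx => by
      rw [show autFun α x = _ from he x hx, autFun_mul _ _ hx,
        autFun_conjAut ht.2 (autFun_mem _ hx)]]
    exact mul_mem (autInducedBy_le_autGroup hRS (conjAut_mem (h.hTS ht.1) ht.2)) hβp
  exact (mem_autGroup_iff hRT).2 ((isMap_mkSystem_iff _).2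
    ⟨(mem_autGroup_iff hRS).1 hα', hRT, fun x hx => hRT (autFun_mem α hx)⟩)

omit hE

/-- `Q` has the largest normalizer in `T` in its class. -/
def TMax (F : FusionSystem S) (T Q : Subgroup Ω) : Prop :=
  Q ≤ T ∧ ∀ f, IsMap F Q f → Nat.card (normalizerIn T (img Q f)) ≤ Nat.card (normalizerIn T Q)

theorem TMax.fullyNormalized (h : Setup F p E E T) (hQ : TMax F T Q) : E.IsFullyNormalized Q :=
  ⟨hQ.1, fun Z hZ => by
    obtain ⟨f, hf, rfl⟩ := isConj_iff.1 hZ
    exact hQ.2 f (hf.ofSubsystem h.side₁.sub)⟩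

theorem card_normalizerIn_T_le (h : Setup F p E E T) (hQT : Q ≤ T) (hg : IsMap F (normalizerIn T Q) g) :
    Nat.card (normalizerIn T Q) ≤ Nat.card (normalizerIn T (img Q g)) := by
  rw [← hg.card_img]
  refine card_le_of_le' (inf_le_left.trans h.hTS) (hg.img_le_of_forall fun x hx =>
    ⟨cl_mem h.closed hg hx hx.1, (map_mem_normalizerIn hg (le_normalizerIn hQT) hx hx.2).2⟩)

theorem TMax.of_map (h : Setup F p E E T) (hQ : TMax F T Q) (hg : IsMap F (normalizerIn T Q) g) :
    TMax F T (img Q g) := by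
  have hgQ := hg.mono (le_normalizerIn hQ.1)
  refine ⟨hgQ.img_le_of_forall fun x hx => cl_mem h.closed hgQ hx (hQ.1 hx), fun f hf => ?_⟩
  rw [img_img hgQ]
  exact (hQ.2 _ (hgQ.comp hf fun x hx => hgQ.mem_img.2 ⟨x, hx, rfl⟩)).trans
    (card_normalizerIn_T_le h hQ.1 hg)

variable (h) in
include h hE in
theorem exists_tmax (hQT : Q ≤ T) : ∃ e, IsMap E Q e ∧ TMax F T (img Q e) := by
  haveI := finite_of_le h.hTS
  obtain ⟨Z, hZ, hmax⟩ := exists_conj_max (F := E) hQT (fun Z => Nat.card (normalizerIn T Z))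
    fun Z => card_le_of_le' le_rfl inf_le_left
  obtain ⟨e, he, rfl⟩ := isConj_iff.1 hZ
  refine ⟨e, he, (isConj_le hZ).2, fun f hf => ?_⟩
  obtain ⟨α, hα, k, hk, hke⟩ := decomp_of_strongInv h.pgroup h.sat h.closed hE.1.2.2.1
    ((isInvariantIn_iff_strongInv h.pgroup h.sat hE.1.2.2.1 h.closed).1 hE.1.2.2) hf (isConj_le hZ).2
  set W := img (img Q e) k with hW
  have hWT : W ≤ T := hk.img_le
  have hTm := (mem_autGroup_iff h.hTS).1 hα
  have hTi := (mem_autGroup_iff h.hTS).1 (inv_mem hα)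
  have hi : img (img Q e) f = img W (autFun α) := by
    rw [hW, img_img hk]
    exact IsMap.img_congr hke
  have hback : img (img W (autFun α)) (autFun α⁻¹) = W := by
    rw [img_img (hTm.mono hWT)]
    exact (IsMap.img_congr (g := id) fun x hx => PPrime.autFun_symm (hWT hx)).trans img_id
  have h1 := card_normalizerIn_T_le h ((hTm.mono hWT).img_le_of_forall
    fun x hx => autFun_mem α (hWT hx)) (hTi.mono inf_le_left)
  rw [hback] at h1
  rw [hi]
  exact h1.trans (hmax W (isConj_trans hZ (isConj_iff.2 ⟨k, hk, rfl⟩)))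

variable (h) in
include h hE in
theorem selfC_of_tmax (hQ : TMax F T Q) (hc : centralizerIn T Q ≤ Q) : SelfC F T Q := by
  haveI := finite_of_le h.hTS
  refine selfC_of_centric h hE.1 ⟨hQ.1, fun Z hZ => ?_⟩
  obtain ⟨k, hk, rfl⟩ := isConj_iff.1 hZ
  have hTp := h.pgroup.to_le h.hTS
  have hfc := IsSaturated.isFullyCentralized hTp h.side₁.sat (hQ.fullyNormalized h)
  have hkC := hk.mono hc
  have heq : img (centralizerIn T Q) k = centralizerIn T (img Q k) := by
    refine eq_of_le_of_card_le (S := T) inf_le_left (hkC.img_le_of_forall fun x hx =>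
      map_mem_centralizerIn hk le_rfl (hc hx) hx.2) ?_
    rw [hkC.card_img]
    exact hfc.2 _ hZ
  rw [← heq]
  exact hk.img_mono hc

/-- One step: either the largest normalizer in `T` is reached, or it grows. -/
theorem exists_step (hE : E.IsNormalIn F p) (hQT : Q ≤ T) (hR : SelfC F T (normalizerIn T Q))
    (hsat : SatAt (prodSys h) p (normalizerIn T Q))
    (hRtop : ∀ C, (prodSys h).IsConj (normalizerIn T Q) C → (prodSys h).IsFullyNormalized C →
      TMax F T C) :
    ∃ φ, IsMap (prodSys h) (normalizerIn S Q) φ ∧ (TMax F T (img Q φ) ∨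
      Nat.card (normalizerIn T Q) < Nat.card (normalizerIn T (img Q φ))) := by
  have hS := h.pgroup
  haveI := finite_of_le h.hTS
  have hTp := hS.to_le h.hTS
  set R := normalizerIn T Q with hRdef
  have hRS : R ≤ S := inf_le_left.trans h.hTS
  obtain ⟨C, hCn, hCa, hCr, θ, hθ, hθC, hθN⟩ := exists_to_normalized hS hRS hsat
  have hRN : R ≤ normalizerIn S R := le_normalizerIn hRS
  have hθR := hθ.mono hRN
  have hRC : (prodSys h).IsConj R C := isConj_iff.2 ⟨θ, hθR, hθC⟩
  have hCmax := hRtop C hRC hCn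
  have hCT := hCmax.1
  have hCs : SelfC F T C := hθC ▸ hR.map h.closed (isMap_F_of_prod h hθR)
  have hNQ : normalizerIn S Q ≤ normalizerIn S R := fun n hn =>
    ⟨hn.1, Subgroup.mem_normalizer_iff.2 fun x =>
      and_congr (Subgroup.mem_normalizer_iff.1 (h.normal hn.1) x)
        (Subgroup.mem_normalizer_iff.1 (Subgroup.le_normalizer hn.2) x)⟩
  have hQR : Q ≤ R := le_normalizerIn hQT
  set X := img Q θ
  have hXC : X ≤ C := hθC ▸ hθR.img_mono hQR
  have hCS := hCa.1
  haveI := finite_of_le (hXC.trans hCS)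
  obtain ⟨δ, hδ, hfin, hX'C, hSyl, g, hg, hge⟩ := exists_move hS hCa hCr hXC
  set X' := img X (autFun δ) with hX'def
  have hQN : Q ≤ normalizerIn S Q := le_normalizerIn (hQT.trans h.hTS)
  have hmem : ∀ n ∈ normalizerIn S Q, θ n ∈ normalizerIn (normalizerIn S C) X := fun n hn =>
    ⟨hθN n (hNQ hn), (map_mem_normalizerIn hθ (hQR.trans hRN) (hNQ hn) hn.2).2⟩
  have hφ : IsMap (prodSys h) (normalizerIn S Q) (g ∘ θ) := (hθ.mono hNQ).comp hg hmem
  have hφi : img Q (g ∘ θ) = X' := by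
    rw [← img_img (hθR.mono hQR)]
    exact IsMap.img_congr fun x hx => hge x (hXC hx)
  refine ⟨g ∘ θ, hφ, ?_⟩
  rw [hφi]
  have hXn : ∀ c ∈ C, c ∈ Subgroup.normalizer (X : Set Ω) := fun c hc => by
    obtain ⟨r, hr, rfl⟩ := hθR.mem_img.1 (hθC.ge hc)
    exact (map_mem_normalizerIn hθR hQR hr hr.2).2
  have hδm := (mem_autGroup_iff hCS).1 hδ
  have hCle : C ≤ normalizerIn T X' := fun c hc => by
    refine ⟨hCT hc, ?_⟩
    obtain ⟨u, hu, rfl⟩ := hδm.mem_img.1 ((img_autFun δ).ge hc)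
    exact (map_mem_normalizerIn hδm hXC hu (hXn u hu)).2
  have hcard : Nat.card C = Nat.card R := isConj_card hRC
  by_cases hlt : Nat.card R < Nat.card (normalizerIn T X')
  · exact Or.inr hlt
  left
  have heqC : C = normalizerIn T X' :=
    eq_of_le_of_card_le (inf_le_left.trans h.hTS) hCle (by omega)
  have hX'T : X' ≤ T := hX'C.trans hCT
  -- a member with the largest normalizer
  obtain ⟨e, he, hemax⟩ := exists_tmax h hE hX'T
  obtain ⟨hau, hre⟩ := IsSaturated.automized_receptive hTp h.side₁.sat (hemax.fullyNormalized h)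
  obtain ⟨gE, hgE, hgEi, hgEN⟩ := exists_map_normalizer hTp hau hre (isConj_iff.2 ⟨e, he, rfl⟩)
  set Z := img X' e with hZdef
  set Y := img (normalizerIn T X') gE with hY
  have hYle : Y ≤ normalizerIn T Z := hgE.img_le_of_forall hgEN
  by_cases hYeq : Y = normalizerIn T Z
  · refine ⟨hX'T, fun f hf => ?_⟩
    obtain ⟨gi, hgi, hgi1, -⟩ := ((hgE.ofSubsystem h.side₁.sub).mono (le_normalizerIn hX'T)).exists_inv
    rw [hgEi] at hgi
    have hbk : img Z gi = X' := by
      rw [← hgEi, img_img (hgE.mono (le_normalizerIn hX'T))]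
      exact (IsMap.img_congr (g := id) hgi1).trans img_id
    have h1 := hemax.2 _ (hgi.comp hf fun z hz => hbk.le (hgi.mem_img.2 ⟨z, hz, rfl⟩))
    rw [← img_img hgi, hbk] at h1
    refine h1.trans (le_of_eq ?_)
    rw [← hYeq, hY, hgE.card_img]
  exfalso
  have hNZ : normalizerIn T Z ≤ S := inf_le_left.trans h.hTS
  haveI := finite_of_le hNZ
  obtain ⟨t, ht, htY⟩ := SetLike.exists_of_lt (lt_normalizerIn (hS.to_le hNZ) hYle hYeq)
  rw [← heqC] at hgE
  have hY' : Y = img C gE := by rw [hY, ← heqC]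
  rw [hY'] at ht htY
  have hgP := isMap_prod_of_E (h := h) hE hgE
  have hYC : (prodSys h).IsConj (img C gE) C :=
    isConj_symm (isConj_iff.2 ⟨gE, hgP, rfl⟩)
  obtain ⟨θ', hθ', hθ'C, hθ'N⟩ := exists_map_normalizer hS hCa hCr hYC
  have hYS : img C gE ≤ S := hgP.img_le
  have htN : t ∈ normalizerIn S (img C gE) := ⟨h.hTS ht.1.1, ht.2⟩
  have hYN : img C gE ≤ normalizerIn S (img C gE) := le_normalizerIn hYS
  have hgC : ∀ x ∈ C, gE x ∈ normalizerIn S (img C gE) := fun x hx =>
    hYN (hgP.mem_img.2 ⟨x, hx, rfl⟩)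
  set s := θ' t with hs
  have hsN : s ∈ normalizerIn S C := hθ'N t htN
  have hsT : s ∈ T := cl_mem h.closed (isMap_F_of_prod h hθ') htN ht.1.1
  have hdm : IsMap (prodSys h) C (θ' ∘ gE) := hgP.comp hθ' hgC
  have hdi : img C (θ' ∘ gE) = C := by rw [← img_img hgP, hθ'C]
  set d := autOf hdm hdi with hd
  have hd_e : ∀ x ∈ C, autFun d x = θ' (gE x) := fun x hx => autFun_autOf hdm hdi hx
  set X'' := img X' (autFun d)
  have hdM := (mem_autGroup_iff hCS).1 (autOf_mem hdm hdi)
  have hgX : ∀ x ∈ X', gE x ∈ Z := fun x hx =>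
    hgEi.le ((hgE.mono hX'C).mem_img.2 ⟨x, hx, rfl⟩)
  have hsX : ∀ x ∈ X'', s * x * s⁻¹ ∈ X'' := fun x hx => by
    obtain ⟨u, hu, rfl⟩ := (hdM.mono hX'C).mem_img.1 hx
    have hz := (Subgroup.mem_normalizer_iff.1 ht.1.2 _).1 (hgX u hu)
    obtain ⟨v, hv, hvz⟩ := (hgE.mono hX'C).mem_img.1 (hgEi.ge hz)
    refine (hdM.mono hX'C).mem_img.2 ⟨v, hv, ?_⟩
    rw [hd_e v (hX'C hv), hvz, hd_e u (hX'C hu), hs]
    exact hθ'.map_conj htN (hgC u (hX'C hu))
  haveI := finite_of_le hCS
  haveI := finite_mulAut (P := C)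
  set a := conjAut s hsN.2 with ha
  have haS : a ∈ autInducedBy S C := conjAut_mem hsN.1 hsN.2
  have hdA := autOf_mem hdm hdi
  have haP : a ∈ (prodSys h).autGroup C := autInducedBy_le_autGroup hCS haS
  set K := autStab ((prodSys h).autGroup C) X' hX'C with hK
  have haK : d⁻¹ * a * d ∈ K := by
    refine ⟨mul_mem (mul_mem (inv_mem hdA) haP) hdA, fun x hx => ?_⟩
    have hxC := hX'C hx
    obtain ⟨u, hu, hue⟩ := (hdM.mono hX'C).mem_img.1
      (hsX _ ((hdM.mono hX'C).mem_img.2 ⟨x, hx, rfl⟩))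
    rw [autFun_mul _ _ hxC, autFun_mul _ _ (autFun_mem d hxC),
      autFun_conjAut hsN.2 (autFun_mem d hxC), ← hue, PPrime.autFun_symm (hX'C hu)]
    exact hu
  have hzp : IsPGroup p (Subgroup.zpowers (d⁻¹ * a * d)) := by
    obtain ⟨j, hj⟩ := isPGroup_autInducedBy (P := C) hS ⟨a, haS⟩
    refine isPGroup_zpowers_of_pow (k := j) ?_
    have h1 : a ^ p ^ j = 1 := congrArg Subtype.val hj
    rw [show d⁻¹ * a * d = d⁻¹ * a * (d⁻¹)⁻¹ by group, conj_pow, h1, mul_one, mul_inv_cancel]
  obtain ⟨k, hk, hkz⟩ := exists_conj_le_of_not_dvd_relIndex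
    ((isPGroup_autInducedBy hS).to_le (inf_le_left (b := K))) inf_le_right hSyl hzp
    (Subgroup.zpowers_le.2 haK)
  obtain ⟨hcS, hcK⟩ := Subgroup.mem_inf.1
    (hkz (conj_mem_conjBy (g := k) (Subgroup.mem_zpowers _)))
  -- it lies in `Aut_E(C)`
  have haE : a ∈ E.autGroup C := (mem_autGroup_iff hCT).2
    ((isMap_conj hCT hsT).congr fun x hx => autFun_conjAut hsN.2 hx)
  have toF : ∀ {b}, b ∈ (prodSys h).autGroup C → b ∈ F.autGroup C := fun hb =>
    (mem_autGroup_iff hCS).2 (isMap_F_of_prod h ((mem_autGroup_iff hCS).1 hb))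
  set w := k * d⁻¹ with hw
  have hwF : w ∈ F.autGroup C := toF (mul_mem hk.1 (inv_mem hdA))
  have hwa : k * (d⁻¹ * a * d) * k⁻¹ = w * a * w⁻¹ := by rw [hw]; group
  rw [hwa] at hcS hcK
  have hwE : w * a * w⁻¹ ∈ E.autGroup C := conj_mem_autGroup h.side₁ hCT hwF haE
  obtain ⟨-, hidx⟩ := (isFullyAutomized_iff hTp).1
    (IsSaturated.automized_receptive hTp h.side₁.sat (hCmax.fullyNormalized h)).1
  have hAE := eq_of_le_of_isPGroup_of_not_dvd_relIndex
    ((isPGroup_autInducedBy hS).to_le inf_le_left)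
    (le_inf (autInducedBy_mono h.hTS) (autInducedBy_le_autGroup hCT)) inf_le_right hidx
  have hcT : w * a * w⁻¹ ∈ autInducedBy T C := hAE.le ⟨hcS, hwE⟩
  obtain ⟨t', ht', ht'e⟩ := mem_autInducedBy_iff.1 hcT
  have ht'X : t' ∈ Subgroup.normalizer (X' : Set Ω) := by
    refine conjBy_eq_iff.1 (eq_of_le_of_card_le (hX'C.trans hCS) (conjBy_le_iff.2 fun x hx => ?_)
      (card_conjBy t' X').ge)
    have h1 := hcK.2 x hx
    rwa [ht'e x (hX'C hx)] at h1
  have ht'C : t' ∈ C := heqC.ge ⟨ht', ht'X⟩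
  have hwm := (mem_autGroup_iff hCS).1 (inv_mem hwF)
  set r := autFun w⁻¹ t' with hr
  have hrC : r ∈ C := autFun_mem _ ht'C
  have hra : ∀ x ∈ C, s * x * s⁻¹ = r * x * r⁻¹ := fun x hx => by
    have hy := autFun_mem w hx
    have h1 := ht'e _ hy
    rw [autFun_mul _ _ hy, PPrime.autFun_symm hx, autFun_mul _ _ hx,
      autFun_conjAut hsN.2 hx] at h1
    have hsx : s * x * s⁻¹ ∈ C := (Subgroup.mem_normalizer_iff.1 hsN.2 x).1 hx
    calc s * x * s⁻¹ = autFun w⁻¹ (autFun w (s * x * s⁻¹)) := (PPrime.autFun_symm hsx).symm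
      _ = r * x * r⁻¹ := by
        rw [h1, hr, hwm.map_conj ht'C hy, PPrime.autFun_symm hx]
  have hrs : r⁻¹ * s ∈ centralizerIn T C := by
    refine ⟨T.mul_mem (T.inv_mem (hCT hrC)) hsT, Subgroup.mem_centralizer_iff.2 fun x hx => ?_⟩
    calc x * (r⁻¹ * s) = r⁻¹ * (r * x * r⁻¹) * s := by group
      _ = r⁻¹ * s * x := by rw [← hra x hx]; group
  have hsC : s ∈ C := by
    have h1 := C.mul_mem hrC (hCs.cent h.hTS hrs)
    rwa [mul_inv_cancel_left] at h1
  exact htY (hθ'.mem_of_mem_img hYN htN (hθ'C.ge hsC))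

/-- Every member of a self-centralizing class moves to the largest normalizer in `T`. -/
theorem exists_top (hE : E.IsNormalIn F p) (hQs : SelfC F T Q)
    (hsat : ∀ Y ≤ S, SelfC F T (Y ⊓ T) → Nat.card Q < Nat.card (Y ⊓ T : Subgroup Ω) →
      SatAt (prodSys h) p Y) :
    ∃ φ, IsMap (prodSys h) (normalizerIn S Q) φ ∧ TMax F T (img Q φ) := by
  induction hk : Nat.card T - Nat.card Q using Nat.strong_induction_on generalizing Q with
  | _ n ih =>
  subst hk
  induction hj : Nat.card T - Nat.card (normalizerIn T Q) using Nat.strong_induction_on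
    generalizing Q with
  | _ j ihj =>
  subst hj
  have hQT := hQs.le
  by_cases hQ : Q = T
  · subst hQ
    refine ⟨id, isMap_id inf_le_left, ?_⟩
    rw [img_id]
    refine ⟨le_rfl, fun f _ => ?_⟩
    rw [show normalizerIn Q Q = Q from inf_eq_left.2 Subgroup.le_normalizer]
    exact card_le_of_le' h.hTS inf_le_left
  set R := normalizerIn T Q with hRdef
  have hRT : R ≤ T := inf_le_left
  have hRs : SelfC F T R := hQs.mono (le_normalizerIn hQT) hRT
  have hlt : Nat.card Q < Nat.card R :=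
    card_lt_of_lt (hRT.trans h.hTS) (lt_normalizerIn_T h hQT hQ)
  have hRsat : SatAt (prodSys h) p R := by
    refine hsat R (hRT.trans h.hTS) (by rwa [inf_eq_left.2 hRT]) ?_
    rwa [inf_eq_left.2 hRT]
  have hRle : Nat.card R ≤ Nat.card T := card_le_of_le' h.hTS hRT
  obtain ⟨φ, hφ, hor⟩ := exists_step hE hQT hRs hRsat fun C hC hCn => by
    have hCF : F.IsConj R C := by
      obtain ⟨a, b, c⟩ := hC
      exact ⟨a, prodSys_sub h _ b, c⟩
    obtain ⟨c, hc, hcC⟩ := isConj_iff.1 hC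
    have hCs : SelfC F T C := hcC ▸ hRs.map h.closed (isMap_F_of_prod h hc)
    have hCc : Nat.card C = Nat.card R := isConj_card hC
    obtain ⟨ψ, hψ, hψm⟩ := ih (Nat.card T - Nat.card C) (by omega) hCs
      (fun Y hY hYs hlt' => hsat Y hY hYs (by omega)) rfl
    refine ⟨hCs.le, fun f hf => ?_⟩
    have hψC := hψ.mono (le_normalizerIn hCn.1)
    have hψN : img (normalizerIn S C) ψ = normalizerIn S (img C ψ) := by
      refine eq_of_le_of_card_le inf_le_left (hψ.img_le_of_forall fun x hx =>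
        map_mem_normalizerIn hψ (le_normalizerIn hCn.1) hx hx.2) ?_
      rw [hψ.card_img]
      exact hCn.2 _ (isConj_iff.2 ⟨ψ, hψC, rfl⟩)
    obtain ⟨ψi, hψi, hψi1, -⟩ := (isMap_F_of_prod h hψC).exists_inv
    have hback : img (img C ψ) ψi = C := by
      rw [img_img hψC]
      exact (IsMap.img_congr (g := id) hψi1).trans img_id
    have h1 := hψm.2 _ (hψi.comp hf fun y hy => hback.le (hψi.mem_img.2 ⟨y, hy, rfl⟩))
    rw [← img_img hψi, hback] at h1
    refine h1.trans ?_
    have hψF := isMap_F_of_prod h hψ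
    have hNT : normalizerIn S C ⊓ T = normalizerIn T C :=
      le_antisymm (fun x hx => ⟨hx.2, hx.1.2⟩) fun x hx => ⟨⟨h.hTS hx.1, hx.2⟩, hx.1⟩
    have e1 := img_inf_T h hψF
    rw [hψN, hNT] at e1
    have e2 : normalizerIn S (img C ψ) ⊓ T = normalizerIn T (img C ψ) :=
      le_antisymm (fun x hx => ⟨hx.2, hx.1.2⟩) fun x hx => ⟨⟨h.hTS hx.1, hx.2⟩, hx.1⟩
    rw [← e2, e1, (hψF.mono (normalizerIn_T_le h)).card_img]
  rcases hor with hmax | hgrow
  · exact ⟨φ, hφ, hmax⟩
  have hφQ := hφ.mono (le_normalizerIn (hQT.trans h.hTS))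
  have hQ's : SelfC F T (img Q φ) := hQs.map h.closed (isMap_F_of_prod h hφQ)
  have hQ'c : Nat.card (img Q φ) = Nat.card Q := hφQ.card_img
  obtain ⟨ψ, hψ, hψm⟩ := ihj (Nat.card T - Nat.card (normalizerIn T (img Q φ))) (by
      have : Nat.card (normalizerIn T (img Q φ)) ≤ Nat.card T := card_le_of_le' h.hTS inf_le_left
      simp only [hRdef] at *
      omega) hQ's (fun Y hY hYs hlt' => hsat Y hY hYs (by omega))
    (fun m hm => by rw [hQ'c] at hm; exact ih m hm) rfl
  refine ⟨ψ ∘ φ, hφ.comp hψ fun x hx =>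
    map_mem_normalizerIn hφ (le_normalizerIn (hQT.trans h.hTS)) hx hx.2, ?_⟩
  rwa [← img_img hφQ]

/-- A class not self-centralizing moves to a member not containing its centralizer in `T`. -/
theorem exists_notCentric (hE : E.IsNormalIn F p)
    (hsat : ∀ Y ≤ S, SelfC F T (Y ⊓ T) → SatAt (prodSys h) p Y) (hQT : Q ≤ T)
    (hQs : ¬ SelfC F T Q) :
    ∃ φ, IsMap (prodSys h) (normalizerIn S Q) φ ∧
      ¬ centralizerIn T (img Q φ) ≤ img Q φ := by
  induction hk : Nat.card T - Nat.card Q using Nat.strong_induction_on generalizing Q with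
  | _ n ih =>
  subst hk
  induction hj : Nat.card T - Nat.card (normalizerIn T Q) using Nat.strong_induction_on
    generalizing Q with
  | _ j ihj =>
  subst hj
  by_cases hc : centralizerIn T Q ≤ Q
  swap
  · exact ⟨id, isMap_id inf_le_left, by rwa [img_id]⟩
  have hQ : Q ≠ T := fun e => hQs (by rw [e]; exact selfC_T h)
  have hQS := hQT.trans h.hTS
  set R := normalizerIn T Q with hRdef
  have hRT : R ≤ T := inf_le_left
  have hlt : Nat.card Q < Nat.card R :=
    card_lt_of_lt (hRT.trans h.hTS) (lt_normalizerIn_T h hQT hQ)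
  have hRle : Nat.card R ≤ Nat.card T := card_le_of_le' h.hTS hRT
  have hNQ : normalizerIn S Q ≤ normalizerIn S R := fun n hn =>
    ⟨hn.1, Subgroup.mem_normalizer_iff.2 fun x =>
      and_congr (Subgroup.mem_normalizer_iff.1 (h.normal hn.1) x)
        (Subgroup.mem_normalizer_iff.1 (Subgroup.le_normalizer hn.2) x)⟩
  have hQR : Q ≤ R := le_normalizerIn hQT
  by_cases hRs : SelfC F T R
  · have hsat' : ∀ Y ≤ S, SelfC F T (Y ⊓ T) → ∀ m, m < Nat.card (Y ⊓ T : Subgroup Ω) →
        SatAt (prodSys h) p Y := fun Y hY hYs _ _ => hsat Y hY hYs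
    obtain ⟨φ, hφ, hor⟩ := exists_step hE hQT hRs
      (hsat R (hRT.trans h.hTS) (by rwa [inf_eq_left.2 hRT])) fun C hC hCn => by
        obtain ⟨c, hc', hcC⟩ := isConj_iff.1 hC
        have hCs : SelfC F T C := hcC ▸ hRs.map h.closed (isMap_F_of_prod h hc')
        obtain ⟨ψ, hψ, hψm⟩ := exists_top hE hCs fun Y hY hYs _ => hsat Y hY hYs
        refine ⟨hCs.le, fun f hf => ?_⟩
        have hψC := hψ.mono (le_normalizerIn hCn.1)
        have hψN : img (normalizerIn S C) ψ = normalizerIn S (img C ψ) := by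
          refine eq_of_le_of_card_le inf_le_left (hψ.img_le_of_forall fun x hx =>
            map_mem_normalizerIn hψ (le_normalizerIn hCn.1) hx hx.2) ?_
          rw [hψ.card_img]
          exact hCn.2 _ (isConj_iff.2 ⟨ψ, hψC, rfl⟩)
        obtain ⟨ψi, hψi, hψi1, -⟩ := (isMap_F_of_prod h hψC).exists_inv
        have hback : img (img C ψ) ψi = C := by
          rw [img_img hψC]
          exact (IsMap.img_congr (g := id) hψi1).trans img_id
        have h1 := hψm.2 _ (hψi.comp hf fun y hy => hback.le (hψi.mem_img.2 ⟨y, hy, rfl⟩))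
        rw [← img_img hψi, hback] at h1
        refine h1.trans ?_
        have hψF := isMap_F_of_prod h hψ
        have hNT : normalizerIn S C ⊓ T = normalizerIn T C :=
          le_antisymm (fun x hx => ⟨hx.2, hx.1.2⟩) fun x hx => ⟨⟨h.hTS hx.1, hx.2⟩, hx.1⟩
        have e1 := img_inf_T h hψF
        rw [hψN, hNT] at e1
        have e2 : normalizerIn S (img C ψ) ⊓ T = normalizerIn T (img C ψ) :=
          le_antisymm (fun x hx => ⟨hx.2, hx.1.2⟩) fun x hx => ⟨⟨h.hTS hx.1, hx.2⟩, hx.1⟩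
        rw [← e2, e1, (hψF.mono (normalizerIn_T_le h)).card_img]
    have hφQ := hφ.mono (le_normalizerIn hQS)
    have hnot : ¬ SelfC F T (img Q φ) := fun hs => by
      obtain ⟨φi, hφi, h1, -⟩ := (isMap_F_of_prod h hφQ).exists_inv
      have h2 := hs.map h.closed hφi
      rw [img_img hφQ, IsMap.img_congr (f := φi ∘ φ) (g := id) h1, img_id] at h2
      exact hQs h2
    rcases hor with hmax | hgrow
    · exact ⟨φ, hφ, fun hle => hnot (selfC_of_tmax h hE hmax hle)⟩
    · have hQ'T : img Q φ ≤ T := hφQ.img_le_of_forall fun x hx =>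
        cl_mem h.closed (isMap_F_of_prod h hφQ) hx (hQT hx)
      obtain ⟨ψ, hψ, hψc⟩ := ihj (Nat.card T - Nat.card (normalizerIn T (img Q φ))) (by
          have : Nat.card (normalizerIn T (img Q φ)) ≤ Nat.card T := card_le_of_le' h.hTS inf_le_left
          simp only [hRdef] at *
          omega) hQ'T hnot (fun m hm => by rw [hφQ.card_img] at hm; exact ih m hm) rfl
      refine ⟨ψ ∘ φ, hφ.comp hψ fun x hx => map_mem_normalizerIn hφ (le_normalizerIn hQS) hx hx.2, ?_⟩
      rwa [← img_img hφQ]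
  · obtain ⟨φ, hφ, hφc⟩ := ih (Nat.card T - Nat.card R) (by omega) hRT hRs rfl
    have hφQ := hφ.mono (hQR.trans (le_normalizerIn (hRT.trans h.hTS)))
    refine ⟨φ, hφ.mono hNQ, fun hle => hφc fun z hz => ?_⟩
    refine (hφ.mono (le_normalizerIn (hRT.trans h.hTS))).img_mono hQR (hle ⟨hz.1,
      Subgroup.centralizer_le ?_ hz.2⟩)
    exact (hφ.mono (le_normalizerIn (hRT.trans h.hTS))).img_mono hQR

end CfsgLib.Fusion.Product
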